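import Groth.Agent.AlgSp.K598.Site
import Mathlib.AlgebraicGeometry.AlgClosed.Basic

/-!
# fppf coverings of the spectrum of an algebraically closed field have a section
-/

set_option autoImplicit false
universe u
open CategoryTheory CategoryTheory.Limits AlgebraicGeometry Opposite

namespace K746.AlgPt

variable {Ω : Type u} [Field Ω] [IsAlgClosed Ω]

/-- A nonempty scheme locally of finite type over an algebraically closed field has a rational point. -/
theorem exists_section {X : Scheme.{u}} (p : X ⟶ Spec (CommRingCat.of Ω)) [LocallyOfFiniteType p]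
    [hX : Nonempty X] : ∃ s : Spec (CommRingCat.of Ω) ⟶ X, s ≫ p = 𝟙 _ := by
  obtain ⟨x⟩ := hX
  obtain ⟨V, hV, hx, -⟩ := exists_isAffineOpen_mem_and_subset (x := x) (U := ⊤) trivial
  have : IsAffine (V : Scheme.{u}) := hV
  have : Nonempty (V : Scheme.{u}) := ⟨⟨x, hx⟩⟩
  obtain ⟨y, -, hy⟩ := IsClosed.exists_closed_singleton
    (isClosed_univ : IsClosed (Set.univ : Set (V : Scheme.{u}))) Set.univ_nonempty
  exact ⟨pointOfClosedPoint (V.ι ≫ p) y hy ≫ V.ι, by
    rw [Category.assoc, pointOfClosedPoint_comp]⟩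

variable {S : Scheme.{u}}

/-- fppf covering sieves of the spectrum of an algebraically closed field are trivial. -/
theorem mem_of_mem_J (t : Spec (CommRingCat.of Ω) ⟶ S) {R : Sieve (Over.mk t)} (hR : R ∈ AlgSp.J S (Over.mk t)) :
    R (𝟙 _) := by
  obtain ⟨T', q, hq, -, h2, h3⟩ := K598.Site.exists_family_of_mem hR
  let c : ↥(Over.mk t).left := IsLocalRing.closedPoint Ω
  obtain ⟨y, -⟩ := h3 c
  have := h2 c
  have : Nonempty ↥(T' c).left := ⟨y⟩
  obtain ⟨s, hs⟩ := exists_section (q c).left
  have hs' : s ≫ (T' c).hom = t := by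
    rw [← Over.w (q c), reassoc_of% hs]
    rfl
  have e : (Over.homMk s hs' : Over.mk t ⟶ T' c) ≫ q c = 𝟙 _ := by
    ext
    exact hs
  rw [← e]
  exact R.downward_closed (hq c) _

end K746.AlgPt
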