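import Groth.Agent.AlgSt.K746.ModBC
import Groth.Agent.AlgSt.K746.AlgPt
import Groth.Agent.AlgSt.K735.Pts
import Groth.Prelude.Def_StCoarse
import Mathlib.FieldTheory.IsAlgClosed.AlgebraicClosure

/-!
# Bijectivity on geometric points
-/

set_option autoImplicit false
set_option backward.isDefEq.respectTransparency false
set_option backward.isDefEq.respectTransparency.types false

universe w v u

open CategoryTheory CategoryTheory.Limits AlgebraicGeometry Opposite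
open K734.Fib K598.Site

namespace K746.GeomBij

variable {S : Scheme.{u}} {𝒳 : BasedCategory.{v, w} (Over S)} {M : AlgSp.Sp S} {π : 𝒳 ⥤ᵇ AlgSt.ofSp M}

/-- The two halves of `GeomPtBij` in terms of objects. -/
theorem surj (h : AlgSt.GeomPtBij π) {Ω : Type u} [Field Ω] [IsAlgClosed Ω] (t : Spec (CommRingCat.of Ω) ⟶ S)
    (m : M.obj.obj (op (Over.mk t))) : ∃ x : 𝒳.obj, 𝒳.p.obj x = Over.mk t ∧ π.obj x = ⟨Over.mk t, m⟩ := by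
  obtain ⟨x, hx⟩ := (h Ω t).1 m
  exact ⟨x.1, x.2, (fibSec_eq_iff π x m).1 hx⟩

theorem inj (h : AlgSt.GeomPtBij π) {Ω : Type u} [Field Ω] [IsAlgClosed Ω] (t : Spec (CommRingCat.of Ω) ⟶ S)
    {x y : 𝒳.obj} (hx : 𝒳.p.obj x = Over.mk t) (hy : 𝒳.p.obj y = Over.mk t) (hxy : π.obj x = π.obj y) :
    ∃ φ : x ⟶ y, IsVert 𝒳 φ := by
  have h1 : AlgSt.fibSec π (⟨x, hx⟩ : 𝒳.p.Fiber (Over.mk t)) = AlgSt.fibSec π (⟨y, hy⟩ : 𝒳.p.Fiber (Over.mk t)) := by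
    rw [fibSec_eq_iff, fibSec_eq]
    exact hxy.trans (secOf_spec π y hy)
  obtain ⟨e⟩ := (h Ω t).2 _ _ h1
  exact exists_vert_of_fiberIso e

theorem geomPtBij_of (h𝒳 : FibCat.IsFibGrpd 𝒳.p)
    (h1 : ∀ {Ω : Type u} [Field Ω] [IsAlgClosed Ω] (t : Spec (CommRingCat.of Ω) ⟶ S) (m : M.obj.obj (op (Over.mk t))),
      ∃ x : 𝒳.obj, 𝒳.p.obj x = Over.mk t ∧ π.obj x = ⟨Over.mk t, m⟩)
    (h2 : ∀ {Ω : Type u} [Field Ω] [IsAlgClosed Ω] (t : Spec (CommRingCat.of Ω) ⟶ S) {x y : 𝒳.obj},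
      𝒳.p.obj x = Over.mk t → 𝒳.p.obj y = Over.mk t → π.obj x = π.obj y → ∃ φ : x ⟶ y, IsVert 𝒳 φ) :
    AlgSt.GeomPtBij π := by
  intro Ω _ _ t
  refine ⟨fun m => ?_, fun x y hxy => ?_⟩
  · obtain ⟨x, hx, hm⟩ := h1 t m
    exact ⟨⟨x, hx⟩, (fibSec_eq_iff π _ m).2 hm⟩
  · have h3 : π.obj x.1 = π.obj y.1 := by
      rw [fibSec_eq_iff, fibSec_eq] at hxy
      exact hxy.trans (secOf_spec π y.1 y.2).symm
    obtain ⟨φ, hφ⟩ := h2 t x.2 y.2 h3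
    exact nonempty_fiberIso h𝒳 φ hφ

/-- a field valued point restricted to an algebraic closure -/
theorem exists_geom (p : AlgSt.FPt 𝒳) : ∃ (Ω : Type u) (_ : Field Ω) (_ : IsAlgClosed Ω)
    (t : Spec (CommRingCat.of Ω) ⟶ S), Nonempty ((Over.mk t : Over S) ⟶ Over.mk p.str) := by
  refine ⟨AlgebraicClosure p.K, inferInstance, inferInstance,
    Spec.map (CommRingCat.ofHom (algebraMap p.K (AlgebraicClosure p.K))) ≫ p.str, ⟨Over.homMk _ rfl⟩⟩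

theorem surjective_map (h : AlgSt.GeomPtBij π) : Function.Surjective (AlgSt.Points.map π) := by
  intro y
  obtain ⟨p, rfl⟩ := AlgSt.Points.mk_surjective y
  obtain ⟨Ω, _, _, t, ⟨f⟩⟩ := exists_geom p
  obtain ⟨b, φ, hφ⟩ := exists_lift (isFibGrpd_ofPsh' M.obj) p.lies f
  have hb : (AlgSt.ofSp M).p.obj b = Over.mk t := IsHomLift.domain_eq (AlgSt.ofSp M).p f φ
  obtain ⟨T', m⟩ := b
  obtain rfl : T' = Over.mk t := hb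
  obtain ⟨x, hx, hm⟩ := surj h t m
  exact ⟨AlgSt.Points.mk ⟨Ω, t, x, hx⟩, K735.Pts.mk_eq_of_hom (eqToHom hm ≫ φ)⟩

theorem surjective_map_diag (h𝒳 : FibCat.IsFibGrpd 𝒳.p) (h : AlgSt.GeomPtBij π) :
    Function.Surjective (AlgSt.Points.map (FibCat.diag π)) := by
  intro y
  obtain ⟨p, rfl⟩ := AlgSt.Points.mk_surjective y
  obtain ⟨Ω, _, _, t, ⟨f⟩⟩ := exists_geom p
  obtain ⟨b, φ, hφ⟩ := exists_lift (isFibGrpd_fp π π h𝒳 h𝒳 (isFibGrpd_ofPsh' M.obj)) p.lies f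
  have hb : (FibCat.fp π π).p.obj b = Over.mk t := IsHomLift.domain_eq (FibCat.fp π π).p f φ
  have hi := iso_vert b
  have hb' : 𝒳.p.obj b.obj.snd = Over.mk t := by
    refine Eq.trans ?_ hb
    exact ((π.w_obj _).symm.trans hi.obj_eq.symm).trans (π.w_obj _)
  have hi' : π.obj b.obj.fst = π.obj b.obj.snd := eq_of_vert hi
  obtain ⟨e, he⟩ := inj h t hb hb' hi'
  refine ⟨AlgSt.Points.mk ⟨Ω, t, b.obj.fst, hb⟩, K735.Pts.mk_eq_of_hom (?_ ≫ φ)⟩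
  refine mkHomFp (a := (FibCat.diag π).obj b.obj.fst) (b := b) (𝟙 _) e ?_
  have v1 : IsVert (AlgSt.ofSp M) (π.map (𝟙 b.obj.fst) ≫ b.obj.iso.hom) := ((IsVert.id _).map π).comp hi
  have v2 : IsVert (AlgSt.ofSp M) (((FibCat.diag π).obj b.obj.fst).obj.iso.hom ≫ π.map e) :=
    (iso_vert ((FibCat.diag π).obj b.obj.fst)).comp (he.map π)
  exact eq_of_lift (isFibSetoid_ofPsh _) (f := 𝟙 _) (v1.lift rfl) (v2.lift rfl)

section Chart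

variable {U R : Over S} {F : AlgSt.ofSch U ⥤ᵇ 𝒳} {s t : R ⟶ U}

theorem exists_vert_chart (hls : LocSurj (AlgSp.J S) F) {Ω : Type u} [Field Ω] [IsAlgClosed Ω]
    {t₀ : Spec (CommRingCat.of Ω) ⟶ S} {x : 𝒳.obj} (hx : 𝒳.p.obj x = Over.mk t₀) :
    ∃ (u : Over.mk t₀ ⟶ U) (m : F.obj ⟨Over.mk t₀, ⟨u⟩⟩ ⟶ x), IsVert 𝒳 m := by
  obtain ⟨Q, hQ, hz⟩ := hls x
  have h1 := AlgPt.mem_of_mem_J t₀ ((AlgSp.J S).pullback_stable (eqToHom hx.symm) hQ)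
  obtain ⟨⟨T₁, ⟨u⟩⟩, m, hm⟩ := hz _ h1
  obtain rfl : T₁ = Over.mk t₀ := (F.w_obj _).symm.trans (IsHomLift.domain_eq 𝒳.p (𝟙 _ ≫ eqToHom hx.symm) m)
  refine ⟨u, m, isVert_iff.2 ⟨(F.w_obj _).trans hx.symm, ?_⟩⟩
  have h2 : 𝒳.p.IsHomLift (𝟙 _ ≫ eqToHom hx.symm) m := hm
  rw [IsHomLift.fac' 𝒳.p (𝟙 _ ≫ eqToHom hx.symm) m]
  simp

theorem geomPtBij_of_chart (h𝒳 : FibCat.IsFibGrpd 𝒳.p) (hls : LocSurj (AlgSp.J S) F) (hrel : RelBy F s t)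
    {p : (AlgSp.yon S).obj U ⟶ M} (hπ : ∀ y, π.obj (F.obj y) = (AlgSt.ofSpMap p).obj y)
    (h1 : ∀ {Ω : Type u} [Field Ω] [IsAlgClosed Ω] (t₀ : Spec (CommRingCat.of Ω) ⟶ S)
      (m : M.obj.obj (op (Over.mk t₀))), ∃ u : Over.mk t₀ ⟶ U, p.hom.app _ ⟨u⟩ = m)
    (h2 : ∀ {Ω : Type u} [Field Ω] [IsAlgClosed Ω] (t₀ : Spec (CommRingCat.of Ω) ⟶ S)
      (u v : Over.mk t₀ ⟶ U), p.hom.app _ ⟨u⟩ = p.hom.app _ ⟨v⟩ → ∃ r : Over.mk t₀ ⟶ R, r ≫ s = u ∧ r ≫ t = v) :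
    AlgSt.GeomPtBij π := by
  refine geomPtBij_of h𝒳 ?_ ?_
  · intro Ω _ _ t₀ m
    obtain ⟨u, hu⟩ := h1 t₀ m
    refine ⟨F.obj ⟨Over.mk t₀, ⟨u⟩⟩, F.w_obj _, (hπ _).trans ?_⟩
    exact congrArg (fun z => (⟨Over.mk t₀, z⟩ : Stk.EltObj M.obj)) hu
  · intro Ω _ _ t₀ x y hx hy hxy
    obtain ⟨u, m, hm⟩ := exists_vert_chart hls hx
    obtain ⟨v, n, hn⟩ := exists_vert_chart hls hy
    have e1 : π.obj (F.obj ⟨Over.mk t₀, ⟨u⟩⟩) = π.obj x := eq_of_vert (hm.map π)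
    have e2 : π.obj (F.obj ⟨Over.mk t₀, ⟨v⟩⟩) = π.obj y := eq_of_vert (hn.map π)
    rw [hπ] at e1 e2
    have e3 : p.hom.app _ ⟨u⟩ = p.hom.app _ ⟨v⟩ := elt_inj (e1.trans (hxy.trans e2.symm))
    obtain ⟨r, hr⟩ := h2 t₀ u v e3
    obtain ⟨φ, hφ⟩ := (hrel u v).2 ⟨r, hr⟩
    have := isIso_of_vert h𝒳 hm
    exact ⟨CategoryTheory.inv m ≫ φ ≫ n, (IsVert.isIso_inv hm).comp (hφ.comp hn)⟩

end Chart

end K746.GeomBij
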