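import Groth.Agent.AlgSt.K746.WnaRep
import Groth.Agent.AlgSt.K734.RepSp

/-!
# Categorical moduli spaces in terms of a chart and its groupoid
-/

set_option autoImplicit false
set_option backward.isDefEq.respectTransparency false
set_option backward.isDefEq.respectTransparency.types false

universe w' v' w v u

open CategoryTheory CategoryTheory.Limits AlgebraicGeometry Opposite
open K734.Fib K598.Site

namespace K746

variable {S : Scheme.{u}} {𝒳 : BasedCategory.{v, w} (Over S)} {U R : Over S}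

/-- `F : h_U ⟶ 𝒳` identifies exactly the points related by `(s, t) : R ⟶ U × U`. -/
def RelBy (F : AlgSt.ofSch U ⥤ᵇ 𝒳) (s t : R ⟶ U) : Prop :=
  ∀ ⦃T : Over S⦄ (u v : T ⟶ U), (∃ φ : F.obj ⟨T, ⟨u⟩⟩ ⟶ F.obj ⟨T, ⟨v⟩⟩, IsVert 𝒳 φ) ↔
    ∃ r : T ⟶ R, r ≫ s = u ∧ r ≫ t = v

variable {F : AlgSt.ofSch U ⥤ᵇ 𝒳} {s t : R ⟶ U}

theorem RelBy.inv_iff (h : RelBy F s t) {N : AlgSp.Sp S} (a : (AlgSp.yon S).obj U ⟶ N) :
    (∀ (y y' : (AlgSt.ofSch U).obj) (φ : F.obj y ⟶ F.obj y'), IsVert 𝒳 φ →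
      (AlgSt.ofSpMap a).obj y = (AlgSt.ofSpMap a).obj y') ↔
    (AlgSp.yon S).map s ≫ a = (AlgSp.yon S).map t ≫ a := by
  constructor
  · intro H
    apply ObjectProperty.hom_ext
    ext T ⟨r⟩
    obtain ⟨φ, hφ⟩ := (h (r ≫ s) (r ≫ t)).2 ⟨r, rfl, rfl⟩
    exact elt_inj (H _ _ φ hφ)
  · rintro H ⟨T, ⟨u⟩⟩ ⟨T', ⟨v⟩⟩ φ hφ
    obtain rfl : T = T' := by
      have h1 := hφ.obj_eq
      exact (F.w_obj _).symm.trans (h1.trans (F.w_obj _))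
    obtain ⟨r, rfl, rfl⟩ := (h u v).1 ⟨φ, hφ⟩
    have h2 : ((AlgSp.yon S).map s ≫ a).hom.app (op T) ⟨r⟩ = ((AlgSp.yon S).map t ≫ a).hom.app (op T) ⟨r⟩ := by
      rw [H]
    exact congrArg (fun z => (⟨T, z⟩ : Stk.EltObj N.obj)) h2

variable (h𝒳 : FibCat.IsFibGrpd 𝒳.p)
include h𝒳

/-- Invariant maps descend. -/
theorem RelBy.exists_desc (h : RelBy F s t) (hF : LocSurj (AlgSp.J S) F) {M : AlgSp.Sp S}
    (p : (AlgSp.yon S).obj U ⟶ M) (hp : (AlgSp.yon S).map s ≫ p = (AlgSp.yon S).map t ≫ p) :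
    ∃ π : 𝒳 ⥤ᵇ AlgSt.ofSp M, ∀ y, π.obj (F.obj y) = (AlgSt.ofSpMap p).obj y :=
  K746.exists_desc h𝒳 (isFibGrpd_ofPsh' _) hF (isSheaf_obj M) ((h.inv_iff p).2 hp)

theorem RelBy.isCatModuliIn_iff (h : RelBy F s t) (hF : LocSurj (AlgSp.J S) F) {M : AlgSp.Sp S}
    {π : 𝒳 ⥤ᵇ AlgSt.ofSp M} {p : (AlgSp.yon S).obj U ⟶ M}
    (hp : ∀ y, π.obj (F.obj y) = (AlgSt.ofSpMap p).obj y) {C : ObjectProperty (AlgSp.Sp S)} :
    AlgSt.IsCatModuliIn C π ↔ C M ∧ ∀ (N : AlgSp.Sp S), C N → ∀ a : (AlgSp.yon S).obj U ⟶ N,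
      (AlgSp.yon S).map s ≫ a = (AlgSp.yon S).map t ≫ a → ∃! g : M ⟶ N, p ≫ g = a := by
  rw [isCatModuliIn_iff_of_locSurj h𝒳 (isFibGrpd_ofPsh' _) hF hp]
  have key : ∀ {N : AlgSp.Sp S} (a : (AlgSp.yon S).obj U ⟶ N) (g : M ⟶ N),
      (∀ y, (BasedFunctor.comp (AlgSt.ofSpMap p) (AlgSt.ofSpMap g)).obj y = (AlgSt.ofSpMap a).obj y) ↔ p ≫ g = a := by
    intro N a g
    constructor
    · intro H
      apply ObjectProperty.hom_ext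
      ext T ⟨u⟩
      exact elt_inj (H ⟨T.unop, ⟨u⟩⟩)
    · rintro rfl y
      rfl
  refine and_congr_right fun _ => forall_congr' fun N => imp_congr_right fun _ => ?_
  constructor
  · intro H a ha
    obtain ⟨g, hg, hu⟩ := H (AlgSt.ofSpMap a) ((h.inv_iff a).2 ha)
    exact ⟨g, (key a g).1 hg, fun g' hg' => hu g' ((key a g').2 hg')⟩
  · intro H Φ hΦ
    obtain ⟨a, ⟨i⟩⟩ := K734.Rep.exists_ofSpMap Φ
    have hi : ∀ y, Φ.obj y = (AlgSt.ofSpMap a).obj y := fun y => obj_eq_of_iso i y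
    obtain ⟨g, hg, hu⟩ := H a ((h.inv_iff a).1 fun y y' φ hφ => by rw [← hi, ← hi]; exact hΦ y y' φ hφ)
    refine ⟨g, fun y => ((key a g).2 hg y).trans (hi y).symm, fun g' hg' => hu g' ((key a g').1 fun y => ?_)⟩
    exact (hg' y).trans (hi y)

omit h𝒳

section Chart

variable {x : FibCat.overCat U ⥤ᵇ 𝒳}

/-- The chart as a functor out of `h_U`. -/
abbrev chF (x : FibCat.overCat U ⥤ᵇ 𝒳) : AlgSt.ofSch U ⥤ᵇ 𝒳 := BasedFunctor.comp (AlgSt.toOverCat U) x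

theorem LocSurj.chF (h : LocSurj (AlgSp.J S) x) : LocSurj (AlgSp.J S) (K746.chF x) := by
  intro z
  obtain ⟨Q, hQ, hz⟩ := h z
  refine ⟨Q, hQ, fun T f hf => ?_⟩
  obtain ⟨y, m, hm⟩ := hz f hf
  exact ⟨⟨y.left, ⟨y.hom⟩⟩, m, hm⟩

include h𝒳 in
theorem relBy_chF (G : ChartRep x R) : RelBy (chF x) G.s G.t := by
  intro T u v
  constructor
  · rintro ⟨φ, hφ⟩
    obtain ⟨r, hr⟩ := G.exists_pt (u := u) (v := v) φ hφ
    exact ⟨r, hr.hs, hr.ht⟩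
  · rintro ⟨r, hs, ht⟩
    obtain ⟨φ, hφ⟩ := G.exists_arr h𝒳 r hs ht
    exact ⟨φ, hφ.vert⟩

end Chart

end K746
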