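import Groth.Agent.AlgSt.K735.UnivSt
import Groth.Agent.AlgSt.K734.FpAlg
import Groth.Agent.AlgSt.K744.AlgOver
import Groth.Agent.AlgSt.K734.FibFp2

/-!
# Universal homeomorphisms of algebraic stacks from charts
-/

set_option autoImplicit false
set_option backward.isDefEq.respectTransparency false
set_option backward.isDefEq.respectTransparency.types false

universe u

open CategoryTheory CategoryTheory.Limits AlgebraicGeometry Opposite
open K734.Fib

namespace K746.UHomeo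

variable {S : Scheme.{u}} {𝒳 𝒴 𝒵 : AlgSt.Cat S}

theorem alg_fp (h𝒳 : AlgSt.IsAlgStack Scheme.fppfPrecoverage 𝒳) (h𝒴 : AlgSt.IsAlgStack Scheme.fppfPrecoverage 𝒴)
    (h𝒵 : AlgSt.IsAlgStack Scheme.fppfPrecoverage 𝒵) (f : 𝒳 ⥤ᵇ 𝒵) (g : 𝒴 ⥤ᵇ 𝒵) :
    AlgSt.IsAlgStack Scheme.fppfPrecoverage (FibCat.fp f g) :=
  K734.Rep.isAlgStack_fp (K734.Rep.isPrestack_of_isStack h𝒵.isStack) h𝒵.diag h𝒳 h𝒴 f g

/-- A map is closed if it is closed after a continuous surjection. -/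
theorem isClosedMap_of_surj {A B C : Type*} [TopologicalSpace A] [TopologicalSpace B] [TopologicalSpace C]
    {a : A → B} {f : B → C} (ha : Continuous a) (hs : Function.Surjective a) (h : IsClosedMap (f ∘ a)) :
    IsClosedMap f := by
  intro D hD
  have h1 := h _ (hD.preimage ha)
  rwa [Set.image_comp, Set.image_preimage_eq _ hs] at h1

theorem isClosedMap_fpFst (h𝒳 : AlgSt.IsAlgStack Scheme.fppfPrecoverage 𝒳)
    (h𝒴 : AlgSt.IsAlgStack Scheme.fppfPrecoverage 𝒴) (h𝒵 : AlgSt.IsAlgStack Scheme.fppfPrecoverage 𝒵)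
    (g : 𝒵 ⥤ᵇ 𝒴) (π : 𝒳 ⥤ᵇ 𝒴) {U : Over S}
    (x : FibCat.overCat U ⥤ᵇ 𝒳) (hx : Function.Surjective (AlgSt.Points.map x))
    (hc : AlgSt.RepByAlgSpWith AlgSp.IsUnivClosedMor (BasedFunctor.comp x π)) :
    IsClosedMap (AlgSt.Points.map (FibCat.fpFst g π)) := by
  have hO := K744.AlgOver.isAlgStack_overCat U
  have h1 := alg_fp h𝒵 h𝒳 h𝒴 g π
  have h2 := alg_fp h1 hO h𝒳 (FibCat.fpSnd g π) x
  have h3 := alg_fp h𝒵 hO h𝒴 g (BasedFunctor.comp x π)
  have e1 : IsClosedMap (AlgSt.Points.map (FibCat.fpFst g (BasedFunctor.comp x π))) :=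
    K735.Univ.isClosedMap_of_with h𝒵.isStack.1 h3.isStack.1 (K735.Top.chartCont_of_isAlgStack h3)
      (K735.Univ.with_of_univSp (K735.Univ.repByAlgSpWith_fpFst g hc))
  have e2 : IsHomeomorph (AlgSt.Points.map (fpComp g π x)) :=
    K735.Univ.isHomeomorph_map_of_isEquivOver (isEquivOver_fpComp g π x)
  have e3 : AlgSt.Points.map (FibCat.fpFst g π) ∘ AlgSt.Points.map (FibCat.fpFst (FibCat.fpSnd g π) x) =
      AlgSt.Points.map (FibCat.fpFst g (BasedFunctor.comp x π)) ∘ AlgSt.Points.map (fpComp g π x) := by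
    funext w
    rw [Function.comp_apply, Function.comp_apply, ← K735.Pts.map_comp, ← K735.Pts.map_comp, fpComp_fst']
  refine isClosedMap_of_surj (a := AlgSt.Points.map (FibCat.fpFst (FibCat.fpSnd g π) x))
    (K735.Top.continuous_map (K735.Top.chartCont_of_isAlgStack h1) _)
    (K735.Pts.surjective_fpFst hO.isStack.1 h1.isStack.1 h𝒳.isStack.1 _ _ hx) ?_
  rw [e3]
  exact e1.comp e2.isClosedMap

/-- Criterion for universal homeomorphisms by one chart. -/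
theorem isUnivHomeo_of_chart (h𝒳 : AlgSt.IsAlgStack Scheme.fppfPrecoverage 𝒳)
    (h𝒴 : AlgSt.IsAlgStack Scheme.fppfPrecoverage 𝒴) (π : 𝒳 ⥤ᵇ 𝒴) {U : Over S}
    (x : FibCat.overCat U ⥤ᵇ 𝒳) (hx : Function.Surjective (AlgSt.Points.map x))
    (hc : AlgSt.RepByAlgSpWith AlgSp.IsUnivClosedMor (BasedFunctor.comp x π))
    (hs : Function.Surjective (AlgSt.Points.map π)) (hd : Function.Surjective (AlgSt.Points.map (FibCat.diag π))) :
    AlgSt.IsUnivHomeo Scheme.fppfPrecoverage π := by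
  intro 𝒵 h𝒵 g
  rw [isHomeomorph_iff_continuous_isClosedMap_bijective]
  exact ⟨K735.Top.continuous_map (K735.Top.chartCont_of_isAlgStack h𝒵) _,
    isClosedMap_fpFst h𝒳 h𝒴 h𝒵 g π x hx hc,
    K735.Pts.injective_fpFst_of_surjective_diag h𝒳.isStack.1 h𝒵.isStack.1 h𝒴.isStack.1 g π hd,
    K735.Pts.surjective_fpFst h𝒳.isStack.1 h𝒵.isStack.1 h𝒴.isStack.1 g π hs⟩

end K746.UHomeo
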