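import Groth.Agent.AlgSt.K746.Sec
import Groth.Agent.AlgSt.K734.FibFp
import Groth.Agent.AlgSp.K598.Site
import Groth.Agent.AlgSp.K597.Chart

/-!
# Categorical moduli spaces are étale local on the target

`isCatModuliIn_of_local`: if the base change of `π : 𝒳 ⟶ M` to every affine scheme étale over the algebraic space `M` is a
categorical moduli space, then so is `π`.
-/

set_option autoImplicit false
set_option backward.isDefEq.respectTransparency false
set_option backward.isDefEq.respectTransparency.types false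

universe w v₄ u₄ v₃ u₃ v u

open CategoryTheory CategoryTheory.Limits AlgebraicGeometry Opposite
open K734.Fib K598.Site

namespace K746.ModLoc

theorem mk_eqToHom {C : Type u} [Category.{v} C] {P : Cᵒᵖ ⥤ Type w} {T T' : C} (h : T' = T) (s : P.obj (op T)) :
    (⟨T, s⟩ : Stk.EltObj P) = ⟨T', P.map (eqToHom h).op s⟩ := by
  subst h
  simp

variable {S : Scheme.{u}} {𝒳 : BasedCategory.{v₃, u₃} (Over S)} {M N : AlgSp.Sp S}

/-- The section `n` of `N` over `T` is compatible with the section `m` of `M` over `T`: objects of `𝒳` over `T`-schemes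
with image the restriction of `m` are sent to the restriction of `n`. -/
def Good (π : 𝒳 ⥤ᵇ AlgSt.ofSp M) (Φ : 𝒳 ⥤ᵇ AlgSt.ofSp N) {T : Over S} (m : M.obj.obj (op T))
    (n : N.obj.obj (op T)) : Prop :=
  ∀ (z : 𝒳.obj) (a : 𝒳.p.obj z ⟶ T), π.obj z = ⟨_, M.obj.map a.op m⟩ → Φ.obj z = ⟨_, N.obj.map a.op n⟩

variable {π : 𝒳 ⥤ᵇ AlgSt.ofSp M} {Φ : 𝒳 ⥤ᵇ AlgSt.ofSp N}

theorem Good.restrict {T T' : Over S} {m : M.obj.obj (op T)} {n : N.obj.obj (op T)} (h : Good π Φ m n)
    (f : T' ⟶ T) : Good π Φ (M.obj.map f.op m) (N.obj.map f.op n) := by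
  intro z a hz
  rw [← Functor.map_comp_apply, ← op_comp] at hz ⊢
  exact h z (a ≫ f) hz

/-- Base change of categorical moduli spaces in terms of `Good`. -/
theorem forall_obj_iff {M' : AlgSp.Sp S} (g : M' ⟶ M) (k : M' ⟶ N) :
    (∀ w, (BasedFunctor.comp (FibCat.fpFst (AlgSt.ofSpMap g) π) (AlgSt.ofSpMap k)).obj w =
      (BasedFunctor.comp (FibCat.fpSnd (AlgSt.ofSpMap g) π) Φ).obj w) ↔
    ∀ (T : Over S) (m' : M'.obj.obj (op T)), Good π Φ (g.hom.app _ m') (k.hom.app _ m') := by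
  constructor
  · intro h T m' z a hz
    have e1 : (AlgSt.ofSpMap g).obj (⟨𝒳.p.obj z, M'.obj.map a.op m'⟩ : (AlgSt.ofSp M').obj) = π.obj z := by
      rw [hz]
      change (⟨_, g.hom.app _ (M'.obj.map a.op m')⟩ : Stk.EltObj M.obj) = _
      rw [NatTrans.naturality_apply]
    have h1 := h (mkObj (F := AlgSt.ofSpMap g) (G := π)
      (⟨𝒳.p.obj z, M'.obj.map a.op m'⟩ : (AlgSt.ofSp M').obj) z (eqToIso e1) (IsVert.eqToHom e1))
    refine h1.symm.trans ?_
    change (⟨_, k.hom.app _ (M'.obj.map a.op m')⟩ : Stk.EltObj N.obj) = _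
    rw [NatTrans.naturality_apply]
  · intro h w
    have e1 : (AlgSt.ofSpMap g).obj w.obj.fst = π.obj w.obj.snd := eq_of_vert (iso_vert w)
    have e2 : 𝒳.p.obj w.obj.snd = w.obj.fst.base :=
      (π.w_obj w.obj.snd).symm.trans (congrArg Stk.EltObj.base e1).symm
    have h1 := h w.obj.fst.base w.obj.fst.sec w.obj.snd (eqToHom e2) (by
      rw [← e1]
      exact mk_eqToHom e2 _)
    change (⟨w.obj.fst.base, k.hom.app _ w.obj.fst.sec⟩ : Stk.EltObj N.obj) = Φ.obj w.obj.snd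
    rw [h1]
    exact mk_eqToHom e2 _

/-- `Good` can be checked locally. -/
theorem Good.of_local (h𝒳 : FibCat.IsFibGrpd 𝒳.p) {T : Over S} {m : M.obj.obj (op T)} {n : N.obj.obj (op T)}
    {R : Sieve T} (hR : R ∈ AlgSp.J S T)
    (h : ∀ ⦃T' : Over S⦄ (f : T' ⟶ T), R f → Good π Φ (M.obj.map f.op m) (N.obj.map f.op n)) : Good π Φ m n := by
  intro z a hz
  rw [secOf_spec Φ z rfl]
  congr 1
  refine ((isSheaf_obj N) (R.pullback a) ((AlgSp.J S).pullback_stable a hR)).isSeparatedFor.ext fun T' f hf => ?_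
  obtain ⟨z', k, hk⟩ := exists_lift h𝒳 (a := z) rfl f
  have hz'T : 𝒳.p.obj z' = T' := IsHomLift.domain_eq 𝒳.p f k
  subst hz'T
  have hπ' : π.obj z' = ⟨𝒳.p.obj z', M.obj.map f.op (M.obj.map a.op m)⟩ := by
    rw [secOf_spec π z' rfl, ← secOf_map π (z := z) rfl rfl hk, secOf_eq π rfl hz]
  have h1 := h (f ≫ a) hf z' (𝟙 _) (by
    rw [hπ', op_id, Functor.map_id_apply, op_comp, Functor.map_comp_apply])
  rw [secOf_map Φ (z := z) (z' := z') rfl rfl hk, secOf_eq Φ rfl h1, op_id, Functor.map_id_apply, op_comp,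
    Functor.map_comp_apply]

/-- The sieve of maps to `T` which locally land in an affine open. -/
theorem exists_affCov (T : Over S) : ∃ R ∈ AlgSp.J S T, ∀ ⦃T' : Over S⦄ (f : T' ⟶ T), R f →
    ∃ (A : Over S) (i : A ⟶ T) (g : T' ⟶ A), IsAffine A.left ∧ IsOpenImmersion i.left ∧ g ≫ i = f := by
  have key : ∀ t : T.left, ∃ (A : Over S) (i : A ⟶ T), IsAffine A.left ∧ IsOpenImmersion i.left ∧
      t ∈ Set.range i.left := by
    intro t
    obtain ⟨V, hV, hx, -⟩ := exists_isAffineOpen_mem_and_subset (x := t) (U := ⊤) trivial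
    exact ⟨Over.mk (V.ι ≫ T.hom), Over.homMk V.ι, hV, (inferInstance : IsOpenImmersion V.ι), by
      change t ∈ Set.range V.ι
      rw [Scheme.Opens.range_ι]; exact hx⟩
  choose A i hA hi ht using key
  refine ⟨Sieve.generate (Presieve.ofArrows A i), ?_, ?_⟩
  · refine mem_J_of_family A i (fun t => Sieve.le_generate _ _ _ ⟨t⟩) (fun t => ?_) (fun t => ?_) fun t => ⟨t, ht t⟩
    · have := hi t; infer_instance
    · have := hi t; infer_instance
  · rintro T' f ⟨_, g, _, ⟨t⟩, rfl⟩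
    exact ⟨A t, i t, g, hA t, hi t, rfl⟩

/-- A section of an algebraic space comes locally from affine étale charts. -/
theorem exists_chartCov (hM : AlgSp.IsAlgSpace M) {T : Over S} (m : M.obj.obj (op T)) :
    ∃ R ∈ AlgSp.J S T, ∀ ⦃T' : Over S⦄ (f : T' ⟶ T), R f →
      ∃ (V : Over S) (v : (AlgSp.yon S).obj V ⟶ M) (b : T' ⟶ V), IsAffine V.left ∧ AlgSp.RepWith @Etale v ∧
        M.obj.map f.op m = M.obj.map b.op (yE v) := by
  obtain ⟨U, p, hp, hps⟩ := hM.atlas
  obtain ⟨W, fst, q, sq, hq⟩ := K597.exists_sq hp (yE.symm m)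
  have hqs : Surjective q.left := K597.repWith_prop hps sq
  obtain ⟨r, rfl⟩ := (AlgSp.yon S).map_surjective fst
  obtain ⟨R, hR, hR'⟩ := exists_affCov U
  let R₂ : Sieve T :=
    { arrows := fun T' f => ∃ g : T' ⟶ W, g ≫ q = f ∧ R (g ≫ r)
      downward_closed := by
        rintro T' T'' f ⟨g, hg, h⟩ k
        exact ⟨k ≫ g, by rw [Category.assoc, hg], by rw [Category.assoc]; exact R.downward_closed h k⟩ }
  have hsing : Sieve.generate (Presieve.singleton q) ∈ AlgSp.J S T :=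
    mem_J_of_single q (Sieve.le_generate _ _ _ ⟨⟩)
  refine ⟨R₂, ?_, ?_⟩
  · refine (AlgSp.J S).transitive hsing R₂ ?_
    rintro T' f ⟨_, g, _, ⟨⟩, rfl⟩
    refine (AlgSp.J S).superset_covering ?_ ((AlgSp.J S).pullback_stable (g ≫ r) hR)
    intro T'' k hk
    exact ⟨k ≫ g, by rw [Category.assoc], by rw [Category.assoc]; exact hk⟩
  · rintro T' f ⟨g, rfl, hg⟩
    obtain ⟨A, i, b, hA, hi, hb⟩ := hR' (g ≫ r) hg
    refine ⟨A, (AlgSp.yon S).map i ≫ p, b, hA, K597.etale_comp (K597.etale_map i inferInstance) hp, ?_⟩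
    apply yE.symm.injective
    rw [← map_comp_yE_symm, ← map_comp_yE_symm, Equiv.symm_apply_apply, Functor.map_comp, Category.assoc,
      ← sq.w, ← Functor.map_comp_assoc, ← Functor.map_comp_assoc, hb]

/-- The gluing step, for one functor `Φ` to one sheaf `N`: uniqueness on all affine étale charts of `M`, existence
locally. -/
theorem existsUnique_of_cover (h𝒳 : FibCat.IsFibGrpd 𝒳.p)
    (hu : ∀ (V : Over S), IsAffine V.left → ∀ v : (AlgSp.yon S).obj V ⟶ M, AlgSp.RepWith @Etale v →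
      ∀ n n' : N.obj.obj (op V), Good π Φ (yE v) n → Good π Φ (yE v) n' → n = n')
    (hcov : ∀ (T : Over S) (m : M.obj.obj (op T)), ∃ R ∈ AlgSp.J S T, ∀ ⦃T' : Over S⦄ (f : T' ⟶ T), R f →
      ∃ (V : Over S) (v : (AlgSp.yon S).obj V ⟶ M) (b : T' ⟶ V) (n : N.obj.obj (op V)),
        IsAffine V.left ∧ AlgSp.RepWith @Etale v ∧
        M.obj.map f.op m = M.obj.map b.op (yE v) ∧ Good π Φ (yE v) n) :
    ∃! g : M ⟶ N, ∀ (T : Over S) (m : M.obj.obj (op T)), Good π Φ m (g.hom.app _ m) := by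
  -- independence of the chart
  have key : ∀ {T : Over S} {V V' : Over S}
      (v : (AlgSp.yon S).obj V ⟶ M) (v' : (AlgSp.yon S).obj V' ⟶ M) (hv : AlgSp.RepWith @Etale v)
      (hv' : AlgSp.RepWith @Etale v') (b : T ⟶ V) (b' : T ⟶ V') (n : N.obj.obj (op V)) (n' : N.obj.obj (op V')),
      Good π Φ (yE v) n → Good π Φ (yE v') n' → M.obj.map b.op (yE v) = M.obj.map b'.op (yE v') →
      N.obj.map b.op n = N.obj.map b'.op n' := by
    intro T V V' v v' hv hv' b b' n n' hn hn' hb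
    have hb2 : (AlgSp.yon S).map b ≫ v = (AlgSp.yon S).map b' ≫ v' := by
      apply yE.injective
      rw [yE_map_comp, yE_map_comp, hb]
    obtain ⟨W, p, q, sq, hq⟩ := K597.exists_sq2 hv v'
    have hp : Etale p.left := K597.repWith_prop' hv' sq
    obtain ⟨c, hc⟩ := (AlgSp.yon S).map_surjective (sq.lift _ _ hb2)
    have hcp : c ≫ p = b := (AlgSp.yon S).map_injective (by rw [Functor.map_comp, hc, sq.lift_fst])
    have hcq : c ≫ q = b' := (AlgSp.yon S).map_injective (by rw [Functor.map_comp, hc, sq.lift_snd])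
    obtain ⟨R, hR, hR'⟩ := exists_affCov W
    refine ((isSheaf_obj N) (R.pullback c) ((AlgSp.J S).pullback_stable c hR)).isSeparatedFor.ext
      fun T' f hf => ?_
    obtain ⟨A, i, d, hA, hi, hd⟩ := hR' (f ≫ c) hf
    have hw : AlgSp.RepWith @Etale ((AlgSp.yon S).map (i ≫ p) ≫ v) :=
      K597.etale_comp (K597.etale_map _ (by rw [Over.comp_left]; infer_instance)) hv
    have hw' : (AlgSp.yon S).map (i ≫ p) ≫ v = (AlgSp.yon S).map (i ≫ q) ≫ v' := by
      rw [Functor.map_comp, Functor.map_comp, Category.assoc, Category.assoc, sq.w]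
    have e1 := hu A hA _ hw (N.obj.map (i ≫ p).op n) (N.obj.map (i ≫ q).op n') (by
      rw [yE_map_comp]; exact hn.restrict _) (by
      have := hn'.restrict (i ≫ q)
      rwa [← yE_map_comp, ← hw'] at this)
    have e3 := congrArg (N.obj.map d.op) e1
    simp only [← Functor.map_comp_apply, ← op_comp] at e3 ⊢
    have e4 : f ≫ b = d ≫ i ≫ p := by rw [reassoc_of% hd, hcp]
    have e5 : f ≫ b' = d ≫ i ≫ q := by rw [reassoc_of% hd, hcq]
    rw [e4, e5]
    exact e3
  -- the section of `N` attached to a section of `M`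
  have ex : ∀ {T : Over S} (m : M.obj.obj (op T)), ∃! s : N.obj.obj (op T),
      ∀ (T' : Over S) (f : T' ⟶ T) (V : Over S) (v : (AlgSp.yon S).obj V ⟶ M)
        (_ : AlgSp.RepWith @Etale v) (n : N.obj.obj (op V)) (_ : Good π Φ (yE v) n) (b : T' ⟶ V),
        M.obj.map f.op m = M.obj.map b.op (yE v) →
        N.obj.map f.op s = N.obj.map b.op n := by
    intro T m
    obtain ⟨R, hR, hR'⟩ := hcov T m
    choose V v b n hV hv hb hn using hR'
    have hcomp : (show Presieve.FamilyOfElements N.obj R from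
        fun T' f hf => N.obj.map (b f hf).op (n f hf)).Compatible := by
      intro T₁ T₂ T₀ g₁ g₂ f₁ f₂ h₁ h₂ hc
      change N.obj.map g₁.op (N.obj.map _ _) = N.obj.map g₂.op (N.obj.map _ _)
      rw [← Functor.map_comp_apply, ← op_comp, ← Functor.map_comp_apply, ← op_comp]
      apply key (v f₁ h₁) (v f₂ h₂) (hv _ _) (hv _ _) _ _ _ _ (hn _ _) (hn _ _)
      rw [op_comp, op_comp, Functor.map_comp_apply, Functor.map_comp_apply, ← hb f₁ h₁, ← hb f₂ h₂,
        ← Functor.map_comp_apply, ← Functor.map_comp_apply, ← op_comp, ← op_comp, hc]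
    obtain ⟨s, hs, hsu⟩ := (isSheaf_obj N) R hR _ hcomp
    refine ⟨s, ?_, ?_⟩
    · intro T' f V' v' hv' n' hn' b' hb'
      refine ((isSheaf_obj N) (R.pullback f) ((AlgSp.J S).pullback_stable f hR)).isSeparatedFor.ext
        fun T'' k hk => ?_
      rw [← Functor.map_comp_apply, ← op_comp, ← Functor.map_comp_apply, ← op_comp]
      refine (hs (k ≫ f) hk).trans ?_
      apply key (v _ _) v' (hv _ _) hv' _ _ _ _ (hn _ _) hn'
      rw [← hb _ hk, op_comp, op_comp, Functor.map_comp_apply, Functor.map_comp_apply, hb']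
    · intro s' hs'
      exact hsu s' fun T' f hf => hs' T' f (V f hf) (v f hf) (hv f hf) (n f hf) (hn f hf) (b f hf) (hb f hf)
  choose s hs hsu using fun (T : Over S) (m : M.obj.obj (op T)) => ex m
  have hnat : ∀ {T T' : Over S} (f : T' ⟶ T) (m : M.obj.obj (op T)),
      N.obj.map f.op (s T m) = s T' (M.obj.map f.op m) := by
    intro T T' f m
    refine hsu T' _ _ fun T'' k V v hv n hn b hb => ?_
    rw [← Functor.map_comp_apply, ← op_comp] at hb ⊢
    exact hs T m T'' (k ≫ f) V v hv n hn b hb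
  let g : M ⟶ N := ⟨{ app := fun T => ↾(s T.unop), naturality := by
                        intro T T' f
                        ext m
                        exact (hnat f.unop m).symm }⟩
  have hg : ∀ {T : Over S} (m : M.obj.obj (op T)), g.hom.app (op T) m = s T m := fun m => rfl
  refine ⟨g, ?_, ?_⟩
  · intro T m
    rw [hg]
    obtain ⟨R, hR, hR'⟩ := hcov T m
    refine Good.of_local h𝒳 hR fun T' f hf => ?_
    obtain ⟨V, v, b, n, hV, hv, hb, hn⟩ := hR' f hf
    rw [hs T m T' f V v hv n hn b hb, hb]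
    exact hn.restrict b
  · intro g' hg'
    apply ObjectProperty.hom_ext
    ext T m
    induction T using Opposite.rec with | _ T
    change g'.hom.app (op T) m = s T m
    refine hsu T m _ fun T' f V v hv n hn b hb => ?_
    rw [← NatTrans.naturality_apply, hb, NatTrans.naturality_apply, ← yE_comp]
    refine key v v hv hv b b _ _ ?_ hn rfl
    rw [yE_comp]
    exact hg' _ _

/-- The gluing step, for one functor `Φ` to one sheaf `N`. -/
theorem existsUnique_of_charts (h𝒳 : FibCat.IsFibGrpd 𝒳.p) (hM : AlgSp.IsAlgSpace M)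
    (h : ∀ (V : Over S), IsAffine V.left → ∀ v : (AlgSp.yon S).obj V ⟶ M, AlgSp.RepWith @Etale v →
      ∃! n : N.obj.obj (op V), Good π Φ (yE v) n) :
    ∃! g : M ⟶ N, ∀ (T : Over S) (m : M.obj.obj (op T)), Good π Φ m (g.hom.app _ m) := by
  refine existsUnique_of_cover h𝒳 (fun V hV v hv n n' hn hn' => (h V hV v hv).unique hn hn') fun T m => ?_
  obtain ⟨R, hR, hR'⟩ := exists_chartCov hM m
  refine ⟨R, hR, fun T' f hf => ?_⟩
  obtain ⟨V, v, b, hV, hv, hb⟩ := hR' f hf
  obtain ⟨n, hn, -⟩ := h V hV v hv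
  exact ⟨V, v, b, n, hV, hv, hb, hn⟩

theorem forall_good_iff (g : M ⟶ N) :
    (∀ (T : Over S) (m : M.obj.obj (op T)), Good π Φ m (g.hom.app _ m)) ↔
      ∀ z, (BasedFunctor.comp π (AlgSt.ofSpMap g)).obj z = Φ.obj z := by
  constructor
  · intro h z
    have h1 := h (𝒳.p.obj z) (secOf π z rfl) z (𝟙 _) (by
      rw [op_id, Functor.map_id_apply]; exact secOf_spec π z rfl)
    rw [op_id, Functor.map_id_apply] at h1
    rw [h1]
    exact congrArg (AlgSt.ofSpMap g).obj (secOf_spec π z rfl)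
  · intro h T m z a hz
    rw [← h z]
    refine (congrArg (AlgSt.ofSpMap g).obj hz).trans ?_
    change (⟨_, g.hom.app _ (M.obj.map a.op m)⟩ : Stk.EltObj N.obj) = _
    rw [NatTrans.naturality_apply]

theorem forall_good_yE_iff {V : Over S} (v : (AlgSp.yon S).obj V ⟶ M) (g : (AlgSp.yon S).obj V ⟶ N) :
    (∀ (T : Over S) (m' : ((AlgSp.yon S).obj V).obj.obj (op T)), Good π Φ (v.hom.app _ m') (g.hom.app _ m')) ↔
      Good π Φ (yE v) (yE g) := by
  have e : ∀ {F : AlgSp.Sp S} (k : (AlgSp.yon S).obj V ⟶ F) {T : Over S} (a : T ⟶ V),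
      k.hom.app (op T) ⟨a⟩ = F.obj.map a.op (yE k) := by
    intro F k T a
    rw [← yE_map_comp]
    change _ = k.hom.app (op T) ⟨𝟙 T ≫ a⟩
    rw [Category.id_comp]
  constructor
  · intro h
    have h1 := h V ⟨𝟙 V⟩
    rw [e, e, op_id, Functor.map_id_apply, Functor.map_id_apply] at h1
    exact h1
  · rintro h T ⟨a⟩
    rw [e, e]
    exact h.restrict a

/-- Categorical moduli spaces are étale local on the target. -/
theorem isCatModuliIn_of_local {C : ObjectProperty (AlgSp.Sp S)} (h𝒳 : FibCat.IsFibGrpd 𝒳.p) (hC : C M)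
    (hM : AlgSp.IsAlgSpace M)
    (h : ∀ (V : Over S), IsAffine V.left → ∀ v : (AlgSp.yon S).obj V ⟶ M, AlgSp.RepWith @Etale v →
      AlgSt.IsCatModuliIn C (FibCat.fpFst (AlgSt.ofSpMap v) π)) : AlgSt.IsCatModuliIn C π := by
  rw [isCatModuliIn_iff]
  refine ⟨hC, fun N hN Φ => ?_⟩
  have h1 : ∃! g : M ⟶ N, ∀ (T : Over S) (m : M.obj.obj (op T)), Good π Φ m (g.hom.app _ m) := by
    refine existsUnique_of_charts h𝒳 hM fun V hV v hv => ?_
    obtain ⟨g, hg, hu⟩ := (isCatModuliIn_iff.1 (h V hV v hv)).2 N hN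
      (BasedFunctor.comp (FibCat.fpSnd (AlgSt.ofSpMap v) π) Φ)
    refine ⟨yE g, (forall_good_yE_iff v g).1 ((forall_obj_iff v g).1 hg), fun n hn => ?_⟩
    have := hu (yE.symm n) ((forall_obj_iff v _).2 ((forall_good_yE_iff v _).2 (by
      rw [Equiv.apply_symm_apply]; exact hn)))
    rw [← this, Equiv.apply_symm_apply]
  obtain ⟨g, hg, hu⟩ := h1
  exact ⟨g, (forall_good_iff g).1 hg, fun g' hg' => hu g' ((forall_good_iff g').2 hg')⟩

/-- Categorical moduli spaces are invariant under equivalences of the source. -/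
theorem isCatModuliIn_comp_iff {𝒵 : BasedCategory.{v₄, u₄} (Over S)} {C : ObjectProperty (AlgSp.Sp S)}
    {e : 𝒵 ⥤ᵇ 𝒳} (he : FibCat.IsEquivOver e) {π' : 𝒵 ⥤ᵇ AlgSt.ofSp M}
    (hπ : ∀ z, π.obj (e.obj z) = π'.obj z) :
    AlgSt.IsCatModuliIn C π' ↔ AlgSt.IsCatModuliIn C π := by
  obtain ⟨r, ⟨α⟩, ⟨β⟩⟩ := he
  rw [isCatModuliIn_iff, isCatModuliIn_iff]
  refine and_congr_right fun _ => forall_congr' fun N => imp_congr_right fun _ => ?_
  have hα : ∀ {N : AlgSp.Sp S} (φ : 𝒵 ⥤ᵇ AlgSt.ofSp N) z, φ.obj (r.obj (e.obj z)) = φ.obj z := fun φ z =>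
    eq_of_vert ((app_vert α z).map φ)
  have hβ : ∀ {N : AlgSp.Sp S} (φ : 𝒳 ⥤ᵇ AlgSt.ofSp N) z, φ.obj (e.obj (r.obj z)) = φ.obj z := fun φ z =>
    eq_of_vert ((app_vert β z).map φ)
  constructor
  · intro h φ
    obtain ⟨g, hg, hu⟩ := h (BasedFunctor.comp e φ)
    refine ⟨g, fun z => ?_, fun g' hg' => hu g' fun z => ?_⟩
    · refine (congrArg (AlgSt.ofSpMap g).obj ((hβ π z).symm.trans (hπ _))).trans ((hg _).trans (hβ φ z))
    · exact (congrArg (AlgSt.ofSpMap g').obj (hπ z).symm).trans (hg' _)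
  · intro h φ
    obtain ⟨g, hg, hu⟩ := h (BasedFunctor.comp r φ)
    refine ⟨g, fun z => ?_, fun g' hg' => hu g' fun z => ?_⟩
    · exact (congrArg (AlgSt.ofSpMap g).obj (hπ z).symm).trans ((hg _).trans (hα φ z))
    · exact (congrArg (AlgSt.ofSpMap g').obj ((hβ π z).symm.trans (hπ _))).trans (hg' _)

end K746.ModLoc
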