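import Groth.Agent.AlgSt.K746.ChartEx
import Groth.Agent.AlgSt.K746.ModLoc
import Groth.Agent.AlgSt.K738.RepDiag
import Groth.Agent.AlgSp.K609.Points
import Groth.Agent.AlgSp.K597.LocP
import Groth.Agent.AlgSp.K598.RepKit
import Groth.Prelude.Def_W4stkstmodspWNA
import Groth.Prelude.Def_Mor2

/-!
# Finite flat charts: base changes, local surjectivity, the groupoid
-/

set_option autoImplicit false
set_option backward.isDefEq.respectTransparency false
set_option backward.isDefEq.respectTransparency.types false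

universe w' v' w v u

open CategoryTheory CategoryTheory.Limits AlgebraicGeometry Opposite
open K734.Fib K598.Site

namespace K746

variable {S : Scheme.{u}}

/-- Transport of a representation along an isomorphism. -/
def secRepOfIso {𝒵 : BasedCategory.{v, w} (Over S)} {U : Over S} {q : 𝒵 ⥤ᵇ FibCat.overCat U}
    {F F' : AlgSp.Sp S} {π : F ⟶ (AlgSp.yon S).obj U} (R : K738.SecRep q F π) (φ : F ≅ F') :
    K738.SecRep q F' (φ.inv ≫ π) where
  sec z := φ.hom.hom.app _ (R.sec z)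
  map m := by
    rw [← NatTrans.naturality_apply, R.map m]
  full {z z'} g h := R.full g (by
    have h1 := congrArg (φ.inv.hom.app _) h
    rw [NatTrans.naturality_apply] at h1
    have h2 : ∀ {T : (Over S)ᵒᵖ} (a : F.obj.obj T), φ.inv.hom.app T (φ.hom.hom.app T a) = a := fun {T} a =>
      congrArg (fun f : F ⟶ F => f.hom.app T a) φ.hom_inv_id
    rwa [h2, h2] at h1)
  faithful := R.faithful
  surj {T} s := by
    obtain ⟨z, h, hz⟩ := R.surj (φ.inv.hom.app _ s)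
    refine ⟨z, h, ?_⟩
    rw [← NatTrans.naturality_apply, hz]
    exact congrArg (fun f : F' ⟶ F' => f.hom.app (op T) s) φ.inv_hom_id
  proj z := by
    have h2 : ∀ {T : (Over S)ᵒᵖ} (a : F.obj.obj T), φ.inv.hom.app T (φ.hom.hom.app T a) = a := fun {T} a =>
      congrArg (fun f : F ⟶ F => f.hom.app T a) φ.hom_inv_id
    refine Eq.trans ?_ (R.proj z)
    exact congrArg (π.hom.app _) (h2 _)

/-- The property of the charts of well-nigh affine stacks. -/
abbrev WnaP (S : Scheme.{u}) : MorphismProperty (AlgSp.Sp S) :=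
  AlgSp.IsSurjectiveMor ⊓ AlgSp.LocP @Flat ⊓ AlgSp.IsFiniteMor ⊓ AlgSp.LocP @LocallyOfFinitePresentation

variable {𝒳 : BasedCategory.{v, w} (Over S)} {U : Over S} {x : FibCat.overCat U ⥤ᵇ 𝒳}

theorem exists_wna_rep (h𝒳 : FibCat.IsFibGrpd 𝒳.p) (hx : AlgSt.RepByAlgSpWith (WnaP S) x) {T : Over S}
    (hT : IsAffine T.left) (z : FibCat.overCat T ⥤ᵇ 𝒳) : ∃ (W : Over S) (G : PairRep z x W), IsAffine W.left ∧
      IsFinite G.s.left ∧ Flat G.s.left ∧ LocallyOfFinitePresentation G.s.left ∧ Surjective G.s.left := by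
  obtain ⟨F, π, hP, ⟨R⟩⟩ := K738.repByAlgSpWith_iff_secRep.1 hx T z
  obtain ⟨⟨⟨h1, h2⟩, h3⟩, h4⟩ := hP
  obtain ⟨W, i, fst, sq, hW, hi⟩ := h3 hT (𝟙 _)
  have hfst : IsIso fst := sq.isIso_fst_of_isIso
  have e : (asIso fst).hom ≫ π = (AlgSp.yon S).map i := by
    rw [asIso_hom, sq.w, Category.comp_id]
  have hR := secRepOfIso R (asIso fst).symm
  rw [Iso.symm_inv, e] at hR
  have hfe : AlgSp.RepWith @Etale fst := K598.RepKit.repWith_of_isIso fst
  obtain ⟨G, hG⟩ := exists_pairRep h𝒳 hR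
  obtain rfl : i = G.s := (AlgSp.yon S).map_injective hG
  refine ⟨W, G, hW, hi, ?_, ?_, ?_⟩
  · have := K597.locP_precomp hfe h2
    rw [show fst ≫ π = _ from e] at this
    exact AlgSp.locP_yon_map this
  · have := K597.locP_precomp hfe h4
    rw [show fst ≫ π = _ from e] at this
    exact AlgSp.locP_yon_map this
  · have h5 : AlgSp.IsSurjectiveMor ((AlgSp.yon S).map G.s) := by
      rw [← e, asIso_hom]
      intro p
      obtain ⟨q, hq⟩ := h1 p
      refine ⟨AlgSp.Points.map (inv fst) q, ?_⟩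
      rw [← AlgSp.Points.map_comp, IsIso.inv_hom_id_assoc, hq]
    exact ⟨(K609.Points.surjective_map_yon_map_iff G.s).1 h5⟩

/-- Composition of lifts, with a vertical morphism. -/
theorem lift_comp_vert {a b c : 𝒳.obj} {T T' : Over S} {f : T' ⟶ T} {φ : a ⟶ b} {ψ : b ⟶ c}
    (h : 𝒳.p.IsHomLift f φ) (h' : IsVert 𝒳 ψ) : 𝒳.p.IsHomLift f (φ ≫ ψ) := by
  have h1 : 𝒳.p.IsHomLift (𝟙 T) ψ := h'.lift (IsHomLift.codomain_eq 𝒳.p f φ)
  have := IsHomLift.comp 𝒳.p f (𝟙 T) φ ψ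
  rwa [Category.comp_id] at this

/-- The objects of `𝒳` come locally from the chart. -/
theorem locSurj_of_wna (h𝒳 : FibCat.IsFibGrpd 𝒳.p) (hx : AlgSt.RepByAlgSpWith (WnaP S) x) :
    LocSurj (AlgSp.J S) x := by
  intro z
  obtain ⟨R, hR, hcov⟩ := ModLoc.exists_affCov (𝒳.p.obj z)
  have key : ∀ ⦃T : Over S⦄ (f : T ⟶ 𝒳.p.obj z), R f → ∃ Q ∈ AlgSp.J S T, ∀ ⦃T' : Over S⦄ (g : T' ⟶ T), Q g →
      ∃ (y : (FibCat.overCat U).obj) (m : x.obj y ⟶ z), 𝒳.p.IsHomLift (g ≫ f) m := by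
    intro T f hf
    obtain ⟨A, i, k, hA, -, rfl⟩ := hcov f hf
    obtain ⟨a, φ, hφ⟩ := exists_lift h𝒳 (a := z) rfl i
    have ha : 𝒳.p.obj a = A := IsHomLift.domain_eq 𝒳.p i φ
    obtain ⟨W, G, -, -, h1, h2, h3⟩ := exists_wna_rep h𝒳 hx hA (yo h𝒳 a ha)
    have hQ : Sieve.generate (Presieve.singleton G.s) ∈ AlgSp.J S A :=
      mem_J_of_single G.s (Sieve.le_generate _ _ _ (Presieve.singleton_self _))
    refine ⟨(Sieve.generate (Presieve.singleton G.s)).pullback k, (AlgSp.J S).pullback_stable k hQ, ?_⟩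
    rintro T' g ⟨W', r, _, ⟨⟩, hr⟩
    have := isIso_of_vert h𝒳 G.vert
    have h4 : IsVert 𝒳 (CategoryTheory.inv G.θ) := IsVert.isIso_inv G.vert
    have h5 : 𝒳.p.IsHomLift (r ≫ G.s) ((rs x r rfl ≫ CategoryTheory.inv G.θ) ≫
        rs (yo h𝒳 a ha) G.s (Category.comp_id _)) := by
      have h6 := lift_comp_vert (rs_lift x r (rfl : r ≫ G.t = _)) h4
      exact IsHomLift.comp 𝒳.p r G.s _ _
    have h7 := lift_comp_vert h5 (yoIso_vert h𝒳 a ha)
    refine ⟨Over.mk (r ≫ G.t), (((rs x r rfl ≫ CategoryTheory.inv G.θ) ≫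
        rs (yo h𝒳 a ha) G.s (Category.comp_id _)) ≫ (yoIso h𝒳 a ha).hom) ≫ φ, ?_⟩
    rw [← Category.assoc, ← hr]
    exact IsHomLift.comp 𝒳.p (r ≫ G.s) i _ φ
  choose Q hQ hQ' using key
  refine ⟨Sieve.bind R Q, (AlgSp.J S).bind_covering hR hQ, ?_⟩
  rintro T _ ⟨T', g, f, hf, hg, rfl⟩
  exact hQ' f hf g hg

/-- The groupoid of a finite flat chart. -/
theorem exists_chartRep (h𝒳 : FibCat.IsFibGrpd 𝒳.p) (hU : IsAffine U.left) (hx : AlgSt.RepByAlgSpWith (WnaP S) x) :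
    ∃ (R : Over S) (G : ChartRep x R), IsAffine R.left ∧ Mor2.IsFinLocFree (G.toOGpd h𝒳).toGpd.s := by
  obtain ⟨R, G, h1, h2, h3, h4, -⟩ := exists_wna_rep h𝒳 hx hU x
  exact ⟨R, G, h1, h2, h3, h4⟩

end K746
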