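import Groth.Agent.AlgSt.K739.RepDiag2
import Groth.Agent.AlgSp.K634.FiniteMor
import Groth.Agent.AlgSp.K597.Proper
import Groth.Agent.AlgSp.K628.Props
import Groth.Agent.S10540

/-!
# The diagonal of a category with a finite flat chart by an affine scheme

* `K746.DiagFin.repByAlgSpWith_toSelf_overCat`: the structure functor of `(Sch/V)`.
* `K746.DiagFin.repByAlgSpWith_diag_of_chart`: a finite flat chart by an affine scheme gives a finite diagonal.
-/

set_option autoImplicit false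
set_option linter.unusedVariables false
set_option backward.isDefEq.respectTransparency false
set_option backward.isDefEq.respectTransparency.types false

universe u

open CategoryTheory CategoryTheory.Limits AlgebraicGeometry Opposite

namespace K746.DiagFin

open K739.Psh K739.Rep K739.Isom K739.Diag K739.DiagComp K739.Props K739.Alg K739.Descent K739.ChartDiag

variable {S : Scheme.{u}}

theorem bc_fin : BC (AlgSp.IsFiniteMor (S := S)) := by
  intro X₁ Y₁ X₂ Y₂ _ _ _ _ a b a' b' sq h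
  rw [K634.FiniteMor.isFiniteMor_iff] at h ⊢
  exact K597.repWith_bc' @IsFinite sq.flip h

theorem comp_fin : Comp (AlgSp.IsFiniteMor (S := S)) := by
  intro X Y Z _ _ _ a b ha hb
  rw [K634.FiniteMor.isFiniteMor_iff] at ha hb ⊢
  exact MorphismProperty.comp_mem _ _ _ ha hb

theorem loc_fin : AlgSp.IsLocalOnBase AlgSp.IsFppfCover (AlgSp.IsFiniteMor (S := S)) :=
  isLocalOnBase_fppf_of_fpqc (Groth.Agent.S10540.result S)

/-- Change of base of slices. -/
theorem repByAlgSpWith_overMap {P : MorphismProperty Scheme.{u}} {Q : MorphismProperty (AlgSp.Sp S)}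
    [Q.RespectsIso] (hPQ : ∀ ⦃A B : AlgSp.Sp S⦄ (f : A ⟶ B), AlgSp.RepWith P f → Q f) {V W : Over S} (k : V ⟶ W)
    (hk : AlgSp.RepWith P ((AlgSp.yon S).map k)) : AlgSt.RepByAlgSpWith Q (AlgSt.overMap k) :=
  (K735.Rep.repByAlgSpWith_iff_of_sq Q (AlgSt.ofSpMap ((AlgSp.yon S).map k)) (AlgSt.overMap k)
    (AlgSt.ofOverCat V) (AlgSt.ofOverCat W) (K735.Rep.isEquivOver_ofOverCat V) (K735.Rep.isEquivOver_ofOverCat W)
    (Iso.refl _)).1 (K735.Top.repByAlgSpWith_ofSpMap_of_repWith hPQ hk)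

/-- The structure functor of a slice. -/
theorem repByAlgSpWith_toSelf_overCat {P : MorphismProperty Scheme.{u}} {Q : MorphismProperty (AlgSp.Sp S)}
    [Q.RespectsIso] (hPQ : ∀ ⦃A B : AlgSp.Sp S⦄ (f : A ⟶ B), AlgSp.RepWith P f → Q f) (V : Over S)
    (hV : AlgSp.RepWith P ((AlgSp.yon S).map (Over.mkIdTerminal.from V))) :
    AlgSt.RepByAlgSpWith Q (FibCat.toSelf (FibCat.overCat V)) :=
  (K735.Rep.repByAlgSpWith_iff_of_sq Q (FibCat.toSelf (FibCat.overCat V))
    (AlgSt.overMap (Over.mkIdTerminal.from V)) (BasedFunctor.id _)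
    (FibCat.toSelf (FibCat.overCat (Over.mk (𝟙 S)))) K735.Fib.isEquivOver_id
    (K740.DiagRep.isEquivOver_toSelf_overCat Over.mkIdTerminal) (selfIso _ _)).2
    (repByAlgSpWith_overMap hPQ _ hV)

theorem isSeparatedMor_respectsIso : (AlgSp.IsSeparatedMor (S := S)).RespectsIso :=
  have := K595.DiagRel.isSeparatedMor_isStableUnderBaseChange (S := S)
  MorphismProperty.IsStableUnderBaseChange.respectsIso

theorem repByAlgSpWith_sep_toSelf (V : Over S) (hV : IsSeparated V.hom) :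
    AlgSt.RepByAlgSpWith AlgSp.IsSeparatedMor (FibCat.toSelf (FibCat.overCat V)) := by
  have := isSeparatedMor_respectsIso (S := S)
  refine repByAlgSpWith_toSelf_overCat (P := @IsSeparated)
    (fun A B f hf => (K595.DiagBasic.isSeparatedMor_iff_repWith hf.1).2 hf) V ?_
  rw [AlgSp.repWith_yon_map_iff]
  have h1 : (Over.mkIdTerminal.from V).left = V.hom := by
    rw [Over.mkIdTerminal.hom_ext (Over.mkIdTerminal.from V) (Over.homMk V.hom)]
    rfl
  rw [h1]
  exact hV

/-- The diagonal of a slice by a separated scheme is finite. -/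
theorem repByAlgSpWith_fin_diag_overCat (V : Over S) (hV : IsSeparated V.hom) :
    AlgSt.RepByAlgSpWith AlgSp.IsFiniteMor (FibCat.diag (FibCat.toSelf (FibCat.overCat V))) := by
  refine K738.repByAlgSpWith_diag (repByAlgSpWith_sep_toSelf V hV) ?_
  intro F U W π i fst g hπ sq hi
  rw [K634.FiniteMor.isFiniteMor_iff, AlgSp.repWith_yon_map_iff]
  have h1 : IsClosedImmersion i.left := hπ.2 _ _ _ sq
  exact (inferInstance : IsFinite i.left)

/-- A finite flat surjective chart by a separated scheme gives a finite diagonal. -/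
theorem repByAlgSpWith_fin_diag {𝒳 : AlgSt.Cat S} (h𝒳 : FibCat.IsFibGrpd 𝒳.p)
    (hd : AlgSt.RepByAlgSp1 (FibCat.diag (FibCat.toSelf 𝒳))) {U : Over S} (hU : IsSeparated U.hom)
    (x : FibCat.overCat U ⥤ᵇ 𝒳) (hx : AlgSt.RepByAlgSpWith (AlgSp.IsSurjectiveMor ⊓ AlgSp.LocP @Flat ⊓
      AlgSp.IsFiniteMor ⊓ AlgSp.LocP @LocallyOfFinitePresentation) x) :
    AlgSt.RepByAlgSpWith AlgSp.IsFiniteMor (FibCat.diag (FibCat.toSelf 𝒳)) := by
  refine K739.ChartDiag.repByAlgSpWith_diag_of_chart bc_fin comp_fin loc_fin (K735.Fp.isFibGrpd_overCat U) h𝒳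
    K735.Fp.isFibGrpd_selfOver x (FibCat.toSelf 𝒳) hd
    (repByAlgSpWith_mono (fun _ _ _ h => h.1.1.2) hx) (repByAlgSpWith_mono (fun _ _ _ h => h.2) hx)
    (repByAlgSpWith_mono (fun _ _ _ h => h.1.1.1) hx) (repByAlgSpWith_mono (fun _ _ _ h => h.1.2) hx) ?_
  exact repByAlgSpWith_diag_congr (selfIso (BasedFunctor.comp x (FibCat.toSelf 𝒳)) (FibCat.toSelf (FibCat.overCat U)))
    (K735.Fp.isFibGrpd_overCat U) K735.Fp.isFibGrpd_selfOver (repByAlgSpWith_fin_diag_overCat U hU)

theorem repByAlgSpWith_mono' {P Q : MorphismProperty (AlgSp.Sp S)}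
    (hPQ : ∀ {F : AlgSp.Sp S} {U : Over S} (f : F ⟶ (AlgSp.yon S).obj U), P f → Q f)
    {𝒳 𝒴 : AlgSt.Cat S} {f : 𝒳 ⥤ᵇ 𝒴}
    (h : AlgSt.RepByAlgSpWith P f) : AlgSt.RepByAlgSpWith Q f := fun U y => by
  obtain ⟨F, e, he, hP⟩ := h U y
  exact ⟨F, e, he, hPQ _ hP⟩

/-- Finite morphisms are proper. -/
theorem isProperMor_of_isFiniteMor {F : AlgSp.Sp S} {U : Over S} (f : F ⟶ (AlgSp.yon S).obj U)
    (h : AlgSp.IsFiniteMor f) : AlgSp.IsProperMor f := by
  rw [K634.FiniteMor.isFiniteMor_iff] at h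
  rw [K597.Proper.isProperMor_iff_repWith (AlgSp.IsAlgSpace.yon_obj U) h.1]
  exact K595.RepDesc.repWith_mono (fun _ _ g (hg : IsFinite g) => (inferInstance : IsProper g)) h

/-- Finite morphisms are locally quasi-finite. -/
theorem lqf_of_isFiniteMor {X Y : AlgSp.Sp S} (f : X ⟶ Y) (h : AlgSp.IsFiniteMor f) :
    AlgSp.LocP (@LocallyQuasiFinite ⊓ @LocallyOfFiniteType) f := by
  rw [K634.FiniteMor.isFiniteMor_iff] at h
  refine K597.locP_of_repWith (P := @LocallyQuasiFinite ⊓ @LocallyOfFiniteType) ?_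
    (K595.RepDesc.repWith_mono (fun _ _ g (hg : IsFinite g) =>
      ⟨(inferInstance : LocallyQuasiFinite g), (inferInstance : LocallyOfFiniteType g)⟩) h)
  rintro A B C e f he ⟨h3, h4⟩
  have he' : Etale e := he
  have h5 : LocallyQuasiFinite e := K597.locallyQuasiFinite_of_etale e
  exact ⟨MorphismProperty.comp_mem (W := @LocallyQuasiFinite) e f h5 h3,
    (inferInstance : LocallyOfFiniteType (e ≫ f))⟩

end K746.DiagFin
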