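import Mathlib.AlgebraicGeometry.ZariskisMainTheorem
import Mathlib.AlgebraicGeometry.QuasiAffine
import Groth.Agent.S2127

/-!
# Finite sets of points of a separated locally quasi-finite scheme over an affine scheme

`exists_isAffineOpen`: if `f : X ⟶ V` is separated, locally quasi-finite and locally of finite type and `V` is affine,
then every finite set of points of `X` is contained in an affine open.
`exists_isAffineOpen_over`: the relative version, over an affine open of an arbitrary target.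
-/

set_option autoImplicit false
universe u
open CategoryTheory CategoryTheory.Limits AlgebraicGeometry TopologicalSpace

namespace K746.AffFin

/-- a finite set of points is contained in a quasi-compact open -/
theorem exists_isCompact_open (X : Scheme.{u}) (E : Set X) (hE : E.Finite) :
    ∃ W : X.Opens, IsCompact (W : Set X) ∧ E ⊆ (W : Set X) := by
  induction E, hE using Set.Finite.induction_on with
  | empty => exact ⟨⊥, by simp, Set.empty_subset _⟩
  | @insert a s _ _ ih =>
    obtain ⟨W, hW, hs⟩ := ih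
    obtain ⟨V, hV, haV, -⟩ := exists_isAffineOpen_mem_and_subset (X := X) (x := a) (U := ⊤) trivial
    refine ⟨W ⊔ V, hW.union hV.isCompact, ?_⟩
    rw [Set.insert_subset_iff]
    exact ⟨Or.inr haV, hs.trans (fun x hx => Or.inl hx)⟩

/-- a quasi-compact separated locally quasi-finite scheme over an affine scheme is quasi-affine -/
theorem isQuasiAffine {X V : Scheme.{u}} (f : X ⟶ V) [IsAffine V] [IsSeparated f]
    [LocallyQuasiFinite f] [LocallyOfFiniteType f] [CompactSpace X] : X.IsQuasiAffine := by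
  have : QuasiCompact f := by
    have h := (HasAffineProperty.iff_of_isAffine (P := @QuasiCompact) (f := f)).2 ‹_›
    exact h
  have h1 : IsAffine f.normalization := isAffine_of_isAffineHom f.fromNormalization
  exact Scheme.IsQuasiAffine.of_isImmersion f.toNormalization

theorem exists_isAffineOpen {X V : Scheme.{u}} (f : X ⟶ V) [IsAffine V] [IsSeparated f]
    [LocallyQuasiFinite f] [LocallyOfFiniteType f] (E : Set X) (hE : E.Finite) :
    ∃ W : X.Opens, IsAffineOpen W ∧ E ⊆ (W : Set X) := by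
  obtain ⟨Q, hQ, hEQ⟩ := exists_isCompact_open X E hE
  have : CompactSpace (Q : Scheme.{u}) := isCompact_iff_compactSpace.mp hQ
  have hqa : (Q : Scheme.{u}).IsQuasiAffine := isQuasiAffine (Q.ι ≫ f)
  obtain ⟨r, hr, hEr, -⟩ := Groth.Agent.S2127.exists_basicOpen (X := (Q : Scheme.{u})) ⊤
    (Q.ι ⁻¹' E) (hE.preimage (Q.ι.isOpenEmbedding.injective.injOn)) (fun _ _ => trivial)
  refine ⟨Q.ι ''ᵁ (Q : Scheme.{u}).basicOpen r, hr.image_of_isOpenImmersion _, ?_⟩
  intro x hx
  exact ⟨⟨x, hEQ hx⟩, hEr (show Q.ι ⟨x, hEQ hx⟩ ∈ E from hx), rfl⟩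

/-- relative version: a finite set of points mapping into an affine open of the target. -/
theorem exists_isAffineOpen_over {X V : Scheme.{u}} (f : X ⟶ V) [IsSeparated f]
    [LocallyQuasiFinite f] [LocallyOfFiniteType f] (E : Set X) (hE : E.Finite) (O : V.Opens)
    (hO : IsAffineOpen O) (hEO : ∀ x ∈ E, f x ∈ O) :
    ∃ W : X.Opens, IsAffineOpen W ∧ E ⊆ (W : Set X) ∧ W ≤ f ⁻¹ᵁ O := by
  have : IsAffine (O : Scheme.{u}) := hO
  obtain ⟨W, hW, hEW⟩ := exists_isAffineOpen (f ∣_ O) ((f ⁻¹ᵁ O).ι ⁻¹' E)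
    (hE.preimage ((f ⁻¹ᵁ O).ι.isOpenEmbedding.injective.injOn))
  refine ⟨(f ⁻¹ᵁ O).ι ''ᵁ W, hW.image_of_isOpenImmersion _, ?_, ?_⟩
  · intro x hx
    exact ⟨⟨x, hEO x hx⟩, hEW (show (f ⁻¹ᵁ O).ι ⟨x, hEO x hx⟩ ∈ E from hx), rfl⟩
  · rintro x ⟨y, -, rfl⟩
    exact y.2

end K746.AffFin
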