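import Groth.Agent.S3694
import Mathlib.AlgebraicGeometry.Morphisms.FlatMono
import Mathlib.FieldTheory.IsAlgClosed.AlgebraicClosure

/-!
# Étale morphisms bijective on geometric points are isomorphisms
-/

set_option autoImplicit false
set_option backward.isDefEq.respectTransparency.types false
universe u
open CategoryTheory CategoryTheory.Limits AlgebraicGeometry

namespace K746.GeomIso

variable {X Y : Scheme.{u}} (f : X ⟶ Y)

theorem surjective_of_geomPt
    (h : ∀ (k : Type u) [Field k] [IsAlgClosed k] (y : Spec (CommRingCat.of k) ⟶ Y),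
      ∃ x : Spec (CommRingCat.of k) ⟶ X, x ≫ f = y) : Surjective f := by
  refine ⟨fun y => ?_⟩
  let K := AlgebraicClosure (Y.residueField y)
  let q : Spec (CommRingCat.of K) ⟶ Y :=
    Spec.map (CommRingCat.ofHom (algebraMap (Y.residueField y) K)) ≫ Y.fromSpecResidueField y
  obtain ⟨x, hx⟩ := h K q
  refine ⟨x (IsLocalRing.closedPoint K), ?_⟩
  rw [← Scheme.Hom.comp_apply, hx]
  have := Scheme.fromSpecResidueField_apply y (Spec.map (CommRingCat.ofHom
    (algebraMap (Y.residueField y) K)) (IsLocalRing.closedPoint K))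
  rw [← Scheme.Hom.comp_apply] at this
  exact this

theorem universallyInjective_of_geomPt
    (h : ∀ (k : Type u) [Field k] [IsAlgClosed k] (x x' : Spec (CommRingCat.of k) ⟶ X),
      x ≫ f = x' ≫ f → x = x') : UniversallyInjective f := by
  refine ((tfae_universallyInjective f).out 0 1).2 fun K hK g₁ g₂ hg => ?_
  let _ : Field K := hK
  let q : Spec (CommRingCat.of (AlgebraicClosure K)) ⟶ Spec (CommRingCat.of K) :=
    Spec.map (CommRingCat.ofHom (algebraMap K (AlgebraicClosure K)))
  have hfl : Flat q := by
    refine (HasRingHomProperty.Spec_iff (P := @Flat)).2 ?_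
    change (algebraMap K (AlgebraicClosure K)).Flat
    rw [RingHom.flat_algebraMap_iff]
    infer_instance
  have hs : Surjective q := ⟨fun x => ⟨IsLocalRing.closedPoint _, Subsingleton.elim _ _⟩⟩
  have : Epi q := Flat.epi_of_flat_of_surjective q
  rw [← cancel_epi q]
  exact h (AlgebraicClosure K) _ _ (by
    rw [Category.assoc, Category.assoc]; exact congrArg (fun z => q ≫ z) hg)

theorem isIso_of_etale [Etale f]
    (h₁ : ∀ (k : Type u) [Field k] [IsAlgClosed k] (x x' : Spec (CommRingCat.of k) ⟶ X),
      x ≫ f = x' ≫ f → x = x')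
    (h₂ : ∀ (k : Type u) [Field k] [IsAlgClosed k] (y : Spec (CommRingCat.of k) ⟶ Y),
      ∃ x : Spec (CommRingCat.of k) ⟶ X, x ≫ f = y) : IsIso f := by
  have := universallyInjective_of_geomPt f h₁
  have := surjective_of_geomPt f h₂
  have := Groth.Agent.S3694.result f
  exact isIso_of_isOpenImmersion_of_opensRange_eq_top f (by
    rw [← top_le_iff]
    intro y _
    exact f.surjective y)

end K746.GeomIso
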