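import Groth.Agent.GrpQ.H765.FinQuot
import Groth.Agent.GrpQ.H766.LocalStr
import Groth.Agent.Grpsch.QuotPoints
import Groth.Agent.S1878
import Groth.Prelude.Def_Mor2

/-!
# Good groupoid schemes: finite locally free, orbits in affine opens

`Good G`: the source map is finite locally free and every orbit is contained in an affine open.
`Good.exists_isGeomQuot`, and the geometric points of a geometric quotient of a good groupoid scheme.
-/

set_option autoImplicit false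
universe u
open CategoryTheory CategoryTheory.Limits AlgebraicGeometry TopologicalSpace

namespace K746

open Groth.Agent.GrpQ.H766.GeomQuotDef Groth.Agent.GrpQ.H766.GeomQuotLocal
open Groth.Agent.GrpQ.H766.LocalStr Groth.Agent.GrpQ.H766.AffineCase
open Groth.Agent.Grpsch Groth.Agent.Grpsch.Restrict

/-- The source map is finite locally free and every orbit lies in an affine open. -/
structure Good {S : Scheme.{u}} (G : Grpd.GroupoidScheme S) : Prop where
  flf : Mor2.IsFinLocFree G.s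
  orb : ∀ x : G.U, ∃ V : G.U.Opens, IsAffineOpen V ∧ G.t.base '' (G.s.base ⁻¹' {x}) ⊆ (V : Set G.U)

namespace Good

variable {S : Scheme.{u}} {G : Grpd.GroupoidScheme S}

theorem of_isAffine [IsAffine G.U] [IsFinite G.s] [Flat G.s] [LocallyOfFinitePresentation G.s] :
    Good G :=
  ⟨⟨inferInstance, inferInstance, inferInstance⟩,
    fun _ => ⟨⊤, isAffineOpen_top G.U, fun _ _ => trivial⟩⟩

theorem flf_t (h : Good G) : Mor2.IsFinLocFree G.t :=
  Groth.Agent.GrpQ.H765.FinQuot.isFinLocFree_t G h.flf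

theorem exists_isGeomQuot (h : Good G) : ∃ (Y : Scheme.{u}) (p : G.U ⟶ Y), IsGeomQuot G.s G.t p := by
  obtain ⟨Y, p, hp, -⟩ := Groth.Agent.GrpQ.H765.FinQuot.exists_isGeomQuot (G := G) h.flf h.orb
  exact ⟨Y, p, hp⟩

variable {Y : Scheme.{u}} {p : G.U ⟶ Y}

theorem isIntegralHom (h : Good G) (hp : IsGeomQuot G.s G.t p) : IsIntegralHom p := by
  obtain ⟨_, _, _⟩ := h.flf
  obtain ⟨_, _, _⟩ := h.flf_t
  exact Groth.Agent.GrpQ.H766.LocalStr.isIntegralHom hp h.orb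

theorem isOpenMap (h : Good G) (hp : IsGeomQuot G.s G.t p) : IsOpenMap p := by
  obtain ⟨_, _, _⟩ := h.flf
  obtain ⟨_, _, _⟩ := h.flf_t
  exact Groth.Agent.GrpQ.H766.LocalStr.isOpenMap hp

theorem exists_mem_isAffineOpen (h : Good G) (hp : IsGeomQuot G.s G.t p) (y : Y) :
    ∃ W : Y.Opens, y ∈ W ∧ IsAffineOpen (p ⁻¹ᵁ W) ∧ IsAffineOpen W := by
  obtain ⟨_, _, _⟩ := h.flf
  obtain ⟨_, _, _⟩ := h.flf_t
  obtain ⟨W, hy, hW⟩ := Groth.Agent.GrpQ.H766.LocalStr.exists_mem_isAffineOpen hp h.orb y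
  exact ⟨W, hy, hW, Groth.Agent.GrpQ.H766.LocalStr.isAffineOpen_of_preimage hp W hW⟩

/-- the restricted groupoid over an invariant affine open is affine and finite locally free -/
theorem restrict_props (h : Good G) (V : G.U.Opens) (hV : G.s ⁻¹ᵁ V = G.t ⁻¹ᵁ V)
    (hVa : IsAffineOpen V) :
    IsAffine (restrict G V.ι).U ∧ IsAffine (restrict G V.ι).R ∧ IsFinite (restrict G V.ι).s ∧
      Flat (restrict G V.ι).s ∧ LocallyOfFinitePresentation (restrict G V.ι).s ∧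
      IsFinite (restrict G V.ι).t ∧ Flat (restrict G V.ι).t ∧
      LocallyOfFinitePresentation (restrict G V.ι).t := by
  obtain ⟨_, _, _⟩ := h.flf
  obtain ⟨_, _, _⟩ := h.flf_t
  have h1 := isPullback_src G V hV
  have h2 := isPullback_tgt G V hV
  have i1 : IsFinite (restrict G V.ι).s := MorphismProperty.of_isPullback h1.flip ‹_›
  have i2 : Flat (restrict G V.ι).s := MorphismProperty.of_isPullback h1.flip ‹_›
  have i3 : LocallyOfFinitePresentation (restrict G V.ι).s :=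
    MorphismProperty.of_isPullback h1.flip ‹_›
  have i4 : IsFinite (restrict G V.ι).t := MorphismProperty.of_isPullback h2.flip ‹_›
  have i5 : Flat (restrict G V.ι).t := MorphismProperty.of_isPullback h2.flip ‹_›
  have i6 : LocallyOfFinitePresentation (restrict G V.ι).t :=
    MorphismProperty.of_isPullback h2.flip ‹_›
  have i7 : IsAffine (restrict G V.ι).U := hVa
  have i8 : IsAffine (restrict G V.ι).R := isAffine_of_isAffineHom (restrict G V.ι).s
  exact ⟨i7, i8, i1, i2, i3, i4, i5, i6⟩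

/-- a point with values in a field, landing in an open, factors through it -/
theorem exists_factor {X : Scheme.{u}} (V : X.Opens) {k : Type u} [Field k]
    (x : Spec (CommRingCat.of k) ⟶ X) (h : x (IsLocalRing.closedPoint k) ∈ V) :
    ∃ x' : Spec (CommRingCat.of k) ⟶ (V : Scheme.{u}), x' ≫ V.ι = x := by
  refine ⟨IsOpenImmersion.lift V.ι x ?_, IsOpenImmersion.lift_fac _ _ _⟩
  rintro _ ⟨z, rfl⟩
  rw [Scheme.Opens.range_ι, Subsingleton.elim z (IsLocalRing.closedPoint k)]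
  exact h

theorem toQuot_factor (W : Y.Opens)
    {e : Spec (CommRingCat.of (restrict G (p ⁻¹ᵁ W).ι).invariants) ≅ (W : Scheme.{u})}
    (he : (restrict G (p ⁻¹ᵁ W).ι).toQuot ≫ e.hom = p ∣_ W) {T : Scheme.{u}}
    (y : T ⟶ (restrict G (p ⁻¹ᵁ W).ι).U) :
    (y ≫ (restrict G (p ⁻¹ᵁ W).ι).toQuot) ≫ e.hom ≫ W.ι =
      (show T ⟶ ↑(p ⁻¹ᵁ W) from y) ≫ (p ⁻¹ᵁ W).ι ≫ p := by
  rw [Category.assoc, ← morphismRestrict_ι, ← he]
  rfl

theorem toQuot_hom (W : Y.Opens)
    {e : Spec (CommRingCat.of (restrict G (p ⁻¹ᵁ W).ι).invariants) ≅ (W : Scheme.{u})}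
    (he : (restrict G (p ⁻¹ᵁ W).ι).toQuot ≫ e.hom = p ∣_ W) :
    (restrict G (p ⁻¹ᵁ W).ι).toQuot ≫ e.hom ≫ W.ι = (Restrict.hom G (p ⁻¹ᵁ W).ι).fU ≫ p := by
  have h := toQuot_factor W he (𝟙 _)
  rw [Category.id_comp] at h
  exact h.trans (Category.id_comp _)

/-- the quotient of the restriction to an invariant affine open, with consistent types -/
theorem isGeomQuot_restrict (h : Good G) (V : G.U.Opens) (hV : G.s ⁻¹ᵁ V = G.t ⁻¹ᵁ V)
    (hVa : IsAffineOpen V) :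
    IsGeomQuot (restrict G V.ι).s (restrict G V.ι).t (restrict G V.ι).toQuot := by
  obtain ⟨_, _, _, _, _, _, _, _⟩ := h.restrict_props V hV hVa
  exact isGeomQuot_toQuot (restrict G V.ι)

/-- two geometric points of `U` with the same image in the quotient are related. -/
theorem exists_geomPt_R (h : Good G) (hp : IsGeomQuot G.s G.t p) {k : Type u} [Field k]
    [IsAlgClosed k] (x₀ x₁ : Spec (CommRingCat.of k) ⟶ G.U) (hx : x₀ ≫ p = x₁ ≫ p) :
    ∃ r : Spec (CommRingCat.of k) ⟶ G.R, r ≫ G.t = x₀ ∧ r ≫ G.s = x₁ := by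
  obtain ⟨W, hy, hW, -⟩ := h.exists_mem_isAffineOpen hp (p (x₀ (IsLocalRing.closedPoint k)))
  obtain ⟨_, _, _⟩ := h.flf
  obtain ⟨_, _, _⟩ := h.flf_t
  obtain ⟨_, _, _, _, _, _, _, _⟩ := h.restrict_props _ (preimage_inv hp.w W) hW
  obtain ⟨e, he⟩ := exists_iso_toQuot hp W hW
  have hy' : p (x₁ (IsLocalRing.closedPoint k)) ∈ W := by
    rw [← Scheme.Hom.comp_apply, ← hx, Scheme.Hom.comp_apply]; exact hy
  obtain ⟨y₀, hy₀⟩ := exists_factor (p ⁻¹ᵁ W) x₀ hy
  obtain ⟨y₁, hy₁⟩ := exists_factor (p ⁻¹ᵁ W) x₁ hy'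
  have e1 := fun y : Spec (CommRingCat.of k) ⟶ (restrict G (p ⁻¹ᵁ W).ι).U => toQuot_factor W he y
  have h1 : (show Spec (CommRingCat.of k) ⟶ (restrict G (p ⁻¹ᵁ W).ι).U from y₀) ≫
      (restrict G (p ⁻¹ᵁ W).ι).toQuot =
      (show Spec (CommRingCat.of k) ⟶ (restrict G (p ⁻¹ᵁ W).ι).U from y₁) ≫
      (restrict G (p ⁻¹ᵁ W).ι).toQuot := by
    rw [← cancel_mono (e.hom ≫ W.ι), e1, e1, reassoc_of% hy₀, reassoc_of% hy₁, hx]
  obtain ⟨r, hr1, hr2⟩ := (((Groth.Agent.S1878.result S (restrict G (p ⁻¹ᵁ W).ι)).2 k).2 y₀ y₁).1 h1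
  have ht := (Restrict.hom G (p ⁻¹ᵁ W).ι).comm_t
  have hs := (Restrict.hom G (p ⁻¹ᵁ W).ι).comm_s
  refine ⟨r ≫ (Restrict.hom G (p ⁻¹ᵁ W).ι).fR, ?_, ?_⟩
  · rw [Category.assoc, ht, reassoc_of% hr1]; exact hy₀
  · rw [Category.assoc, hs, reassoc_of% hr2]; exact hy₁

/-- geometric points lift along a geometric quotient of a good groupoid scheme -/
theorem exists_geomPt_U (h : Good G) (hp : IsGeomQuot G.s G.t p) {k : Type u} [Field k]
    [IsAlgClosed k] (m : Spec (CommRingCat.of k) ⟶ Y) :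
    ∃ x : Spec (CommRingCat.of k) ⟶ G.U, x ≫ p = m := by
  obtain ⟨W, hy, hW, -⟩ := h.exists_mem_isAffineOpen hp (m (IsLocalRing.closedPoint k))
  obtain ⟨_, _, _⟩ := h.flf
  obtain ⟨_, _, _⟩ := h.flf_t
  obtain ⟨_, _, _, _, _, _, _, _⟩ := h.restrict_props _ (preimage_inv hp.w W) hW
  obtain ⟨e, he⟩ := exists_iso_toQuot hp W hW
  obtain ⟨m', hm'⟩ := exists_factor W m hy
  obtain ⟨x, hx⟩ := ((Groth.Agent.S1878.result S (restrict G (p ⁻¹ᵁ W).ι)).2 k).1 (m' ≫ e.inv)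
  refine ⟨(show Spec (CommRingCat.of k) ⟶ ↑(p ⁻¹ᵁ W) from x) ≫ (p ⁻¹ᵁ W).ι, ?_⟩
  have h1 := toQuot_factor W he x
  rw [hx, Category.assoc, Iso.inv_hom_id_assoc, hm'] at h1
  rw [Category.assoc]
  exact h1.symm

end Good

end K746
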