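import Groth.Agent.AlgSt.K746.Act
import Groth.Agent.AlgSt.K746.AffFin
import Groth.Agent.AlgSt.K746.Good
import Groth.Agent.AlgSt.K746.GeomIso
import Groth.Agent.S1895

/-!
# Étale separated schemes with a stabilizer-trivial action of an affine finite locally free groupoid descend to the
quotient

`exists_desc`: `G` affine finite locally free with geometric quotient `p : G.U ⟶ Y`, `A : Act G c` with `c : W ⟶ G.U`
étale, separated, stabilizers acting trivially.  Then `A.gpd` has a geometric quotient `p' : W ⟶ Y'`, with `Y' ⟶ Y`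
étale and separated and `W = G.U ×_Y Y'`.
-/

set_option autoImplicit false
universe u

open CategoryTheory CategoryTheory.Limits AlgebraicGeometry TopologicalSpace

namespace K746.EtDesc

open Groth.Agent.GrpQ.H766.GeomQuotDef Groth.Agent.GrpQ.H766.GeomQuotLocal
open Groth.Agent.GrpQ.H766.LocalStr Groth.Agent.GrpQ.H766.AffineCase
open Groth.Agent.Grpsch Groth.Agent.Grpsch.Restrict

variable {S : Scheme.{u}} {G : Grpd.GroupoidScheme S} {W : Scheme.{u}} {c : W ⟶ G.U}

theorem isFinLocFree_gpd (A : Act G c) (h : Mor2.IsFinLocFree G.s) : Mor2.IsFinLocFree A.gpd.s := by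
  obtain ⟨_, _, _⟩ := h
  exact ⟨MorphismProperty.of_isPullback A.isPullback_s ‹_›, MorphismProperty.of_isPullback A.isPullback_s ‹_›,
    MorphismProperty.of_isPullback A.isPullback_s ‹_›⟩

theorem good_gpd (A : Act G c) [IsAffine G.U] (h : Mor2.IsFinLocFree G.s) [IsSeparated c] [LocallyQuasiFinite c]
    [LocallyOfFiniteType c] : Good A.gpd := by
  have h' := isFinLocFree_gpd A h
  refine ⟨h', fun x => ?_⟩
  obtain ⟨_, _, _⟩ := h'
  have hfin : (A.gpd.s.base ⁻¹' {x}).Finite := A.gpd.s.finite_preimage_singleton x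
  obtain ⟨V, hV, hsub⟩ := AffFin.exists_isAffineOpen c (A.gpd.t.base '' (A.gpd.s.base ⁻¹' {x})) (hfin.image _)
  exact ⟨V, hV, hsub⟩

/-- composition of morphisms of groupoid schemes -/
noncomputable def homComp {G₁ G₂ G₃ : Grpd.GroupoidScheme S} (f : Grpd.GroupoidScheme.Hom G₁ G₂)
    (g : Grpd.GroupoidScheme.Hom G₂ G₃) : Grpd.GroupoidScheme.Hom G₁ G₃ where
  fU := f.fU ≫ g.fU
  fR := f.fR ≫ g.fR
  fU_over := by rw [Category.assoc, g.fU_over, f.fU_over]
  comm_s := by rw [Category.assoc, g.comm_s, reassoc_of% f.comm_s]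
  comm_t := by rw [Category.assoc, g.comm_t, reassoc_of% f.comm_t]
  comm_c α β h := by
    rw [← Category.assoc, f.comm_c α β h, g.comm_c]
    congr 1

theorem stab_restrict (A : Act G c) (hA : A.Triv) (V : W.Opens) {T : Scheme.{u}} (r : T ⟶ G.R)
    (w : T ⟶ (restrict A.gpd V.ι).U)
    (h1 : r ≫ G.s = w ≫ (homComp (Restrict.hom A.gpd V.ι) A.hom).fU)
    (h2 : r ≫ G.t = w ≫ (homComp (Restrict.hom A.gpd V.ι) A.hom).fU) :
    ∃! r' : T ⟶ (restrict A.gpd V.ι).R, r' ≫ (homComp (Restrict.hom A.gpd V.ι) A.hom).fR = r ∧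
      r' ≫ (restrict A.gpd V.ι).s = w ∧ r' ≫ (restrict A.gpd V.ι).t = w := by
  let w' : T ⟶ V.toScheme := w
  have h1' : r ≫ G.s = (w' ≫ V.ι) ≫ c := by rw [Category.assoc]; exact h1
  have h2' : r ≫ G.t = (w' ≫ V.ι) ≫ c := by rw [Category.assoc]; exact h2
  let a : T ⟶ pullback G.s c := pullback.lift r (w' ≫ V.ι) h1'
  have ha : a ≫ A.gpd.t = w' ≫ V.ι := hA r (w' ≫ V.ι) h1' h2'
  have hb : a ≫ A.gpd.s = w' ≫ V.ι := pullback.lift_snd _ _ _
  refine ⟨Restrict.mk A.gpd V.ι w' a w' ha hb, ⟨?_, Restrict.mk_src _ _ _ _ _ _ _, Restrict.mk_tgt _ _ _ _ _ _ _⟩, ?_⟩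
  · change Restrict.mk A.gpd V.ι w' a w' ha hb ≫ toR A.gpd V.ι ≫ pullback.fst G.s c = r
    rw [Restrict.mk_toR_assoc]
    exact pullback.lift_fst _ _ _
  · rintro r' ⟨h3, h4, h5⟩
    have h3' : (r' ≫ toR A.gpd V.ι) ≫ pullback.fst G.s c = r := (Category.assoc _ _ _).trans h3
    have h4' : (show T ⟶ arrows A.gpd V.ι from r') ≫ src A.gpd V.ι = w' := h4
    have h5' : (show T ⟶ arrows A.gpd V.ι from r') ≫ tgt A.gpd V.ι = w' := h5
    refine Restrict.arrows_hom_ext ?_ ?_ ?_
    · rw [Restrict.mk_tgt]; exact h5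
    · rw [Restrict.mk_toR]
      apply pullback.hom_ext
      · exact h3'.trans (pullback.lift_fst _ _ _).symm
      · refine Eq.trans ?_ (pullback.lift_snd _ _ _).symm
        have h6 := Restrict.toR_s A.gpd V.ι
        exact (Category.assoc _ _ _).trans ((congrArg (fun z => r' ≫ z) h6).trans
          ((Category.assoc _ _ _).symm.trans (congrArg (fun z => z ≫ V.ι) h4')))
    · rw [Restrict.mk_src]; exact h4

/-- Local form of the étale descent theorem: over an invariant affine open of `W`. -/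
theorem exists_local (A : Act G c) (hA : A.Triv) [IsAffine G.U] [IsFinite G.s] [Flat G.s]
    [LocallyOfFinitePresentation G.s] [Etale c] (V : A.gpd.U.Opens)
    (hV : A.gpd.s ⁻¹ᵁ V = A.gpd.t ⁻¹ᵁ V) (hVa : IsAffineOpen V) :
    ∃ g : Spec (CommRingCat.of (restrict A.gpd V.ι).invariants) ⟶ Spec (CommRingCat.of G.invariants),
      (restrict A.gpd V.ι).toQuot ≫ g = (Restrict.hom A.gpd V.ι).fU ≫ A.hom.fU ≫ G.toQuot ∧ Etale g := by
  obtain ⟨_, _, _⟩ := Groth.Agent.GrpQ.H765.FinQuot.isFinLocFree_t G ⟨‹_›, ‹_›, ‹_›⟩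
  obtain ⟨_, _, _⟩ := isFinLocFree_gpd A ⟨‹_›, ‹_›, ‹_›⟩
  obtain ⟨_, _, _⟩ := Groth.Agent.GrpQ.H765.FinQuot.isFinLocFree_t A.gpd ⟨‹_›, ‹_›, ‹_›⟩
  have : IsAffine G.R := isAffine_of_isAffineHom G.s
  have h1 := isPullback_src A.gpd V hV
  have h2 := isPullback_tgt A.gpd V hV
  have i1 : IsFinite (restrict A.gpd V.ι).s := MorphismProperty.of_isPullback h1.flip ‹_›
  have i2 : Flat (restrict A.gpd V.ι).s := MorphismProperty.of_isPullback h1.flip ‹_›
  have i3 : LocallyOfFinitePresentation (restrict A.gpd V.ι).s :=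
    MorphismProperty.of_isPullback h1.flip ‹_›
  have i4 : IsFinite (restrict A.gpd V.ι).t := MorphismProperty.of_isPullback h2.flip ‹_›
  have i5 : Flat (restrict A.gpd V.ι).t := MorphismProperty.of_isPullback h2.flip ‹_›
  have i6 : LocallyOfFinitePresentation (restrict A.gpd V.ι).t :=
    MorphismProperty.of_isPullback h2.flip ‹_›
  have i7 : IsAffine (restrict A.gpd V.ι).U := hVa
  have i8 : IsAffine (restrict A.gpd V.ι).R := isAffine_of_isAffineHom (restrict A.gpd V.ι).s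
  let f : Grpd.GroupoidScheme.Hom (restrict A.gpd V.ι) G := homComp (Restrict.hom A.gpd V.ι) A.hom
  have hfU : f.fU = (Restrict.hom A.gpd V.ι).fU ≫ A.hom.fU := rfl
  have : Etale A.hom.fU := ‹Etale c›
  have : Etale (Restrict.hom A.gpd V.ι).fU := (inferInstance : Etale V.ι)
  have : Etale f.fU := by rw [hfU]; infer_instance
  obtain ⟨g, hg, hg'⟩ := Groth.Agent.S1895.result S (restrict A.gpd V.ι) G f
    (h1.flip.paste_horiz A.isPullback_s)
    (h2.flip.paste_horiz A.isPullback_t) (exists_stab_isPullback f (stab_restrict A hA V))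
  exact ⟨g, hg.trans (Category.assoc _ _ _), hg'⟩

theorem locallyQuasiFinite_of_etale {X Y : Scheme.{u}} (f : X ⟶ Y) [Etale f] : LocallyQuasiFinite f := by
  rw [HasRingHomProperty.eq_affineLocally (P := @LocallyQuasiFinite), affineLocally_iff_affineOpens_le]
  intro V W h
  have h1 : (f.appLE V W h).hom.FormallyUnramified :=
    HasRingHomProperty.appLE @FormallyUnramified f inferInstance V W h
  have h2 : (f.appLE V W h).hom.FiniteType :=
    HasRingHomProperty.appLE @LocallyOfFiniteType f inferInstance V W h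
  algebraize [(f.appLE V W h).hom]
  exact (RingHom.quasiFinite_algebraMap ..).mpr inferInstance

theorem of_forall_exists {P : MorphismProperty Scheme.{u}} [IsZariskiLocalAtSource P] {X Y : Scheme.{u}}
    (f : X ⟶ Y) (h : ∀ x : X, ∃ V : X.Opens, x ∈ V ∧ P (V.ι ≫ f)) : P f := by
  choose V hV hP using h
  refine IsZariskiLocalAtSource.of_iSup_eq_top V ?_ hP
  rw [← top_le_iff]
  intro x _
  exact Opens.mem_iSup.2 ⟨x, hV x⟩

variable {Y : Scheme.{u}} {p : G.U ⟶ Y}

theorem comp_inv (A : Act G c) (w : G.t ≫ p = G.s ≫ p) :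
    A.gpd.t ≫ A.hom.fU ≫ p = A.gpd.s ≫ A.hom.fU ≫ p := by
  rw [← reassoc_of% A.hom.comm_t, ← reassoc_of% A.hom.comm_s, w]

/-- The induced morphism on quotients is étale. -/
theorem etale_desc (A : Act G c) (hA : A.Triv) [IsAffine G.U] [IsFinite G.s] [Flat G.s]
    [LocallyOfFinitePresentation G.s] [Etale c] [IsSeparated c] (hp : IsGeomQuot G.s G.t p)
    {Y' : Scheme.{u}} {p' : A.gpd.U ⟶ Y'} (hp' : IsGeomQuot A.gpd.s A.gpd.t p') (g : Y' ⟶ Y)
    (hg : p' ≫ g = A.hom.fU ≫ p) : Etale g := by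
  have := locallyQuasiFinite_of_etale c
  have hgood := good_gpd A ⟨‹_›, ‹_›, ‹_›⟩
  obtain ⟨_, _, _⟩ := Groth.Agent.GrpQ.H765.FinQuot.isFinLocFree_t G ⟨‹_›, ‹_›, ‹_›⟩
  obtain ⟨_, _, _⟩ := isFinLocFree_gpd A ⟨‹_›, ‹_›, ‹_›⟩
  obtain ⟨_, _, _⟩ := Groth.Agent.GrpQ.H765.FinQuot.isFinLocFree_t A.gpd ⟨‹_›, ‹_›, ‹_›⟩
  have : IsAffine G.R := isAffine_of_isAffineHom G.s
  obtain ⟨e, he⟩ := exists_iso (isGeomQuot_toQuot G) hp
  refine of_forall_exists g fun y => ?_
  obtain ⟨V, hy, hV, -⟩ := hgood.exists_mem_isAffineOpen hp' y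
  refine ⟨V, hy, ?_⟩
  have hinv := preimage_inv hp'.w V
  obtain ⟨g₀, hg₀, het⟩ := exists_local A hA (p' ⁻¹ᵁ V) hinv hV
  obtain ⟨e', he'⟩ := exists_iso_toQuot hp' V hV
  have key : V.ι ≫ g = e'.inv ≫ g₀ ≫ e.hom := by
    have h1 : e'.hom ≫ V.ι ≫ g = g₀ ≫ e.hom := by
      refine (hgood.isGeomQuot_restrict (p' ⁻¹ᵁ V) hinv hV).hom_ext ?_
      rw [reassoc_of% hg₀, he, reassoc_of% (Good.toQuot_hom V he'), hg]
    rw [← h1, Iso.inv_hom_id_assoc]
  rw [key]
  infer_instance

/-- The square of quotients is cartesian. -/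
theorem isPullback_desc (A : Act G c) (hA : A.Triv) [IsAffine G.U] [IsFinite G.s] [Flat G.s]
    [LocallyOfFinitePresentation G.s] [Etale c] [IsSeparated c] (hp : IsGeomQuot G.s G.t p)
    {Y' : Scheme.{u}} {p' : A.gpd.U ⟶ Y'} (hp' : IsGeomQuot A.gpd.s A.gpd.t p') (g : Y' ⟶ Y)
    (hg : p' ≫ g = A.hom.fU ≫ p) : IsPullback A.hom.fU p' p g := by
  have hge := etale_desc A hA hp hp' g hg
  have := locallyQuasiFinite_of_etale c
  have hgood := good_gpd A ⟨‹_›, ‹_›, ‹_›⟩
  have hG : Good G := Good.of_isAffine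
  let θ : A.gpd.U ⟶ pullback p g := pullback.lift A.hom.fU p' hg.symm
  have hθ1 : θ ≫ pullback.fst _ _ = A.hom.fU := pullback.lift_fst _ _ _
  have hθ2 : θ ≫ pullback.snd _ _ = p' := pullback.lift_snd _ _ _
  have hfU : Etale A.hom.fU := ‹Etale c›
  have : Etale θ := by
    have : Etale (θ ≫ pullback.fst p g) := by rw [hθ1]; exact hfU
    exact Etale.of_comp θ (pullback.fst p g)
  have hiso : IsIso θ := by
    refine GeomIso.isIso_of_etale θ (fun k _ _ x x' h => ?_) (fun k _ _ y => ?_)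
    · have h1 : x ≫ A.hom.fU = x' ≫ A.hom.fU := by rw [← hθ1, reassoc_of% h]
      have h2 : x ≫ p' = x' ≫ p' := by rw [← hθ2, reassoc_of% h]
      obtain ⟨r, hr1, hr2⟩ := hgood.exists_geomPt_R hp' x x' h2
      have h3 : (r ≫ A.hom.fR) ≫ G.s = (show _ ⟶ W from x') ≫ c := by
        rw [Category.assoc, A.hom.comm_s, reassoc_of% hr2]; rfl
      have h4 : (r ≫ A.hom.fR) ≫ G.t = (show _ ⟶ W from x') ≫ c := by
        rw [Category.assoc, A.hom.comm_t, reassoc_of% hr1]; exact h1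
      have h5 := hA _ _ h3 h4
      have h6 := A.comp_act (show _ ⟶ pullback G.s c from r)
      refine Eq.trans hr1.symm (Eq.trans h6 (Eq.trans ?_ h5))
      exact A.dot_congr _ rfl hr2
    · obtain ⟨w, hw⟩ := hgood.exists_geomPt_U hp' (y ≫ pullback.snd _ _)
      have h1 : (y ≫ pullback.fst _ _) ≫ p = (w ≫ A.hom.fU) ≫ p := by
        rw [Category.assoc, Category.assoc, pullback.condition, ← hg, reassoc_of% hw]
      obtain ⟨r, hr1, hr2⟩ := hG.exists_geomPt_R hp _ _ h1
      let ρ : Spec (CommRingCat.of k) ⟶ A.gpd.R :=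
        (pullback.lift r (show _ ⟶ W from w) hr2 : Spec (CommRingCat.of k) ⟶ pullback G.s c)
      have e1 : ρ ≫ A.hom.fR = r := pullback.lift_fst _ _ _
      have e2 : ρ ≫ A.gpd.s = w := pullback.lift_snd _ _ _
      refine ⟨ρ ≫ A.gpd.t, ?_⟩
      apply pullback.hom_ext
      · rw [Category.assoc, hθ1, Category.assoc, ← A.hom.comm_t, reassoc_of% e1, hr1]
      · rw [Category.assoc, hθ2, Category.assoc, hp'.w, reassoc_of% e2, hw]
  exact IsPullback.of_iso_pullback ⟨hg.symm⟩ (asIso θ) hθ1 hθ2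

/-- If `t : A ⟶ B` is surjective and universally closed and `A ⟶ S` is separated, then `B ⟶ S` is separated. -/
theorem isSeparated_of_surjective {A B S : Scheme.{u}} (t : A ⟶ B) (p : B ⟶ S)
    [Surjective t] [UniversallyClosed t] [IsSeparated (t ≫ p)] : IsSeparated p := by
  have h0 : IsClosedImmersion (pullback.diagonal (t ≫ p)) := inferInstance
  let m : pullback (t ≫ p) (t ≫ p) ⟶ pullback p p :=
    pullback.map (t ≫ p) (t ≫ p) p p t t (𝟙 _) (by simp) (by simp)
  have hm : UniversallyClosed m :=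
    MorphismProperty.pullbackMap (P := @UniversallyClosed)
      (inferInstance : UniversallyClosed t) (inferInstance : UniversallyClosed t) rfl rfl
  have h1 : t ≫ pullback.diagonal p = pullback.diagonal (t ≫ p) ≫ m := by
    apply pullback.hom_ext
    · simp only [Category.assoc, pullback.diagonal_fst, Category.comp_id]
      rw [pullback.lift_fst, pullback.diagonal_fst_assoc]
    · simp only [Category.assoc, pullback.diagonal_snd, Category.comp_id]
      rw [pullback.lift_snd, pullback.diagonal_snd_assoc]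
  have h2 : UniversallyClosed (t ≫ pullback.diagonal p) := by
    rw [h1]; infer_instance
  have h3 : UniversallyClosed (pullback.diagonal p) := UniversallyClosed.of_comp_surjective t _
  refine ⟨?_⟩
  exact .of_isPreimmersion _ (pullback.diagonal p).isClosedMap.isClosed_range

/-- **Étale descent to the quotient.** -/
theorem exists_desc (A : Act G c) (hA : A.Triv) [IsAffine G.U] [IsFinite G.s] [Flat G.s]
    [LocallyOfFinitePresentation G.s] [Etale c] [IsSeparated c] (hp : IsGeomQuot G.s G.t p) :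
    ∃ (Y' : Scheme.{u}) (p' : A.gpd.U ⟶ Y') (g : Y' ⟶ Y), IsGeomQuot A.gpd.s A.gpd.t p' ∧
      Etale g ∧ IsSeparated g ∧ IsPullback A.hom.fU p' p g := by
  have := locallyQuasiFinite_of_etale c
  have hgood := good_gpd A ⟨‹_›, ‹_›, ‹_›⟩
  have hG : Good G := Good.of_isAffine
  obtain ⟨Y', p', hp'⟩ := hgood.exists_isGeomQuot
  let g : Y' ⟶ Y := hp'.desc (A.hom.fU ≫ p) (comp_inv A hp.w)
  have hg : p' ≫ g = A.hom.fU ≫ p := hp'.comp_desc _ _
  have h1 := etale_desc A hA hp hp' g hg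
  have h2 := isPullback_desc A hA hp hp' g hg
  refine ⟨Y', p', g, hp', h1, ?_, h2⟩
  have h3 : IsIntegralHom p' := hgood.isIntegralHom hp'
  have h4 : IsIntegralHom p := hG.isIntegralHom hp
  have h5 : Surjective p' := ⟨hp'.isQuotientMap.surjective⟩
  have h6 : IsSeparated A.hom.fU := ‹IsSeparated c›
  have h7 : IsSeparated (p' ≫ g) := by rw [hg]; infer_instance
  exact isSeparated_of_surjective p' g

end K746.EtDesc
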