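import Groth.Agent.Grpsch.Points

/-!
# Actions of a groupoid scheme on a scheme over its objects, and the action groupoid

`Act G c` for `c : W ⟶ G.U`: `(r, w) ↦ r · w` for `s r = c w`, with `c (r · w) = t r`.  `Act.gpd` is the action
groupoid `R ×_{s,U} W ⇉ W`, `Act.hom` its cartesian morphism to `G`.
-/

set_option autoImplicit false
universe u

open CategoryTheory CategoryTheory.Limits AlgebraicGeometry

namespace K746

open Groth.Agent.Grpsch.Points

variable {S : Scheme.{u}} (G : Grpd.GroupoidScheme S) {W : Scheme.{u}} (c : W ⟶ G.U)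

/-- An action of the groupoid scheme `G` on `c : W ⟶ G.U`. -/
structure Act where
  act : pullback G.s c ⟶ W
  act_c : ∀ {T : Scheme.{u}} (r : T ⟶ G.R) (w : T ⟶ W) (h : r ≫ G.s = w ≫ c),
    (pullback.lift r w h ≫ act) ≫ c = r ≫ G.t
  one_act : ∀ {T : Scheme.{u}} (w : T ⟶ W) (h : (w ≫ c ≫ G.e) ≫ G.s = w ≫ c),
    pullback.lift (w ≫ c ≫ G.e) w h ≫ act = w
  mul_act : ∀ {T : Scheme.{u}} (r r' : T ⟶ G.R) (w : T ⟶ W) (h : r ≫ G.s = r' ≫ G.t)
    (h' : r' ≫ G.s = w ≫ c) (h₁ : mul G r r' h ≫ G.s = w ≫ c)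
    (h₂ : r ≫ G.s = (pullback.lift r' w h' ≫ act) ≫ c),
    pullback.lift (mul G r r' h) w h₁ ≫ act = pullback.lift r (pullback.lift r' w h' ≫ act) h₂ ≫ act

namespace Act

variable {G c} (A : Act G c) {T T' : Scheme.{u}}

/-- `r · w`. -/
noncomputable def dot (r : T ⟶ G.R) (w : T ⟶ W) (h : r ≫ G.s = w ≫ c) : T ⟶ W :=
  pullback.lift r w h ≫ A.act

theorem dot_congr {r r' : T ⟶ G.R} {w w' : T ⟶ W} (h : r ≫ G.s = w ≫ c) (hr : r = r') (hw : w = w') :
    A.dot r w h = A.dot r' w' (by rw [← hr, ← hw, h]) := by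
  subst hr hw; rfl

@[simp] theorem dot_c (r : T ⟶ G.R) (w : T ⟶ W) (h : r ≫ G.s = w ≫ c) : A.dot r w h ≫ c = r ≫ G.t :=
  A.act_c r w h

theorem comp_dot (f : T' ⟶ T) (r : T ⟶ G.R) (w : T ⟶ W) (h : r ≫ G.s = w ≫ c) :
    f ≫ A.dot r w h = A.dot (f ≫ r) (f ≫ w) (by rw [Category.assoc, Category.assoc, h]) := by
  unfold dot
  rw [← Category.assoc]
  congr 1
  apply pullback.hom_ext <;> simp [pullback.lift_fst, pullback.lift_snd]

theorem comp_act (f : T ⟶ pullback G.s c) : f ≫ A.act = A.dot (f ≫ pullback.fst _ _) (f ≫ pullback.snd _ _)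
    (by rw [Category.assoc, Category.assoc, pullback.condition]) := by
  unfold dot
  congr 1
  apply pullback.hom_ext <;> simp [pullback.lift_fst, pullback.lift_snd]

theorem act_comp_c : A.act ≫ c = pullback.fst G.s c ≫ G.t := by
  have h := A.comp_act (𝟙 _)
  rw [Category.id_comp] at h
  rw [h, dot_c, Category.id_comp]

theorem dot_one (w : T ⟶ W) (x : T ⟶ G.U) (h : (x ≫ G.e) ≫ G.s = w ≫ c) : A.dot (x ≫ G.e) w h = w := by
  have hx : x = w ≫ c := by
    rw [← h, Category.assoc, G.e_s, Category.comp_id]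
  subst hx
  have := A.one_act w (by rw [Category.assoc, Category.assoc, G.e_s, Category.comp_id])
  conv_rhs => rw [← this]
  unfold dot
  congr 2

theorem mul_dot (r r' : T ⟶ G.R) (w : T ⟶ W) (h : r ≫ G.s = r' ≫ G.t) (h' : r' ≫ G.s = w ≫ c)
    (h₁ : mul G r r' h ≫ G.s = w ≫ c) (h₂ : r ≫ G.s = A.dot r' w h' ≫ c) :
    A.dot (mul G r r' h) w h₁ = A.dot r (A.dot r' w h') h₂ :=
  A.mul_act r r' w h h' h₁ h₂

theorem inv_dot_cancel (r : T ⟶ G.R) (w : T ⟶ W) (h : r ≫ G.s = w ≫ c)
    (h' : (r ≫ G.i) ≫ G.s = A.dot r w h ≫ c) : A.dot (r ≫ G.i) (A.dot r w h) h' = w := by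
  rw [← A.mul_dot (r ≫ G.i) r w (by rw [Category.assoc, G.i_s]) h (by rw [mul_s, h])]
  rw [A.dot_congr _ (inv_mul G r (by rw [Category.assoc, G.i_s])) rfl, dot_one]

theorem dot_inv_cancel (r : T ⟶ G.R) (w : T ⟶ W) (h : (r ≫ G.i) ≫ G.s = w ≫ c)
    (h' : r ≫ G.s = A.dot (r ≫ G.i) w h ≫ c) : A.dot r (A.dot (r ≫ G.i) w h) h' = w := by
  rw [← A.mul_dot r (r ≫ G.i) w (by rw [Category.assoc, G.i_t]) h (by rw [mul_s, h])]
  rw [A.dot_congr _ (mul_inv G r (by rw [Category.assoc, G.i_t])) rfl, dot_one]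

/-- composition in the action groupoid -/
noncomputable def comp (α β : T ⟶ pullback G.s c) (h : α ≫ pullback.snd _ _ = β ≫ A.act) :
    T ⟶ pullback G.s c :=
  pullback.lift (mul G (α ≫ pullback.fst _ _) (β ≫ pullback.fst _ _) (by
      rw [Category.assoc, pullback.condition, reassoc_of% h, A.act_comp_c, Category.assoc]))
    (β ≫ pullback.snd _ _) (by rw [mul_s, Category.assoc, Category.assoc, pullback.condition])

@[simp] theorem comp_fst (α β : T ⟶ pullback G.s c) (h : α ≫ pullback.snd _ _ = β ≫ A.act) :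
    A.comp α β h ≫ pullback.fst _ _ = mul G (α ≫ pullback.fst _ _) (β ≫ pullback.fst _ _) (by
      rw [Category.assoc, pullback.condition, reassoc_of% h, A.act_comp_c, Category.assoc]) :=
  pullback.lift_fst _ _ _

@[simp] theorem comp_snd (α β : T ⟶ pullback G.s c) (h : α ≫ pullback.snd _ _ = β ≫ A.act) :
    A.comp α β h ≫ pullback.snd _ _ = β ≫ pullback.snd _ _ :=
  pullback.lift_snd _ _ _

theorem comp_comp_act (α β : T ⟶ pullback G.s c) (h : α ≫ pullback.snd _ _ = β ≫ A.act) :
    A.comp α β h ≫ A.act = α ≫ A.act := by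
  rw [A.comp_act (A.comp α β h), A.dot_congr _ (A.comp_fst α β h) (A.comp_snd α β h),
    A.mul_dot _ _ _ _ (by rw [Category.assoc, Category.assoc, pullback.condition])
      (by rw [mul_s, Category.assoc, Category.assoc, pullback.condition])
      (by rw [dot_c, Category.assoc, pullback.condition, reassoc_of% h, A.act_comp_c, Category.assoc]),
    A.comp_act α]
  apply A.dot_congr _ rfl
  rw [← A.comp_act β, h]

/-- The composition morphism of the action groupoid. -/
noncomputable def cR : pullback (pullback.snd G.s c) A.act ⟶ pullback G.s c :=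
  A.comp (pullback.fst _ _) (pullback.snd _ _) pullback.condition

theorem lift_cR (α β : T ⟶ pullback G.s c) (h : α ≫ pullback.snd _ _ = β ≫ A.act) :
    pullback.lift α β h ≫ A.cR = A.comp α β h := by
  apply pullback.hom_ext
  · rw [Category.assoc, cR, comp_fst, comp_fst, comp_mul]
    apply mul_congr
    · rw [pullback.lift_fst_assoc]
    · rw [pullback.lift_snd_assoc]
  · rw [Category.assoc, cR, comp_snd, comp_snd, pullback.lift_snd_assoc]

/-- The action groupoid. -/
noncomputable def gpd : Grpd.GroupoidScheme S where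
  U := W
  R := pullback G.s c
  pU := c ≫ G.pU
  pR := pullback.fst _ _ ≫ G.pR
  s := pullback.snd _ _
  t := A.act
  e := pullback.lift (c ≫ G.e) (𝟙 _) (by rw [Category.assoc, G.e_s, Category.comp_id, Category.id_comp])
  i := pullback.lift (pullback.fst _ _ ≫ G.i) A.act (by rw [Category.assoc, G.i_s, A.act_comp_c])
  c := A.cR
  s_over := by rw [← G.s_over, pullback.condition_assoc]
  t_over := by rw [← Category.assoc, A.act_comp_c, Category.assoc, G.t_over]
  comp_s α β h := by rw [lift_cR, comp_snd]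
  comp_t α β h := by rw [lift_cR, comp_comp_act]
  assoc α β γ h₁ h₂ := by
    simp only [lift_cR]
    apply pullback.hom_ext
    · simp only [comp_fst]
      refine Eq.trans ?_ ((mul_assoc G (α ≫ pullback.fst _ _) (β ≫ pullback.fst _ _) (γ ≫ pullback.fst _ _)
        (by rw [Category.assoc, pullback.condition, reassoc_of% h₁, A.act_comp_c, Category.assoc])
        (by rw [Category.assoc, pullback.condition, reassoc_of% h₂, A.act_comp_c, Category.assoc])).trans ?_)
      · exact mul_congr _ _ rfl rfl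
      · exact mul_congr _ _ rfl rfl
    · simp only [comp_snd]
  e_s := pullback.lift_snd _ _ _
  e_t := by
    have h := A.dot_one (𝟙 W) c (by rw [Category.assoc, G.e_s, Category.comp_id, Category.id_comp])
    exact h
  comp_e α := by
    rw [lift_cR]
    apply pullback.hom_ext
    · rw [comp_fst]
      refine Eq.trans (mul_congr G _ rfl ?_) (mul_e G (α ≫ pullback.fst _ _) ((α ≫ pullback.snd _ _) ≫ c) ?_)
      · simp only [Category.assoc, pullback.lift_fst]
      · simp only [Category.assoc, G.e_t, pullback.condition, Category.comp_id]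
    · rw [comp_snd]
      simp only [Category.assoc, pullback.lift_snd, Category.comp_id]
  e_comp α := by
    rw [lift_cR]
    apply pullback.hom_ext
    · rw [comp_fst]
      refine Eq.trans (mul_congr G _ ?_ rfl) (e_mul G (α ≫ pullback.fst _ _) ((α ≫ A.act) ≫ c) ?_)
      · simp only [Category.assoc, pullback.lift_fst]
      · simp only [Category.assoc, G.e_s, A.act_comp_c, Category.comp_id]
    · rw [comp_snd]
  i_s := pullback.lift_snd _ _ _
  i_t := by
    have h1 := A.comp_act (pullback.lift (pullback.fst _ _ ≫ G.i) A.act (by rw [Category.assoc, G.i_s, A.act_comp_c]))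
    rw [h1]
    have h2 := A.inv_dot_cancel (pullback.fst G.s c) (pullback.snd G.s c) pullback.condition (by
      rw [Category.assoc, G.i_s, dot_c])
    refine Eq.trans (A.dot_congr _ (pullback.lift_fst _ _ _) ((pullback.lift_snd _ _ _).trans ?_)) h2
    have h3 := A.comp_act (𝟙 _)
    rw [Category.id_comp] at h3
    rw [h3]
    exact A.dot_congr _ (Category.id_comp _) (Category.id_comp _)
  comp_i α := by
    rw [lift_cR]
    apply pullback.hom_ext
    · rw [comp_fst]
      refine Eq.trans (mul_congr G _ rfl ?_) ((mul_inv G (α ≫ pullback.fst _ _) ?_).trans ?_)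
      · simp only [Category.assoc, pullback.lift_fst]
      · simp only [Category.assoc, G.i_t]
      · simp only [Category.assoc, pullback.lift_fst]
        rw [← Category.assoc A.act, A.act_comp_c, Category.assoc]
    · rw [comp_snd]
      simp only [Category.assoc, pullback.lift_snd, Category.comp_id]
  i_comp α := by
    rw [lift_cR]
    apply pullback.hom_ext
    · rw [comp_fst]
      refine Eq.trans (mul_congr G _ ?_ rfl) ((inv_mul G (α ≫ pullback.fst _ _) ?_).trans ?_)
      · simp only [Category.assoc, pullback.lift_fst]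
      · simp only [Category.assoc, G.i_s]
      · simp only [Category.assoc, pullback.lift_fst]
        rw [pullback.condition_assoc]
    · rw [comp_snd]
      simp only [Category.assoc, pullback.lift_snd, Category.comp_id]

/-- The morphism of the action groupoid to `G`. -/
noncomputable def hom : Grpd.GroupoidScheme.Hom A.gpd G where
  fU := c
  fR := pullback.fst _ _
  fU_over := rfl
  comm_s := pullback.condition
  comm_t := A.act_comp_c.symm
  comm_c α β h := by
    have h' : α ≫ pullback.snd _ _ = β ≫ A.act := h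
    have := A.comp_fst α β h'
    rw [← lift_cR A α β h'] at this
    exact this

theorem isPullback_s : IsPullback A.hom.fR A.gpd.s G.s A.hom.fU := IsPullback.of_hasPullback G.s c

theorem ext_act {m m' : T ⟶ pullback G.s c} (h1 : m ≫ pullback.fst _ _ = m' ≫ pullback.fst _ _)
    (h2 : m ≫ A.act = m' ≫ A.act) : m = m' := by
  have key : ∀ k : T ⟶ pullback G.s c, k ≫ pullback.snd _ _ = A.dot ((k ≫ pullback.fst _ _) ≫ G.i) (k ≫ A.act)
      (by rw [Category.assoc, G.i_s, Category.assoc, Category.assoc, A.act_comp_c]) := fun k => by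
    have h5 := A.inv_dot_cancel (k ≫ pullback.fst _ _) (k ≫ pullback.snd _ _) (by
      rw [Category.assoc, Category.assoc, pullback.condition]) (by
      rw [Category.assoc, G.i_s, dot_c])
    rw [← h5]
    exact A.dot_congr _ rfl (A.comp_act k).symm
  apply pullback.hom_ext h1
  rw [key m, key m']
  exact A.dot_congr _ (by rw [h1]) h2

theorem isPullback_t : IsPullback A.hom.fR A.gpd.t G.t A.hom.fU := by
  refine ⟨⟨A.act_comp_c.symm⟩, ⟨PullbackCone.IsLimit.mk _
    (fun q => pullback.lift q.fst (A.dot (q.fst ≫ G.i) q.snd (by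
      rw [Category.assoc, G.i_s]; exact q.condition)) (by rw [dot_c, Category.assoc, G.i_t]))
    (fun q => pullback.lift_fst _ _ _) (fun q => ?_) (fun q m h1 h2 => ?_)⟩⟩
  · exact A.dot_inv_cancel q.fst q.snd (by rw [Category.assoc, G.i_s]; exact q.condition) _
  · refine A.ext_act (m := m) (h1.trans (pullback.lift_fst _ _ _).symm) (h2.trans ?_)
    exact (A.dot_inv_cancel q.fst q.snd (by rw [Category.assoc, G.i_s]; exact q.condition) _).symm

/-- Stabilizers act trivially. -/
def Triv : Prop := ∀ {T : Scheme.{u}} (r : T ⟶ G.R) (w : T ⟶ W) (h : r ≫ G.s = w ≫ c),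
  r ≫ G.t = w ≫ c → A.dot r w h = w

end Act

section Stab

variable {T : Scheme.{u}}

/-- The arrow underlying a point of the stabilizer. -/
noncomputable def stR (G : Grpd.GroupoidScheme S) : G.stabilizer ⟶ G.R := pullback.fst G.j G.diag

theorem stR_t (G : Grpd.GroupoidScheme S) : stR G ≫ G.t = G.stabilizerToU := by
  have h : pullback.fst G.j G.diag ≫ G.j ≫ pullback.fst _ _ = pullback.snd G.j G.diag ≫ G.diag ≫ pullback.fst _ _ := by
    rw [pullback.condition_assoc]
  rwa [Grpd.GroupoidScheme.j, pullback.lift_fst, Grpd.GroupoidScheme.diag, pullback.lift_fst,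
    Category.comp_id] at h

theorem stR_s (G : Grpd.GroupoidScheme S) : stR G ≫ G.s = G.stabilizerToU := by
  have h : pullback.fst G.j G.diag ≫ G.j ≫ pullback.snd _ _ = pullback.snd G.j G.diag ≫ G.diag ≫ pullback.snd _ _ := by
    rw [pullback.condition_assoc]
  rwa [Grpd.GroupoidScheme.j, pullback.lift_snd, Grpd.GroupoidScheme.diag, pullback.lift_snd,
    Category.comp_id] at h

variable {G}

theorem stab_ext {σ σ' : T ⟶ G.stabilizer} (h : σ ≫ stR G = σ' ≫ stR G) : σ = σ' := by
  apply pullback.hom_ext h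
  have h2 := congrArg (fun k => k ≫ G.s) h
  simp only [Category.assoc] at h2
  rw [stR_s] at h2
  exact h2

/-- A point of the stabilizer. -/
noncomputable def stabPt (r : T ⟶ G.R) (u : T ⟶ G.U) (hs : r ≫ G.s = u) (ht : r ≫ G.t = u) : T ⟶ G.stabilizer :=
  pullback.lift r u (by
    apply pullback.hom_ext
    · rw [Category.assoc, Category.assoc, Grpd.GroupoidScheme.j, Grpd.GroupoidScheme.diag, pullback.lift_fst,
        pullback.lift_fst, ht, Category.comp_id]
    · rw [Category.assoc, Category.assoc, Grpd.GroupoidScheme.j, Grpd.GroupoidScheme.diag, pullback.lift_snd,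
        pullback.lift_snd, hs, Category.comp_id])

@[reassoc (attr := simp)]
theorem stabPt_R (r : T ⟶ G.R) (u : T ⟶ G.U) (hs : r ≫ G.s = u) (ht : r ≫ G.t = u) :
    stabPt r u hs ht ≫ stR G = r := pullback.lift_fst _ _ _

@[reassoc (attr := simp)]
theorem stabPt_U (r : T ⟶ G.R) (u : T ⟶ G.U) (hs : r ≫ G.s = u) (ht : r ≫ G.t = u) :
    stabPt r u hs ht ≫ G.stabilizerToU = u := pullback.lift_snd _ _ _

/-- The stabilizer square of a morphism of groupoid schemes is cartesian as soon as stabilizers lift uniquely. -/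
theorem exists_stab_isPullback {G' : Grpd.GroupoidScheme S} (f : Grpd.GroupoidScheme.Hom G' G)
    (h : ∀ {T : Scheme.{u}} (r : T ⟶ G.R) (w : T ⟶ G'.U), r ≫ G.s = w ≫ f.fU → r ≫ G.t = w ≫ f.fU →
      ∃! r' : T ⟶ G'.R, r' ≫ f.fR = r ∧ r' ≫ G'.s = w ∧ r' ≫ G'.t = w) :
    ∃ g : G'.stabilizer ⟶ G.stabilizer, g ≫ pullback.fst G.j G.diag = pullback.fst G'.j G'.diag ≫ f.fR ∧
      IsPullback g G'.stabilizerToU G.stabilizerToU f.fU := by
  let g : G'.stabilizer ⟶ G.stabilizer := stabPt (stR G' ≫ f.fR) (G'.stabilizerToU ≫ f.fU)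
    (by rw [Category.assoc, f.comm_s, ← Category.assoc, stR_s])
    (by rw [Category.assoc, f.comm_t, ← Category.assoc, stR_t])
  have hg1 : g ≫ stR G = stR G' ≫ f.fR := stabPt_R _ _ _ _
  have hg2 : g ≫ G.stabilizerToU = G'.stabilizerToU ≫ f.fU := stabPt_U _ _ _ _
  have H : ∀ q : PullbackCone G.stabilizerToU f.fU, ∃ l : q.pt ⟶ G'.stabilizer, l ≫ g = q.fst ∧
      l ≫ G'.stabilizerToU = q.snd ∧ ∀ m : q.pt ⟶ G'.stabilizer, m ≫ g = q.fst →
        m ≫ G'.stabilizerToU = q.snd → m = l := by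
    intro q
    have h1 : (q.fst ≫ stR G) ≫ G.s = q.snd ≫ f.fU := by rw [Category.assoc, stR_s]; exact q.condition
    have h2 : (q.fst ≫ stR G) ≫ G.t = q.snd ≫ f.fU := by rw [Category.assoc, stR_t]; exact q.condition
    obtain ⟨r', ⟨h3, h4, h5⟩, hu⟩ := h (q.fst ≫ stR G) q.snd h1 h2
    refine ⟨stabPt r' q.snd h4 h5, ?_, stabPt_U _ _ _ _, fun m hm1 hm2 => ?_⟩
    · apply stab_ext
      rw [Category.assoc, hg1, stabPt_R_assoc, h3]
    · apply stab_ext
      rw [stabPt_R]
      refine hu _ ⟨?_, ?_, ?_⟩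
      · rw [Category.assoc, ← hg1, ← Category.assoc, hm1]
      · rw [Category.assoc, stR_s, hm2]
      · rw [Category.assoc, stR_t, hm2]
  choose l hl1 hl2 hl3 using H
  exact ⟨g, hg1, ⟨⟨hg2⟩, ⟨PullbackCone.IsLimit.mk _ l hl1 hl2 hl3⟩⟩⟩

end Stab

theorem Act.exists_stab {G : Grpd.GroupoidScheme S} {W : Scheme.{u}} {c : W ⟶ G.U} (A : Act G c) (hA : A.Triv) :
    ∃ g : A.gpd.stabilizer ⟶ G.stabilizer, g ≫ pullback.fst G.j G.diag =
      pullback.fst A.gpd.j A.gpd.diag ≫ A.hom.fR ∧
      IsPullback g A.gpd.stabilizerToU G.stabilizerToU A.hom.fU := by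
  refine exists_stab_isPullback A.hom fun {T} r w h1 h2 => ?_
  refine ⟨pullback.lift r w h1, ⟨pullback.lift_fst _ _ _, pullback.lift_snd _ _ _, hA r w h1 h2⟩, ?_⟩
  rintro r' ⟨h3, h4, -⟩
  apply pullback.hom_ext
  · rw [pullback.lift_fst]; exact h3
  · rw [pullback.lift_snd]; exact h4

section OfPair

variable {G c} {V : Scheme.{u}}

/-- The action on `W ⊆ U × V` given by the action on the first factor. -/
noncomputable def Act.ofPair (d : W ⟶ V)
    (hm : ∀ {T : Scheme.{u}} (w w' : T ⟶ W), w ≫ c = w' ≫ c → w ≫ d = w' ≫ d → w = w')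
    (act : pullback G.s c ⟶ W) (h1 : act ≫ c = pullback.fst G.s c ≫ G.t)
    (h2 : act ≫ d = pullback.snd G.s c ≫ d) : Act G c where
  act := act
  act_c r w h := by rw [Category.assoc, h1, pullback.lift_fst_assoc]
  one_act w h := by
    apply hm
    · rw [Category.assoc, h1, pullback.lift_fst_assoc, Category.assoc, Category.assoc, G.e_t, Category.comp_id]
    · rw [Category.assoc, h2, pullback.lift_snd_assoc]
  mul_act r r' w h h' h₁ h₂ := by
    apply hm
    · rw [Category.assoc, Category.assoc, h1, pullback.lift_fst_assoc, pullback.lift_fst_assoc, mul_t]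
    · rw [Category.assoc, Category.assoc, h2, pullback.lift_snd_assoc, pullback.lift_snd_assoc, Category.assoc, h2,
        pullback.lift_snd_assoc]

variable (d : W ⟶ V)
    (hm : ∀ {T : Scheme.{u}} (w w' : T ⟶ W), w ≫ c = w' ≫ c → w ≫ d = w' ≫ d → w = w')
    (act : pullback G.s c ⟶ W) (h1 : act ≫ c = pullback.fst G.s c ≫ G.t)
    (h2 : act ≫ d = pullback.snd G.s c ≫ d)

theorem Act.ofPair_triv : (Act.ofPair d hm act h1 h2).Triv := by
  intro T r w h h'
  apply hm
  · rw [Act.dot_c, h']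
  · change (pullback.lift r w h ≫ act) ≫ d = w ≫ d
    rw [Category.assoc, h2, pullback.lift_snd_assoc]

theorem Act.ofPair_inv : (Act.ofPair d hm act h1 h2).gpd.t ≫ (show (Act.ofPair d hm act h1 h2).gpd.U ⟶ V from d) =
    (Act.ofPair d hm act h1 h2).gpd.s ≫ (show (Act.ofPair d hm act h1 h2).gpd.U ⟶ V from d) := h2

/-- The action on the base change of an invariant morphism. -/
theorem Act.exists_ofPullback {Y Y' : Scheme.{u}} {p : G.U ⟶ Y} (hp : G.t ≫ p = G.s ≫ p) {q : W ⟶ Y'} {g : Y' ⟶ Y}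
    (sq : IsPullback c q p g) : ∃ A : Act G c, A.Triv ∧
      A.gpd.t ≫ (show A.gpd.U ⟶ Y' from q) = A.gpd.s ≫ (show A.gpd.U ⟶ Y' from q) := by
  have hm : ∀ {T : Scheme.{u}} (w w' : T ⟶ W), w ≫ c = w' ≫ c → w ≫ q = w' ≫ q → w = w' :=
    fun w w' h h' => sq.hom_ext h h'
  let act : pullback G.s c ⟶ W := sq.lift (pullback.fst G.s c ≫ G.t) (pullback.snd G.s c ≫ q) (by
    rw [Category.assoc, hp, pullback.condition_assoc, sq.w, Category.assoc])
  have h1 : act ≫ c = pullback.fst G.s c ≫ G.t := sq.lift_fst _ _ _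
  have h2 : act ≫ q = pullback.snd G.s c ≫ q := sq.lift_snd _ _ _
  exact ⟨Act.ofPair q hm act h1 h2, Act.ofPair_triv q hm act h1 h2, Act.ofPair_inv q hm act h1 h2⟩

end OfPair

end K746
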