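import Mathlib.AlgebraicGeometry.Morphisms.Flat
import Mathlib.Algebra.Category.Ring.Constructions
import Groth.Agent.Grpsch.RBaseChange
import Groth.Agent.GrpQ.H765.FinQuot
import Groth.Agent.GrpQ.H766.LocalStr
import Groth.Agent.AlgSt.K746.Act
import Groth.Agent.AlgSt.K746.Good

/-!
# Flat base change of geometric quotients of finite locally free groupoid schemes

`isGeomQuot_of_flat`: for a groupoid scheme `G` with finite locally free source and target maps whose orbits are
contained in affine opens, and a geometric quotient `p : U ⟶ Y`, the base change of `p` along a flat `g : Y' ⟶ Y` is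
a geometric quotient of the base change of `(s, t)`.
-/

set_option autoImplicit false
universe u
open CategoryTheory CategoryTheory.Limits AlgebraicGeometry TopologicalSpace

namespace K746.FlatBC

open Groth.Agent.GrpQ.H766.GeomQuotDef Groth.Agent.GrpQ.H766.GeomQuotLocal
open Groth.Agent.GrpQ.H766.LocalStr
open Groth.Agent.Grpsch Groth.Agent.Grpsch.AffGrpd

open TensorProduct in
/-- flat base change of an equalizer of rings, in terms of pushout squares -/
theorem exact_core {C C' A A' B B' : CommRingCat.{u}} (γ : C ⟶ A) (κ : C ⟶ C') (a : A ⟶ A')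
    (c : C' ⟶ A') (hA : IsPushout γ κ a c) (s t : A ⟶ B) (hst : γ ≫ s = γ ≫ t) (s' t' : A' ⟶ B')
    (b : B ⟶ B') (hB : IsPushout (γ ≫ s) κ b (c ≫ s')) (hs : a ≫ s' = s ≫ b)
    (ht : a ≫ t' = t ≫ b) (hc : c ≫ s' = c ≫ t') (hκ : κ.hom.Flat)
    (inj : Function.Injective γ) (ex : ∀ x, s x = t x → x ∈ Set.range γ) :
    Function.Injective c ∧ ∀ x, s' x = t' x → x ∈ Set.range c := by
  algebraize [κ.hom, γ.hom, (γ ≫ s).hom]
  let eA := (CommRingCat.isPushout_tensorProduct C C' A).flip.isoIsPushout _ _ hA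
  let eB := (CommRingCat.isPushout_tensorProduct C C' B).flip.isoIsPushout _ _ hB
  have eAr : ∀ x : A, eA.hom ((1 : C') ⊗ₜ[C] x) = a x := fun x =>
    congr($((CommRingCat.isPushout_tensorProduct C C' A).flip.inl_isoIsPushout_hom _ _ hA) x)
  have eAl : ∀ x : C', eA.hom (x ⊗ₜ[C] (1 : A)) = c x := fun x =>
    congr($((CommRingCat.isPushout_tensorProduct C C' A).flip.inr_isoIsPushout_hom _ _ hA) x)
  have eBr : ∀ x : B, eB.hom ((1 : C') ⊗ₜ[C] x) = b x := fun x =>
    congr($((CommRingCat.isPushout_tensorProduct C C' B).flip.inl_isoIsPushout_hom _ _ hB) x)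
  have eBl : ∀ x : C', eB.hom (x ⊗ₜ[C] (1 : B)) = (c ≫ s') x := fun x =>
    congr($((CommRingCat.isPushout_tensorProduct C C' B).flip.inr_isoIsPushout_hom _ _ hB) x)
  have eA_tmul : ∀ (x : C') (y : A), eA.hom (x ⊗ₜ[C] y) = c x * a y := fun x y => by
    rw [← eAl, ← eAr, ← map_mul, Algebra.TensorProduct.tmul_mul_tmul, mul_one, one_mul]
  have eB_tmul : ∀ (x : C') (y : B), eB.hom (x ⊗ₜ[C] y) = (c ≫ s') x * b y := fun x y => by
    rw [← eBl, ← eBr, ← map_mul, Algebra.TensorProduct.tmul_mul_tmul, mul_one, one_mul]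
  let sL : A →ₗ[C] B :=
    { toFun := s
      map_add' := map_add _
      map_smul' := fun x y => by rw [Algebra.smul_def, Algebra.smul_def, map_mul]; rfl }
  let tL : A →ₗ[C] B :=
    { toFun := t
      map_add' := map_add _
      map_smul' := fun x y => by
        rw [Algebra.smul_def, Algebra.smul_def, map_mul]
        congr 1
        exact congr($hst.symm x) }
  have hsL : ∀ z : C' ⊗[C] A, eB.hom (sL.lTensor C' z) = s' (eA.hom z) := fun z => by
    induction z using TensorProduct.induction_on with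
    | zero => simp only [map_zero]
    | tmul x y =>
      rw [LinearMap.lTensor_tmul, eB_tmul, eA_tmul, map_mul]
      congr 1
      exact congr($hs.symm y)
    | add x y hx hy => rw [map_add, map_add, hx, hy, map_add, map_add]
  have htL : ∀ z : C' ⊗[C] A, eB.hom (tL.lTensor C' z) = t' (eA.hom z) := fun z => by
    induction z using TensorProduct.induction_on with
    | zero => simp only [map_zero]
    | tmul x y =>
      rw [LinearMap.lTensor_tmul, eB_tmul, eA_tmul, map_mul]
      congr 1
      · exact congr($hc x)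
      · exact congr($ht.symm y)
    | add x y hx hy => rw [map_add, map_add, hx, hy, map_add, map_add]
  have eAinj : Function.Injective eA.hom := (ConcreteCategory.bijective_of_isIso eA.hom).1
  have eAsurj : Function.Surjective eA.hom := (ConcreteCategory.bijective_of_isIso eA.hom).2
  have eBinj : Function.Injective eB.hom := (ConcreteCategory.bijective_of_isIso eB.hom).1
  refine ⟨?_, ?_⟩
  · intro x y hxy
    rw [← eAl, ← eAl] at hxy
    exact flat_inj_aux (C := C) (C' := C') (A := A) inj (eAinj hxy)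
  · intro x hx
    obtain ⟨z, rfl⟩ := eAsurj x
    obtain ⟨x', hx'⟩ := flat_eq_aux (C := C) (C' := C') (A := A) (B := B) sL tL
      (fun y => congr($hst y)) (fun y hy => ex y hy) z
      (eBinj ((hsL z).trans (hx.trans (htL z).symm)))
    exact ⟨x', by rw [hx', eAl]⟩

open K746 Groth.Agent.GrpQ.H766.AffineCase

variable {S : Scheme.{u}} {G : Grpd.GroupoidScheme S} {W Y Y' : Scheme.{u}} {c : W ⟶ G.U}

theorem flat_appTop {X Y : Scheme.{u}} (g : X ⟶ Y) [IsAffine X] [IsAffine Y] [Flat g] : g.appTop.hom.Flat := by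
  exact (HasRingHomProperty.iff_of_isAffine (P := @Flat) (f := g)).1 inferInstance

theorem isIso_of_isAffine_isIso_appTop {X Y : Scheme.{u}} (f : X ⟶ Y) [IsAffine X] [IsAffine Y]
    [IsIso f.appTop] : IsIso f := by
  have h := Scheme.toSpecΓ_naturality f
  have : IsIso (f ≫ Y.toSpecΓ) := by rw [h]; infer_instance
  exact IsIso.of_isIso_comp_right f Y.toSpecΓ

theorem invSec_top {R U : Scheme.{u}} {s t : R ⟶ U} {x : Γ(U, ⊤)} (h : s.appTop x = t.appTop x) :
    InvSec s t ⊤ x :=
  congrArg (R.presheaf.map (homOfLE (inf_le_left : s ⁻¹ᵁ ⊤ ⊓ t ⁻¹ᵁ ⊤ ≤ ⊤)).op) h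

/-- **Flat base change of the quotient of an affine finite locally free groupoid**, along a flat morphism of affine
schemes. -/
theorem isGeomQuot_flat (A : Act G c) [IsAffine G.U] (hG : Mor2.IsFinLocFree G.s) {p : G.U ⟶ Y}
    (hp : IsGeomQuot G.s G.t p) [IsAffine Y'] (g : Y' ⟶ Y) [Flat g] (q : A.gpd.U ⟶ Y')
    (sq : IsPullback A.hom.fU q p g) (hq : A.gpd.t ≫ q = A.gpd.s ≫ q) : IsGeomQuot A.gpd.s A.gpd.t q := by
  obtain ⟨_, _, _⟩ := hG
  have hgood : Good G := Good.of_isAffine
  obtain ⟨_, _, _⟩ := hgood.flf_t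
  have : IsAffine Y := Groth.Agent.GrpQ.H765.FinQuot.isAffine_of_isGeomQuot G ⟨‹_›, ‹_›, ‹_›⟩ hp
  have : IsAffine A.gpd.U := IsAffine.of_isIso sq.isoPullback.hom
  have h1 := A.isPullback_s
  have h2 := A.isPullback_t
  have i1 : IsFinite A.gpd.s := MorphismProperty.of_isPullback h1 ‹_›
  have i2 : Flat A.gpd.s := MorphismProperty.of_isPullback h1 ‹_›
  have i3 : LocallyOfFinitePresentation A.gpd.s := MorphismProperty.of_isPullback h1 ‹_›
  have i4 : IsFinite A.gpd.t := MorphismProperty.of_isPullback h2 ‹_›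
  have i5 : Flat A.gpd.t := MorphismProperty.of_isPullback h2 ‹_›
  have i6 : LocallyOfFinitePresentation A.gpd.t := MorphismProperty.of_isPullback h2 ‹_›
  have i7 : IsAffine A.gpd.R := isAffine_of_isAffineHom A.gpd.s
  have i8 : IsAffine G.R := isAffine_of_isAffineHom G.s
  have hst := congrArg (fun k => k.appTop) hp.w
  simp only [Scheme.Hom.comp_appTop] at hst
  have hc := congrArg (fun k => k.appTop) hq
  simp only [Scheme.Hom.comp_appTop] at hc
  have hs := congrArg (fun k => k.appTop) A.hom.comm_s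
  simp only [Scheme.Hom.comp_appTop] at hs
  have ht := congrArg (fun k => k.appTop) A.hom.comm_t
  simp only [Scheme.Hom.comp_appTop] at ht
  have hB := isPushout_appTop_of_isPullback (h1.paste_vert sq)
  simp only [Scheme.Hom.comp_appTop] at hB
  obtain ⟨hinj, hsec⟩ := exact_core p.appTop g.appTop A.hom.fU.appTop q.appTop
    (isPushout_appTop_of_isPullback sq) G.s.appTop G.t.appTop hst.symm A.gpd.s.appTop A.gpd.t.appTop
    A.hom.fR.appTop hB hs.symm ht.symm hc.symm (flat_appTop g) (hp.inj ⊤)
    (fun x hx => hp.sec ⊤ x (invSec_top hx))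
  have hQ := isGeomQuot_toQuot A.gpd
  let k : Spec (CommRingCat.of A.gpd.invariants) ⟶ Y' := hQ.desc q hq
  have hk : A.gpd.toQuot ≫ k = q := hQ.comp_desc _ _
  have hk' : q.appTop = k.appTop ≫ A.gpd.toQuot.appTop := by rw [← hk, Scheme.Hom.comp_appTop]
  have hbij : Function.Bijective k.appTop := by
    constructor
    · intro x y hxy
      apply hinj
      rw [hk', CommRingCat.comp_apply, CommRingCat.comp_apply, hxy]
    · intro x
      obtain ⟨y, hy⟩ := hsec (A.gpd.toQuot.appTop x) (by
        have := congrArg (fun k => k.appTop) hQ.w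
        simp only [Scheme.Hom.comp_appTop] at this
        exact congr($this.symm x))
      refine ⟨y, hQ.inj ⊤ ?_⟩
      rw [hk'] at hy
      exact hy
  have : IsIso k.appTop := (ConcreteCategory.isIso_iff_bijective _).2 hbij
  have : IsIso k := isIso_of_isAffine_isIso_appTop k
  rw [← hk]
  exact comp_iso hQ (asIso k)

end K746.FlatBC
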