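import Groth.Agent.AlgSt.K746.ModLoc
import Groth.Agent.AlgSt.K746.FlatBC
import Groth.Agent.AlgSt.K746.EtDesc
import Groth.Agent.AlgSt.K738.Agree

/-!
# Quotients of affine finite locally free groupoids are categorical quotients in algebraic spaces

`existsUnique_desc`: for an affine finite locally free groupoid scheme `G` over `S` with geometric quotient
`p : G.U ⟶ Y`, invariant maps `h_U ⟶ N` to an algebraic space `N` over `S` factor uniquely through `h_Y`.
-/

set_option autoImplicit false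
set_option backward.isDefEq.respectTransparency false
set_option backward.isDefEq.respectTransparency.types false

universe u

open CategoryTheory CategoryTheory.Limits AlgebraicGeometry Opposite TopologicalSpace
open K734.Fib K598.Site

namespace K746.SpQuot

open K746.ModLoc Groth.Agent.GrpQ.H766.GeomQuotDef

variable {S : Scheme.{u}} (G : Grpd.GroupoidScheme S)

/-- the objects, over `S` -/
abbrev oU : Over S := Over.mk G.pU

/-- the arrows, over `S` -/
abbrev oR : Over S := Over.mk G.pR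

/-- the source, over `S` -/
def os : oR G ⟶ oU G := Over.homMk G.s G.s_over

/-- the target, over `S` -/
def ot : oR G ⟶ oU G := Over.homMk G.t G.t_over

variable {G} {Y : Over S} {N : AlgSp.Sp S}

theorem good_iff {U : Over S} (p : U ⟶ Y) (a : (AlgSp.yon S).obj U ⟶ N) {V : Over S} (g : V ⟶ Y)
    (n : N.obj.obj (op V)) :
    ModLoc.Good (AlgSt.ofSpMap ((AlgSp.yon S).map p)) (AlgSt.ofSpMap a) (yE ((AlgSp.yon S).map g)) n ↔
      ∀ (T : Over S) (u : T ⟶ U) (f : T ⟶ V), u ≫ p = f ≫ g → a.hom.app (op T) ⟨u⟩ = N.obj.map f.op n := by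
  have e : ∀ {T : Over S} (f : T ⟶ V), ((AlgSp.yon S).obj Y).obj.map f.op (yE ((AlgSp.yon S).map g)) = ⟨f ≫ g⟩ := by
    intro T f
    apply ULift.ext
    change f ≫ 𝟙 V ≫ g = f ≫ g
    rw [Category.id_comp]
  constructor
  · intro h T u f hf
    refine elt_inj (h (⟨T, ⟨u⟩⟩ : (AlgSt.ofSch U).obj) f ?_)
    rw [e]
    change (⟨T, ⟨u ≫ p⟩⟩ : (AlgSt.ofSch Y).obj) = _
    rw [hf]
    rfl
  · rintro h ⟨T, ⟨u⟩⟩ f hf
    rw [e] at hf
    have hf' : u ≫ p = f ≫ g := congrArg ULift.down (elt_inj hf)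
    exact congrArg (fun z => (⟨T, z⟩ : (AlgSt.ofSp N).obj)) (h T u f hf')

/-- Uniqueness of sections after a flat base change. -/
theorem unique_of_flat [IsAffine G.U] (hG : Mor2.IsFinLocFree G.s) {p : oU G ⟶ Y}
    (hp : IsGeomQuot G.s G.t (show G.U ⟶ Y.left from p.left)) (hN : AlgSp.IsAlgSpace N) (a : (AlgSp.yon S).obj (oU G) ⟶ N)
    {V : Over S} [IsAffine V.left] (g : V ⟶ Y) [Flat g.left] (n n' : N.obj.obj (op V))
    (hn : ∀ (T : Over S) (u : T ⟶ oU G) (f : T ⟶ V), u ≫ p = f ≫ g → a.hom.app (op T) ⟨u⟩ = N.obj.map f.op n)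
    (hn' : ∀ (T : Over S) (u : T ⟶ oU G) (f : T ⟶ V), u ≫ p = f ≫ g →
      a.hom.app (op T) ⟨u⟩ = N.obj.map f.op n') : n = n' := by
  have sq : IsPullback (pullback.fst p.left g.left) (pullback.snd p.left g.left) p.left g.left :=
    IsPullback.of_hasPullback _ _
  obtain ⟨A, -, hA⟩ := Act.exists_ofPullback (G := G) (c := pullback.fst p.left g.left) hp.w sq
  have hQ := FlatBC.isGeomQuot_flat A hG hp g.left (pullback.snd p.left g.left) sq hA
  let Wo : Over S := Over.mk (pullback.snd p.left g.left ≫ V.hom)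
  let uo : Wo ⟶ oU G := Over.homMk (pullback.fst p.left g.left) (by
    change _ ≫ G.pU = pullback.snd p.left g.left ≫ V.hom
    rw [← Over.w g, ← pullback.condition_assoc, Over.w p]
    rfl)
  let fo : Wo ⟶ V := Over.homMk (pullback.snd p.left g.left) rfl
  have huf : uo ≫ p = fo ≫ g := by
    ext
    exact pullback.condition
  have h1 : N.obj.map fo.op n = N.obj.map fo.op n' := (hn _ uo fo huf).symm.trans (hn' _ uo fo huf)
  obtain ⟨E, ε, _, -, hmono, hε, hlift⟩ := K738.exists_agree hN.diag n n'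
  obtain ⟨t', ht'⟩ := hlift fo h1
  have ht'' : t'.left ≫ ε.left = pullback.snd p.left g.left := by
    rw [← Over.comp_left, ht']; rfl
  let r : V.left ⟶ E.left := hQ.desc (show A.gpd.U ⟶ E.left from t'.left) (by
    rw [← cancel_mono ε.left]
    exact (Category.assoc _ _ _).trans ((congrArg (fun z => A.gpd.t ≫ z) ht'').trans (hQ.w.trans
      ((congrArg (fun z => A.gpd.s ≫ z) ht'').symm.trans (Category.assoc _ _ _).symm))))
  have hr : (show A.gpd.U ⟶ V.left from pullback.snd p.left g.left) ≫ r = t'.left := hQ.comp_desc _ _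
  have hrε : r ≫ ε.left = 𝟙 _ := by
    refine hQ.hom_ext ?_
    rw [reassoc_of% hr, Category.comp_id]
    exact ht''
  let ro : V ⟶ E := Over.homMk r (by rw [← Over.w ε, reassoc_of% hrε])
  have hro : ro ≫ ε = 𝟙 _ := by ext; exact hrε
  have h2 := congrArg (N.obj.map ro.op) hε
  rw [← Functor.map_comp_apply, ← Functor.map_comp_apply, ← op_comp, hro, op_id, Functor.map_id_apply,
    Functor.map_id_apply] at h2
  exact h2

theorem pair_hom_ext {U V W : Over S} {c : W ⟶ U} {d : W ⟶ V}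
    (hm : ∀ {T : Over S} (w w' : T ⟶ W), w ≫ c = w' ≫ c → w ≫ d = w' ≫ d → w = w') {T : Scheme.{u}}
    (x y : T ⟶ W.left) (e1 : x ≫ c.left = y ≫ c.left) (e2 : x ≫ d.left = y ≫ d.left) : x = y := by
  have e3 : x ≫ W.hom = y ≫ W.hom := by rw [← Over.w c, reassoc_of% e1]
  let T' : Over S := Over.mk (x ≫ W.hom)
  let x' : T' ⟶ W := Over.homMk x rfl
  let y' : T' ⟶ W := Over.homMk y e3.symm
  have := hm x' y' (by ext; exact e1) (by ext; exact e2)
  exact congrArg CommaMorphism.left this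

/-- a monomorphism to a product which is separated over the base -/
theorem isSeparated_of_pair {U V W : Over S} (c : W ⟶ U) (d : W ⟶ V) [IsSeparated V.hom]
    (hm : ∀ {T : Over S} (w w' : T ⟶ W), w ≫ c = w' ≫ c → w ≫ d = w' ≫ d → w = w') : IsSeparated c.left := by
  let k : W.left ⟶ pullback U.hom V.hom := pullback.lift c.left d.left (by rw [Over.w, Over.w])
  have hk1 : k ≫ pullback.fst _ _ = c.left := pullback.lift_fst _ _ _
  have hk2 : k ≫ pullback.snd _ _ = d.left := pullback.lift_snd _ _ _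
  have hkm : Mono k := by
    refine ⟨fun {T} x y hxy => ?_⟩
    exact pair_hom_ext hm x y (by rw [← hk1, reassoc_of% hxy]) (by rw [← hk2, reassoc_of% hxy])
  have : IsSeparated (k ≫ pullback.fst U.hom V.hom) := inferInstance
  rwa [hk1] at this

theorem isSeparated_of_isAffine {V : Scheme.{u}} [IsAffine V] (f : V ⟶ S) : IsSeparated f := by
  have : IsSeparated (f ≫ terminal.from S) := by
    rw [show f ≫ terminal.from S = terminal.from V from Subsingleton.elim _ _]
    infer_instance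
  exact IsSeparated.of_comp f (terminal.from S)

/-- Étale local existence: for every affine étale chart `v` of `N` there is an étale separated `g : Y' ⟶ Y` whose
image is that of `U ×_N V`, over which the invariant map descends. -/
theorem exists_chart [IsAffine G.U] (hG : Mor2.IsFinLocFree G.s) {p : oU G ⟶ Y}
    (hp : IsGeomQuot G.s G.t (show G.U ⟶ Y.left from p.left)) (a : (AlgSp.yon S).obj (oU G) ⟶ N)
    (ha : (AlgSp.yon S).map (os G) ≫ a = (AlgSp.yon S).map (ot G) ≫ a)
    {V W : Over S} [IsAffine V.left] (v : (AlgSp.yon S).obj V ⟶ N) (hv : AlgSp.RepWith @Etale v)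
    (d : W ⟶ V) (c : W ⟶ oU G) (sq : IsPullback ((AlgSp.yon S).map d) ((AlgSp.yon S).map c) v a) :
    ∃ (Y' : Over S) (g : Y' ⟶ Y) (p' : W ⟶ Y') (n : N.obj.obj (op Y')), Etale g.left ∧ p' ≫ g = c ≫ p ∧
      ∀ (T : Over S) (u : T ⟶ oU G) (f : T ⟶ Y'), u ≫ p = f ≫ g → a.hom.app (op T) ⟨u⟩ = N.obj.map f.op n := by
  obtain ⟨_, _, _⟩ := hG
  have hc : Etale c.left := K597.repWith_prop hv sq
  have hVs : IsSeparated V.hom := isSeparated_of_isAffine V.hom
  have hm : ∀ {T : Over S} (w w' : T ⟶ W), w ≫ c = w' ≫ c → w ≫ d = w' ≫ d → w = w' := by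
    intro T w w' h1 h2
    apply (AlgSp.yon S).map_injective
    apply sq.hom_ext
    · rw [← Functor.map_comp, h2, Functor.map_comp]
    · rw [← Functor.map_comp, h1, Functor.map_comp]
  have hcs : IsSeparated c.left := isSeparated_of_pair c d hm
  -- the action
  let P : Over S := Over.mk (pullback.snd G.s c.left ≫ W.hom)
  let wP : P ⟶ W := Over.homMk (pullback.snd G.s c.left) rfl
  let rP : P ⟶ oR G := Over.homMk (pullback.fst G.s c.left) (by
    change pullback.fst G.s c.left ≫ G.pR = pullback.snd G.s c.left ≫ W.hom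
    rw [← G.s_over, pullback.condition_assoc, ← Over.w c]
    rfl)
  have hrw : rP ≫ os G = wP ≫ c := by ext; exact pullback.condition
  have hlift : (AlgSp.yon S).map (wP ≫ d) ≫ v = (AlgSp.yon S).map (rP ≫ ot G) ≫ a := by
    rw [Functor.map_comp, Category.assoc, sq.w, ← Functor.map_comp_assoc, ← hrw, Functor.map_comp, Category.assoc,
      ha, Functor.map_comp, Category.assoc]
  obtain ⟨actO, hactO⟩ := (AlgSp.yon S).map_surjective (sq.lift _ _ hlift)
  have hact1 : actO ≫ c = rP ≫ ot G := (AlgSp.yon S).map_injective (by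
    rw [Functor.map_comp, hactO, sq.lift_snd])
  have hact2 : actO ≫ d = wP ≫ d := (AlgSp.yon S).map_injective (by
    rw [Functor.map_comp, hactO, sq.lift_fst])
  have h1 : actO.left ≫ c.left = pullback.fst G.s c.left ≫ G.t := by
    rw [← Over.comp_left, hact1]; rfl
  have h2 : actO.left ≫ d.left = pullback.snd G.s c.left ≫ d.left := by
    rw [← Over.comp_left, hact2]; rfl
  have hm' := fun {T : Scheme.{u}} => pair_hom_ext (T := T) (c := c) (d := d) hm
  let A : Act G c.left := Act.ofPair d.left hm' actO.left h1 h2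
  have hA : A.Triv := Act.ofPair_triv d.left hm' actO.left h1 h2
  have hAd : A.gpd.t ≫ (show A.gpd.U ⟶ V.left from d.left) = A.gpd.s ≫ (show A.gpd.U ⟶ V.left from d.left) :=
    Act.ofPair_inv d.left hm' actO.left h1 h2
  obtain ⟨Y', p', g, hp', hg, -, sq'⟩ := EtDesc.exists_desc A hA hp
  let d' : Y' ⟶ V.left := hp'.desc _ hAd
  have hd' : p' ≫ d' = (show A.gpd.U ⟶ V.left from d.left) := hp'.comp_desc _ _
  let Yo : Over S := Over.mk (g ≫ Y.hom)
  let go : Yo ⟶ Y := Over.homMk g rfl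
  have hfU : A.hom.fU ≫ (show G.U ⟶ Y.left from p.left) ≫ Y.hom = (show A.gpd.U ⟶ S from W.hom) := by
    have h5 : c.left ≫ p.left ≫ Y.hom = W.hom := by rw [Over.w p, Over.w c]
    exact h5
  have hover : d' ≫ V.hom = g ≫ Y.hom := by
    refine hp'.hom_ext ?_
    rw [reassoc_of% hd', ← reassoc_of% sq'.w, hfU]
    exact Over.w d
  let dO : Yo ⟶ V := Over.homMk d' hover
  let pO : W ⟶ Yo := Over.homMk (show W.left ⟶ Y' from p') (by
    have : p' ≫ g ≫ Y.hom = (show A.gpd.U ⟶ S from W.hom) := by rw [← reassoc_of% sq'.w, hfU]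
    exact this)
  have hpO : pO ≫ dO = d := by ext; exact hd'
  have hgO : pO ≫ go = c ≫ p := by ext; exact sq'.w.symm
  refine ⟨Yo, go, pO, N.obj.map dO.op (yE v), hg, hgO, ?_⟩
  intro T u f huf
  have huf' : u.left ≫ (show G.U ⟶ Y.left from p.left) = f.left ≫ g := congrArg CommaMorphism.left huf
  let w : T.left ⟶ A.gpd.U := sq'.lift u.left f.left huf'
  have hw1 : w ≫ A.hom.fU = u.left := sq'.lift_fst _ _ _
  have hw2 : w ≫ p' = f.left := sq'.lift_snd _ _ _
  let wO : T ⟶ W := Over.homMk w (by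
    rw [← Over.w c]
    have : w ≫ A.hom.fU ≫ G.pU = T.hom := by
      rw [reassoc_of% hw1]; exact Over.w u
    exact this)
  have hwu : wO ≫ c = u := by ext; exact hw1
  have hwf : wO ≫ pO = f := by ext; exact hw2
  have e1 : ∀ {X : Over S} {F : AlgSp.Sp S} (k : (AlgSp.yon S).obj X ⟶ F) {T : Over S} (x : T ⟶ X),
      k.hom.app (op T) ⟨x⟩ = F.obj.map x.op (yE k) := by
    intro X F k T x
    rw [← yE_map_comp]
    change _ = k.hom.app (op T) ⟨𝟙 T ≫ x⟩
    rw [Category.id_comp]
  rw [e1, ← Functor.map_comp_apply, ← op_comp, ← yE_map_comp, ← yE_map_comp, ← hwu, ← hwf, Category.assoc,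
    hpO, Functor.map_comp, Functor.map_comp, Category.assoc, Category.assoc, sq.w]

/-- Existence of affine charts over which the invariant map descends, through any point of `Y`. -/
theorem exists_affine_chart [IsAffine G.U] (hG : Mor2.IsFinLocFree G.s) {p : oU G ⟶ Y}
    (hp : IsGeomQuot G.s G.t (show G.U ⟶ Y.left from p.left)) (hN : AlgSp.IsAlgSpace N)
    (a : (AlgSp.yon S).obj (oU G) ⟶ N)
    (ha : (AlgSp.yon S).map (os G) ≫ a = (AlgSp.yon S).map (ot G) ≫ a) (y : Y.left) :
    ∃ (O : Over S) (g : O ⟶ Y) (n : N.obj.obj (op O)), IsAffine O.left ∧ Etale g.left ∧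
      y ∈ Set.range g.left ∧
      ∀ (T : Over S) (u : T ⟶ oU G) (f : T ⟶ O), u ≫ p = f ≫ g → a.hom.app (op T) ⟨u⟩ = N.obj.map f.op n := by
  obtain ⟨u₀, hu₀⟩ := hp.isQuotientMap.surjective y
  obtain ⟨U₁, P, hP, hPs⟩ := hN.atlas
  obtain ⟨W₁, d₁, c₁, sq₁, hc₁⟩ := K597.exists_sq2 hP a
  have hc₁s : Surjective c₁.left := K597.repWith_prop hPs sq₁
  obtain ⟨w₁, hw₁⟩ := hc₁s.surj u₀
  obtain ⟨V₀, hV₀, hdV, -⟩ := exists_isAffineOpen_mem_and_subset (x := d₁.left w₁) (U := ⊤) trivial
  let V : Over S := Over.mk (V₀.ι ≫ U₁.hom)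
  let ι : V ⟶ U₁ := Over.homMk V₀.ι rfl
  have hVa : IsAffine V.left := hV₀
  have hι : Etale ι.left := (inferInstance : Etale V₀.ι)
  have hv : AlgSp.RepWith @Etale ((AlgSp.yon S).map ι ≫ P) := K597.etale_comp (K597.etale_map ι hι) hP
  obtain ⟨W, d, c, sq, hc⟩ := K597.exists_sq2 hv a
  -- a point of `W` over `u₀`
  obtain ⟨w₀, hw₀⟩ : ∃ w₀ : W.left, c.left w₀ = u₀ := by
    let D₀ : W₁.left.Opens := d₁.left ⁻¹ᵁ V₀
    let D : Over S := Over.mk (D₀.ι ≫ W₁.hom)
    let iD : D ⟶ W₁ := Over.homMk D₀.ι rfl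
    let dD : D ⟶ V := Over.homMk (d₁.left ∣_ V₀) (by
      change d₁.left ∣_ V₀ ≫ V₀.ι ≫ U₁.hom = D₀.ι ≫ W₁.hom
      rw [morphismRestrict_ι_assoc, Over.w])
    have h1 : dD ≫ ι = iD ≫ d₁ := by ext; exact morphismRestrict_ι _ _
    obtain ⟨k, hk⟩ := (AlgSp.yon S).map_surjective (sq.lift ((AlgSp.yon S).map dD) ((AlgSp.yon S).map (iD ≫ c₁)) (by
      rw [← Functor.map_comp_assoc, h1, Functor.map_comp, Category.assoc, sq₁.w, Functor.map_comp, Category.assoc]))
    have hkc : k ≫ c = iD ≫ c₁ := (AlgSp.yon S).map_injective (by rw [Functor.map_comp, hk, sq.lift_snd])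
    refine ⟨k.left ⟨w₁, hdV⟩, ?_⟩
    rw [← Scheme.Hom.comp_apply, ← Over.comp_left, hkc, Over.comp_left, Scheme.Hom.comp_apply]
    exact hw₁
  obtain ⟨Y', g, p', n, hg, hpg, hn⟩ := exists_chart hG hp a ha _ hv d c sq
  obtain ⟨O₀, hO₀, hyO, -⟩ := exists_isAffineOpen_mem_and_subset (x := p'.left w₀) (U := ⊤) trivial
  let O : Over S := Over.mk (O₀.ι ≫ Y'.hom)
  let j : O ⟶ Y' := Over.homMk O₀.ι rfl
  have hj : Etale j.left := (inferInstance : Etale O₀.ι)
  refine ⟨O, j ≫ g, N.obj.map j.op n, hO₀, by rw [Over.comp_left]; infer_instance, ⟨⟨p'.left w₀, hyO⟩, ?_⟩, ?_⟩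
  · change g.left (p'.left w₀) = y
    rw [← Scheme.Hom.comp_apply, ← Over.comp_left, hpg, Over.comp_left, Scheme.Hom.comp_apply, hw₀]
    exact hu₀
  · intro T u f huf
    rw [← Functor.map_comp_apply, ← op_comp]
    exact hn T u (f ≫ j) (by rw [huf, Category.assoc])

/-- **The quotient of an affine finite locally free groupoid is a categorical quotient in algebraic spaces.** -/
theorem existsUnique_desc [IsAffine G.U] (hG : Mor2.IsFinLocFree G.s) {p : oU G ⟶ Y}
    (hp : IsGeomQuot G.s G.t (show G.U ⟶ Y.left from p.left)) (hN : AlgSp.IsAlgSpace N)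
    (a : (AlgSp.yon S).obj (oU G) ⟶ N)
    (ha : (AlgSp.yon S).map (os G) ≫ a = (AlgSp.yon S).map (ot G) ≫ a) :
    ∃! b : (AlgSp.yon S).obj Y ⟶ N, (AlgSp.yon S).map p ≫ b = a := by
  have key := existsUnique_of_cover (S := S) (𝒳 := AlgSt.ofSch (oU G)) (M := (AlgSp.yon S).obj Y) (N := N)
    (π := AlgSt.ofSpMap ((AlgSp.yon S).map p)) (Φ := AlgSt.ofSpMap a) (isFibGrpd_ofPsh' _) ?_ ?_
  · obtain ⟨b, hb, hu⟩ := key
    have e : ∀ b : (AlgSp.yon S).obj Y ⟶ N, (∀ (T : Over S) (m : ((AlgSp.yon S).obj Y).obj.obj (op T)),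
        ModLoc.Good (AlgSt.ofSpMap ((AlgSp.yon S).map p)) (AlgSt.ofSpMap a) m (b.hom.app _ m)) ↔
        (AlgSp.yon S).map p ≫ b = a := by
      intro b
      rw [forall_good_iff]
      constructor
      · intro h
        apply ObjectProperty.hom_ext
        ext T u
        exact elt_inj (h (⟨T.unop, u⟩ : (AlgSt.ofSch (oU G)).obj))
      · rintro rfl z
        rfl
    exact ⟨b, (e b).1 hb, fun b' hb' => hu b' ((e b').2 hb')⟩
  · intro V hV v hv n n' hn hn'
    obtain ⟨g, rfl⟩ := (AlgSp.yon S).map_surjective v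
    have hg : Etale g.left := (AlgSp.repWith_yon_map_iff _ _).1 hv
    rw [good_iff] at hn hn'
    exact unique_of_flat hG hp hN a g n n' hn hn'
  · rintro T ⟨m⟩
    choose O g n hO hg hy hn using exists_affine_chart hG hp hN a ha
    let Z : ∀ t : T.left, Over S := fun t => Over.mk (pullback.fst m.left (g (m.left t)).left ≫ T.hom)
    let q : ∀ t : T.left, Z t ⟶ T := fun t => Over.homMk (pullback.fst m.left (g (m.left t)).left) rfl
    let r : ∀ t : T.left, Z t ⟶ O (m.left t) := fun t => Over.homMk (pullback.snd m.left (g (m.left t)).left) (by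
      change pullback.snd m.left (g (m.left t)).left ≫ (O (m.left t)).hom =
        pullback.fst m.left (g (m.left t)).left ≫ T.hom
      rw [← Over.w m, pullback.condition_assoc, Over.w])
    have hqr : ∀ t, q t ≫ m = r t ≫ g (m.left t) := fun t => by ext; exact pullback.condition
    refine ⟨Sieve.generate (Presieve.ofArrows Z q), mem_J_of_family Z q (fun t => Sieve.le_generate _ _ _ ⟨t⟩)
      (fun t => ?_) (fun t => ?_) (fun t => ⟨t, ?_⟩), ?_⟩
    · have := hg (m.left t)
      exact (inferInstance : Flat (pullback.fst m.left (g (m.left t)).left))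
    · have := hg (m.left t)
      exact (inferInstance : LocallyOfFinitePresentation (pullback.fst m.left (g (m.left t)).left))
    · obtain ⟨o, ho⟩ := hy (m.left t)
      obtain ⟨z, hz, -⟩ := Scheme.Pullback.exists_preimage_pullback (f := m.left) (g := (g (m.left t)).left) t o ho.symm
      exact ⟨z, hz⟩
    · rintro T' f ⟨_, k, _, ⟨t⟩, rfl⟩
      refine ⟨O (m.left t), (AlgSp.yon S).map (g (m.left t)), k ≫ r t, n (m.left t), hO _, ?_, ?_, ?_⟩
      · exact K597.etale_map _ (hg _)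
      · apply ULift.ext
        change (k ≫ q t) ≫ m = (k ≫ r t) ≫ (𝟙 _ ≫ g (m.left t))
        rw [Category.assoc, hqr, Category.id_comp, Category.assoc]
      · rw [good_iff]
        exact hn _

end K746.SpQuot
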