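import Groth.Prelude.Def_W4stkstmodspWNA
import Groth.Agent.AlgSt.K746.DiagFin
import Groth.Agent.AlgSt.K736.QC
import Groth.Agent.AlgSt.K746.SpQuot

/-!
# Well-nigh affine algebraic stacks are quasi-compact, quasi-DM and separated
-/

set_option autoImplicit false
set_option linter.unusedVariables false
set_option backward.isDefEq.respectTransparency false
set_option backward.isDefEq.respectTransparency.types false

universe u

open CategoryTheory CategoryTheory.Limits AlgebraicGeometry Opposite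

namespace K746.WnaSep

open K739.Alg K746.DiagFin

variable {S : Scheme.{u}} {𝒳 : AlgSt.Cat S}

theorem isQuasiCompact (h𝒳 : AlgSt.IsAlgStack Scheme.fppfPrecoverage 𝒳) (hw : AlgSt.IsWellNighAffine 𝒳) :
    AlgSt.IsQuasiCompact 𝒳 := by
  obtain ⟨U, x, hU, hx⟩ := hw
  rw [K736.QC.isQuasiCompact_iff h𝒳]
  have hs : Function.Surjective (AlgSt.Points.ofChart x) :=
    K736.QC.surjective_ofChart h𝒳 (repByAlgSpWith_mono (fun _ _ _ h => h.1.1.1) hx)
  refine ⟨?_⟩
  rw [← hs.range_eq]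
  exact isCompact_range (K736.QC.continuous_ofChart h𝒳 x)

theorem fin_diag (h𝒳 : AlgSt.IsAlgStack Scheme.fppfPrecoverage 𝒳) (hw : AlgSt.IsWellNighAffine 𝒳) :
    AlgSt.RepByAlgSpWith AlgSp.IsFiniteMor (FibCat.diag (FibCat.toSelf 𝒳)) := by
  obtain ⟨U, x, hU, hx⟩ := hw
  exact repByAlgSpWith_fin_diag h𝒳.isStack.1 h𝒳.diag (K746.SpQuot.isSeparated_of_isAffine U.hom) x hx

theorem isQuasiDMOver (h𝒳 : AlgSt.IsAlgStack Scheme.fppfPrecoverage 𝒳) (hw : AlgSt.IsWellNighAffine 𝒳) :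
    AlgSt.IsQuasiDMOver 𝒳 :=
  repByAlgSpWith_mono (fun _ _ f h => lqf_of_isFiniteMor f h) (fin_diag h𝒳 hw)

theorem isSeparatedOver (h𝒳 : AlgSt.IsAlgStack Scheme.fppfPrecoverage 𝒳) (hw : AlgSt.IsWellNighAffine 𝒳) :
    AlgSt.IsSeparatedOver 𝒳 :=
  repByAlgSpWith_mono' (fun f h => isProperMor_of_isFiniteMor f h) (fin_diag h𝒳 hw)

end K746.WnaSep
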