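import Groth.Agent.AlgSt.K746.ModWna
import Groth.Agent.AlgSt.K746.WnaRep
import Groth.Agent.AlgSt.K746.GeomBij
import Groth.Agent.AlgSt.K746.UHomeo
import Groth.Agent.AlgSt.K746.WnaSep
import Groth.Agent.AlgSt.K740.SpDM
import Groth.Agent.AlgSt.K740.SpIso
import Groth.Agent.S12985
import Groth.Agent.S12981

/-!
# The moduli space of a well-nigh affine algebraic stack
-/

set_option autoImplicit false
set_option linter.unusedVariables false
set_option backward.isDefEq.respectTransparency false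
set_option backward.isDefEq.respectTransparency.types false

universe w' v' w v u

open CategoryTheory CategoryTheory.Limits AlgebraicGeometry Opposite
open K734.Fib K598.Site
open Groth.Agent.GrpQ.H766.GeomQuotDef

namespace K746

variable {S : Scheme.{u}}

/-- Functors to a category fibred in sets with the same objects are isomorphic. -/
theorem nonempty_iso_of_obj_eq {𝒜 : BasedCategory.{v, w} (Over S)} {M : AlgSp.Sp S} {Φ Ψ : 𝒜 ⥤ᵇ AlgSt.ofSp M}
    (h : ∀ a, Φ.obj a = Ψ.obj a) : Nonempty (Φ ≅ Ψ) := by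
  have key : ∀ {a b : 𝒜.obj} (m : a ⟶ b), Φ.map m ≫ eqToHom (h b) = eqToHom (h a) ≫ Ψ.map m := by
    intro a b m
    have l1 : (AlgSt.ofSp M).p.IsHomLift (𝒜.p.map m) (Φ.map m) := Φ.preserves_isHomLift _ _
    have l2 : (AlgSt.ofSp M).p.IsHomLift (𝒜.p.map m) (Ψ.map m) := Ψ.preserves_isHomLift _ _
    have e1 : (AlgSt.ofSp M).p.map (Φ.map m) = eqToHom (Φ.w_obj a) ≫ 𝒜.p.map m ≫ eqToHom (Φ.w_obj b).symm :=
      IsHomLift.fac' (AlgSt.ofSp M).p (𝒜.p.map m) (Φ.map m)
    have e2 : (AlgSt.ofSp M).p.map (Ψ.map m) = eqToHom (Ψ.w_obj a) ≫ 𝒜.p.map m ≫ eqToHom (Ψ.w_obj b).symm :=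
      IsHomLift.fac' (AlgSt.ofSp M).p (𝒜.p.map m) (Ψ.map m)
    apply Stk.EltObj.hom_ext
    change (AlgSt.ofSp M).p.map (Φ.map m ≫ eqToHom (h b)) = (AlgSt.ofSp M).p.map (eqToHom (h a) ≫ Ψ.map m)
    rw [Functor.map_comp, Functor.map_comp, e1, e2, eqToHom_map, eqToHom_map]
    simp
  refine ⟨BasedNatIso.mkNatIso (NatIso.ofComponents (fun a => eqToIso (h a)) (fun {a b} m => key m)) (fun a => ?_)⟩
  have h1 : IsVert (AlgSt.ofSp M) (eqToHom (h a)) := IsVert.eqToHom _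
  exact h1.lift (Φ.w_obj a)

theorem isSeparatedMor_diag_ofSch (M : AlgSp.Space S) :
    AlgSt.RepByAlgSpWith AlgSp.IsSeparatedMor (FibCat.diag (FibCat.toSelf (AlgSt.ofSp M.obj))) := by
  refine K739.RepDiag2.repByAlgSpWith_diag_of_rep ?_ (K739.RepDiag2.repByAlgSp1_toSelf_ofSp M _)
  intro U V i hi hl
  have h1 : Mono i.left := K595.DiagAlg.mono_left i
  have h2 : IsSeparated i.left := inferInstance
  have h3 : AlgSp.RepWith @IsSeparated ((AlgSp.yon S).map i) := (AlgSp.repWith_yon_map_iff _ i).2 h2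
  exact (K595.DiagBasic.isSeparatedMor_iff_repWith h3.1).2 h3

/-- A separated algebraic stack is separated over any algebraic space. -/
theorem isSeparatedMor_of_isSeparatedOver {𝒳 : AlgSt.Cat S} {M : AlgSp.Space S}
    (h𝒳 : FibCat.IsFibGrpd 𝒳.p) (h : AlgSt.IsSeparatedOver 𝒳) (π : 𝒳 ⥤ᵇ AlgSt.ofSp M.obj) : AlgSt.IsSeparatedMor π :=
  K739.Alg.repByAlgSpWith_diag_of_toSelf (K739.Rep.isoInv_of_baseChange _ K739.Props.bc_proper)
    (K739.Rep.isoInv_of_baseChange _ K739.Props.bc_sep) K739.Props.bc_proper K739.Props.cancel_proper h𝒳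
    (isFibGrpd_ofPsh' _) π h (isSeparatedMor_diag_ofSch M)

section Chart

variable {𝒳 : AlgSt.Cat S} {U R M : Over S} {x : FibCat.overCat U ⥤ᵇ 𝒳} {π : 𝒳 ⥤ᵇ AlgSt.ofSch M} {p : U ⟶ M}
  (hπ : ∀ y, π.obj ((chF x).obj y) = (AlgSt.ofSpMap ((AlgSp.yon S).map p)).obj y)

include hπ in
theorem nonempty_iso_comp : Nonempty (BasedFunctor.comp x π ≅
    BasedFunctor.comp (AlgSt.ofOverCat U) (AlgSt.ofSpMap ((AlgSp.yon S).map p))) :=
  nonempty_iso_of_obj_eq fun y => hπ ((AlgSt.ofOverCat U).obj y)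

include hπ in
theorem repByAlgSpWith_comp_chart {P : MorphismProperty Scheme.{u}} {Q : MorphismProperty (AlgSp.Sp S)}
    [Q.RespectsIso] (hPQ : ∀ ⦃A B : AlgSp.Sp S⦄ (f : A ⟶ B), AlgSp.RepWith P f → Q f)
    (hp : AlgSp.RepWith P ((AlgSp.yon S).map p)) : AlgSt.RepByAlgSpWith Q (BasedFunctor.comp x π) := by
  obtain ⟨i⟩ := nonempty_iso_comp hπ
  exact (K735.Rep.repByAlgSpWith_iff_of_sq Q (AlgSt.ofSpMap ((AlgSp.yon S).map p)) (BasedFunctor.comp x π)
    (AlgSt.ofOverCat U) (BasedFunctor.id _) (K735.Rep.isEquivOver_ofOverCat U) K735.Fib.isEquivOver_id i).1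
    (K735.Top.repByAlgSpWith_ofSpMap_of_repWith hPQ hp)

end Chart

/-- The moduli space of a well-nigh affine algebraic stack, with its properties. -/
theorem exists_wna_moduli {𝒳 : AlgSt.Cat S} (h𝒳 : AlgSt.IsAlgStack Scheme.fppfPrecoverage 𝒳)
    (hw : AlgSt.IsWellNighAffine 𝒳) :
    ∃ (M : Over S) (π : 𝒳 ⥤ᵇ AlgSt.ofSch M), IsAffine M.left ∧ AlgSt.IsUnifCatModuli π ∧ AlgSt.GeomPtBij π ∧
      AlgSt.IsSeparatedMor π ∧ AlgSt.IsQuasiCompactMor Scheme.fppfPrecoverage π ∧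
      AlgSt.IsUnivHomeo Scheme.fppfPrecoverage π := by
  have hw' := hw
  obtain ⟨U, x, hU, hx⟩ := hw
  have hs : AlgSt.RepByAlgSpWith AlgSp.IsSurjectiveMor x := K739.Alg.repByAlgSpWith_mono (fun _ _ _ h => h.1.1.1) hx
  have hls := locSurj_of_wna h𝒳.isStack.1 hx
  obtain ⟨R, G, hR, hG⟩ := exists_chartRep h𝒳.isStack.1 hU hx
  obtain ⟨M, π, p, hM, hp, hπ, hunif⟩ := exists_moduli h𝒳.isStack.1 hU hls G hG
  have hgood : Good (G.toOGpd h𝒳.isStack.1).toGpd := by
    have hUa : IsAffine (G.toOGpd h𝒳.isStack.1).toGpd.U := hU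
    obtain ⟨_, _, _⟩ := hG
    exact Good.of_isAffine
  have hgeo : AlgSt.GeomPtBij π := by
    refine GeomBij.geomPtBij_of_chart h𝒳.isStack.1 hls.chF (relBy_chF h𝒳.isStack.1 G) hπ ?_ ?_
    · rintro Ω _ _ t₀ ⟨m⟩
      obtain ⟨a, ha⟩ := hgood.exists_geomPt_U hp m.left
      have ha' : (show Spec (CommRingCat.of Ω) ⟶ U.left from a) ≫ p.left = m.left := ha
      refine ⟨Over.homMk a ?_, ?_⟩
      · rw [← Over.w p, reassoc_of% ha']
        exact Over.w m
      · exact congrArg ULift.up (Over.OverMorphism.ext ha')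
    · intro Ω _ _ t₀ a b hab
      have hab' : a.left ≫ p.left = b.left ≫ p.left := by
        have := congrArg ULift.down hab
        exact congrArg CommaMorphism.left this
      obtain ⟨r, hr1, hr2⟩ := hgood.exists_geomPt_R hp b.left a.left hab'.symm
      have hr1' : (show Spec (CommRingCat.of Ω) ⟶ R.left from r) ≫ G.t.left = b.left := hr1
      have hr2' : (show Spec (CommRingCat.of Ω) ⟶ R.left from r) ≫ G.s.left = a.left := hr2
      refine ⟨Over.homMk r ?_, ?_, ?_⟩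
      · rw [← Over.w G.s, reassoc_of% hr2']
        exact Over.w a
      · ext; exact hr2'
      · ext; exact hr1'
  have hM' := K740.SpDM.isAlgStack_ofSp (F := (AlgSp.yon S).obj M) (AlgSp.IsAlgSpace.yon_obj M)
  have hMd : AlgSt.IsAlgStack Scheme.fppfPrecoverage (AlgSt.ofSch M) := hM'
  have hint : IsIntegralHom p.left := hgood.isIntegralHom hp
  have hsp : Function.Surjective (AlgSt.Points.map x) :=
    (K735.PtsSp.surjective_map_iff_surjective_ofChart x).2 (K736.QC.surjective_ofChart h𝒳 hs)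
  have hUst := K744.AlgOver.isAlgStack_overCat U
  refine ⟨M, π, hM, hunif, hgeo, ?_, ?_, ?_⟩
  · exact isSeparatedMor_of_isSeparatedOver (M := ⟨_, AlgSp.IsAlgSpace.yon_obj M⟩) h𝒳.isStack.1
      (WnaSep.isSeparatedOver h𝒳 hw') π
  · have h1 : AlgSt.RepByAlgSpWith AlgSp.IsQuasiCompactMor (BasedFunctor.comp x π) :=
      repByAlgSpWith_comp_chart hπ (P := @QuasiCompact)
        (fun _ _ _ hf => K596.QC.isQuasiCompactMor_of_repWith hf)
        ((AlgSp.repWith_yon_map_iff _ p).2 (inferInstance : QuasiCompact p.left))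
    have h2 := (Groth.Agent.S12981.result S _ _ hUst hMd (BasedFunctor.comp x π)
      (K739.Alg.repByAlgSp1_of h1)).1 h1
    exact Groth.Agent.S12985.result S _ _ _ hUst h𝒳 hMd x (BasedFunctor.comp x π) π (Iso.refl _) hsp h2
  · have h1 : AlgSt.RepByAlgSpWith AlgSp.IsUnivClosedMor (BasedFunctor.comp x π) :=
      repByAlgSpWith_comp_chart hπ (P := @UniversallyClosed)
        (fun _ _ _ hf => (K596.Univ.repWith_universallyClosed_iff hf.1).1 hf)
        ((AlgSp.repWith_yon_map_iff _ p).2 (inferInstance : UniversallyClosed p.left))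
    exact UHomeo.isUnivHomeo_of_chart h𝒳 hMd π x hsp h1 (GeomBij.surjective_map hgeo)
      (GeomBij.surjective_map_diag h𝒳.isStack.1 hgeo)

end K746
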