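import Groth.Agent.AlgSt.K746.ModLoc
import Groth.Agent.AlgSp.K597.LocP

/-!
# Uniform categorical moduli spaces are detected on affine flat base changes
-/

set_option autoImplicit false
set_option backward.isDefEq.respectTransparency false
set_option backward.isDefEq.respectTransparency.types false

universe w v₄ u₄ v₃ u₃ v u

open CategoryTheory CategoryTheory.Limits AlgebraicGeometry Opposite
open K734.Fib K598.Site

namespace K746.ModLoc

variable {S : Scheme.{u}} {𝒳 : BasedCategory.{v₃, u₃} (Over S)} {Y : AlgSp.Sp S}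

theorem locP_flat_of_etale {F G : AlgSp.Sp S} {f : F ⟶ G} (h : AlgSp.RepWith @Etale f) :
    AlgSp.LocP @Flat f := by
  have h1 : (@Etale : MorphismProperty Scheme.{u}) ≤ @Flat := fun X Y f hf => by
    have : Etale f := hf
    exact (inferInstance : Flat f)
  refine K597.locP_mono h1 (K597.locP_of_repWith (P := @Etale) (fun A B C e k he hk => ?_) h)
  have : Etale k := hk
  exact (inferInstance : Etale (e ≫ k))

theorem isFibGrpd_ofSp (F : AlgSp.Sp S) : FibCat.IsFibGrpd (AlgSt.ofSp F).p := isFibGrpd_ofPsh' F.obj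

theorem isUnifCatModuli_of_affine_flat (h𝒳 : FibCat.IsFibGrpd 𝒳.p) (hY : AlgSp.IsAlgSpace Y)
    (f : 𝒳 ⥤ᵇ AlgSt.ofSp Y)
    (hf : ∀ (Y' : Over S), IsAffine Y'.left → ∀ (g : (AlgSp.yon S).obj Y' ⟶ Y), AlgSp.LocP @Flat g →
      AlgSt.IsCatModuli (FibCat.fpFst (AlgSt.ofSpMap g) f)) :
    AlgSt.IsUnifCatModuli f := by
  refine ⟨isCatModuliIn_of_local h𝒳 hY hY fun V hV v hv => hf V hV v (locP_flat_of_etale hv), ?_⟩
  intro M' hM' g hg
  refine isCatModuliIn_of_local (isFibGrpd_fp _ _ (isFibGrpd_ofSp M') h𝒳 (isFibGrpd_ofSp Y)) hM' hM'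
    fun V hV v hv => ?_
  have h1 := hf V hV (v ≫ g) (K597.locP_precomp hv hg)
  refine (isCatModuliIn_comp_iff (e := fpPaste (AlgSt.ofSpMap v) (AlgSt.ofSpMap g) f)
    (isEquivOver_fpPaste _ _ _) (fun z => rfl)).1 h1

end K746.ModLoc
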