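import Groth.Agent.AlgSt.K746.Sec
import Groth.Agent.AlgSt.K735.Rep
import Groth.Agent.AlgSt.K734.RepSp

/-!
# Uniqueness of categorical moduli spaces
-/

set_option autoImplicit false
set_option backward.isDefEq.respectTransparency false
set_option backward.isDefEq.respectTransparency.types false

universe w v u

open CategoryTheory CategoryTheory.Limits AlgebraicGeometry Opposite
open K734.Fib

namespace K746

variable {S : Scheme.{u}} {𝒳 : BasedCategory.{v, w} (Over S)} {M M' : AlgSp.Sp S}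
  {C : ObjectProperty (AlgSp.Sp S)}

theorem eq_of_ofSpMap_obj {M N : AlgSp.Sp S} {g g' : M ⟶ N}
    (h : ∀ z, (AlgSt.ofSpMap g).obj z = (AlgSt.ofSpMap g').obj z) : g = g' := by
  apply ObjectProperty.hom_ext
  ext T m
  exact elt_inj (h ⟨T.unop, m⟩)

/-- Two categorical moduli spaces are isomorphic. -/
theorem exists_iso_of_isCatModuliIn {π : 𝒳 ⥤ᵇ AlgSt.ofSp M} {π' : 𝒳 ⥤ᵇ AlgSt.ofSp M'}
    (h : AlgSt.IsCatModuliIn C π) (h' : AlgSt.IsCatModuliIn C π') :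
    ∃ e : M ≅ M', ∀ z, (AlgSt.ofSpMap e.hom).obj (π.obj z) = π'.obj z := by
  rw [isCatModuliIn_iff] at h h'
  obtain ⟨g, hg, -⟩ := h.2 M' h'.1 π'
  obtain ⟨g', hg', -⟩ := h'.2 M h.1 π
  have hg : ∀ z, (AlgSt.ofSpMap g).obj (π.obj z) = π'.obj z := hg
  have hg' : ∀ z, (AlgSt.ofSpMap g').obj (π'.obj z) = π.obj z := hg'
  obtain ⟨_, -, hu⟩ := h.2 M h.1 π
  obtain ⟨_, -, hu'⟩ := h'.2 M' h'.1 π'
  have e1 : g ≫ g' = 𝟙 M := (hu _ fun z => by
    change (AlgSt.ofSpMap g').obj ((AlgSt.ofSpMap g).obj (π.obj z)) = π.obj z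
    rw [hg, hg']).trans (hu _ fun z => rfl).symm
  have e2 : g' ≫ g = 𝟙 M' := (hu' _ fun z => by
    change (AlgSt.ofSpMap g).obj ((AlgSt.ofSpMap g').obj (π'.obj z)) = π'.obj z
    rw [hg', hg]).trans (hu' _ fun z => rfl).symm
  exact ⟨⟨g, g', e1, e2⟩, hg⟩

/-- An equivalence to an algebraic space is a categorical moduli space. -/
theorem isCatModuliIn_of_equiv {π : 𝒳 ⥤ᵇ AlgSt.ofSp M} (hM : C M) (hπ : FibCat.IsEquivOver π) :
    AlgSt.IsCatModuliIn C π := by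
  obtain ⟨e, he, ⟨i⟩, ⟨j⟩⟩ := exists_inverse hπ
  rw [isCatModuliIn_iff]
  refine ⟨hM, fun N hN φ => ?_⟩
  obtain ⟨g, ⟨k⟩⟩ := K734.Rep.exists_ofSpMap (BasedFunctor.comp e φ)
  have hk : ∀ m, φ.obj (e.obj m) = (AlgSt.ofSpMap g).obj m := fun m => obj_eq_of_iso k m
  have hi : ∀ z, φ.obj (e.obj (π.obj z)) = φ.obj z := fun z =>
    eq_of_vert ((app_vert i z).map φ)
  have hj : ∀ m, π.obj (e.obj m) = m := fun m => obj_eq_of_iso j m
  refine ⟨g, fun z => (hk _).symm.trans (hi z), fun g' hg' => eq_of_ofSpMap_obj fun m => ?_⟩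
  have h1 : (AlgSt.ofSpMap g').obj (π.obj (e.obj m)) = φ.obj (e.obj m) := hg' (e.obj m)
  rw [hj] at h1
  exact h1.trans (hk m)

/-- A category with a categorical moduli space which is an algebraic space is its moduli space. -/
theorem isEquivOver_of_repByAlgSp {π : 𝒳 ⥤ᵇ AlgSt.ofSp M} (h : AlgSt.IsCatModuli π)
    (hsp : AlgSt.RepByAlgSp 𝒳) : FibCat.IsEquivOver π := by
  obtain ⟨F, e, he⟩ := hsp
  obtain ⟨e', he', -, -⟩ := exists_inverse he
  obtain ⟨i, hi⟩ := exists_iso_of_isCatModuliIn (isCatModuliIn_of_equiv F.property he') h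
  obtain ⟨j⟩ := (nonempty_iso_ofPsh_iff (Φ := BasedFunctor.comp e' (AlgSt.ofSpMap i.hom)) (Ψ := π)).2 hi
  exact isEquivOver_of_iso j (isEquivOver_comp he' (K735.Rep.isEquivOver_ofSpMap_of_isIso i.hom))

end K746
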