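import Groth.Agent.AlgSt.K746.FRepEx
import Groth.Agent.AlgSt.K746.WnaRep
import Groth.Agent.AlgSp.K613.LqfRep
import Groth.Agent.AlgSp.K595.DiagBasic

/-!
# Étale separated base changes of charts are schemes
-/

set_option autoImplicit false
set_option backward.isDefEq.respectTransparency false
set_option backward.isDefEq.respectTransparency.types false

universe u₄ v₄ u₃ v₃ v u

open CategoryTheory CategoryTheory.Limits AlgebraicGeometry Opposite
open K734.Fib K598.Site

namespace K746.EtSch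

variable {S : Scheme.{u}}

/-- An algebraic space étale and separated over a scheme is a scheme. -/
theorem exists_sch {F : AlgSp.Sp S} (hF : AlgSp.IsAlgSpace F) {U : Over S} (π : F ⟶ (AlgSp.yon S).obj U)
    (he : AlgSp.IsEtaleMor π) (hs : AlgSp.IsSeparatedMor π) : ∃ (W : Over S) (i : W ⟶ U)
      (e : (AlgSp.yon S).obj W ≅ F), e.hom ≫ π = (AlgSp.yon S).map i ∧ Etale i.left ∧ IsSeparated i.left := by
  have h1 : AlgSp.LocP @Etale π := K597.locP_etale_of_isEtaleMor he
  have h2 : AlgSp.LocP (@LocallyQuasiFinite ⊓ @LocallyOfFiniteType) π :=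
    K597.locP_mono (P := @Etale) (Q := @LocallyQuasiFinite ⊓ @LocallyOfFiniteType)
      (fun A B f (hf : Etale f) => ⟨K597.locallyQuasiFinite_of_etale f, (inferInstance : LocallyOfFiniteType f)⟩) h1
  have hr : AlgSp.Representable π := K613.representable_of_lqf hF (AlgSp.IsAlgSpace.yon_obj U) π h2 hs
  obtain ⟨W, i, fst, sq⟩ := hr (𝟙 _)
  have hfst : IsIso fst := sq.isIso_fst_of_isIso
  have e : (asIso fst).hom ≫ π = (AlgSp.yon S).map i := by
    rw [asIso_hom, sq.w, Category.comp_id]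
  have hfe : AlgSp.RepWith @Etale fst := K598.RepKit.repWith_of_isIso fst
  refine ⟨W, i, asIso fst, e, ?_, ?_⟩
  · have := K597.locP_precomp hfe h1
    rw [show fst ≫ π = _ from e] at this
    exact AlgSp.locP_yon_map this
  · have h3 := (K595.DiagBasic.isSeparatedMor_iff_repWith hr).1 hs
    exact h3.2 _ _ _ sq

variable {𝒳 : BasedCategory.{v₃, u₃} (Over S)} {𝒳' : BasedCategory.{v₄, u₄} (Over S)}
  {U : Over S}

theorem exists_fRep (h𝒳 : FibCat.IsFibGrpd 𝒳.p) {h : 𝒳' ⥤ᵇ 𝒳}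
    (hh : AlgSt.RepByAlgSpWith (AlgSp.IsEtaleMor ⊓ AlgSp.IsSeparatedMor) h) (x : FibCat.overCat U ⥤ᵇ 𝒳) :
    ∃ (W : Over S) (H : FRep x h W), Etale H.c.left ∧ IsSeparated H.c.left := by
  obtain ⟨F, π, hP, ⟨R⟩⟩ := K738.repByAlgSpWith_iff_secRep.1 hh U x
  obtain ⟨W, i, e, he, h1, h2⟩ := exists_sch F.property π hP.1 hP.2
  have hR := secRepOfIso R e.symm
  rw [Iso.symm_inv, he] at hR
  obtain ⟨H, hH⟩ := FRepEx.exists_fRep h𝒳 hR
  obtain rfl : i = H.c := (AlgSp.yon S).map_injective hH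
  exact ⟨W, H, h1, h2⟩

end K746.EtSch
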