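import Groth.Agent.AlgSt.K746.TwoCart2
import Groth.Agent.AlgSt.K746.EtSch
import Groth.Agent.AlgSt.K746.WnaMod
import Groth.Agent.S12943
import Groth.Prelude.Def_StGerb2

/-!
# Étale separated stabilizer-preserving morphisms to a well-nigh affine stack
-/

set_option autoImplicit false
set_option backward.isDefEq.respectTransparency false
set_option backward.isDefEq.respectTransparency.types false

universe u₄ v₄ u₃ v₃ v u

open CategoryTheory CategoryTheory.Limits AlgebraicGeometry Opposite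
open K734.Fib K598.Site
open Groth.Agent.GrpQ.H766.GeomQuotDef

namespace K746.EtWna

section Aut

variable {C : Type u} [Category.{v} C] {𝒳 : BasedCategory.{v₃, u₃} C} {𝒳' : BasedCategory.{v₄, u₄} C}

/-- Surjectivity on automorphism groups, in terms of vertical morphisms. -/
theorem exists_aut (h𝒳 : FibCat.IsFibGrpd 𝒳.p) {h : 𝒳' ⥤ᵇ 𝒳} {z : 𝒳'.obj}
    (hz : Function.Surjective (Gerb.autMap h z)) (α : h.obj z ⟶ h.obj z) (hα : IsVert 𝒳 α) :
    ∃ β : z ⟶ z, IsVert 𝒳' β ∧ h.map β = α := by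
  have := isIso_of_vert h𝒳 hα
  let a : Gerb.AutO (h.obj z) :=
    { hom := ⟨α, hα⟩
      inv := ⟨CategoryTheory.inv α, IsVert.isIso_inv hα⟩
      hom_inv_id := by
        apply Functor.Fiber.hom_ext
        exact IsIso.hom_inv_id α
      inv_hom_id := by
        apply Functor.Fiber.hom_ext
        exact IsIso.inv_hom_id α }
  obtain ⟨b, hb⟩ := hz a
  refine ⟨b.hom.1, IsVert.of_lift b.hom.2, ?_⟩
  have h1 := congrArg (fun t : Gerb.AutO (h.obj z) => t.hom.1) hb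
  exact h1

end Aut

variable {S : Scheme.{u}}

/-- The étale moduli space over the affine moduli space. -/
theorem exists_etale_moduli {𝒳 𝒳' : AlgSt.Cat S} (h𝒳 : AlgSt.IsAlgStack Scheme.fppfPrecoverage 𝒳)
    (h𝒳' : AlgSt.IsAlgStack Scheme.fppfPrecoverage 𝒳') (hw : AlgSt.IsWellNighAffine 𝒳) (h : 𝒳' ⥤ᵇ 𝒳)
    (het : AlgSt.RepByAlgSpWith AlgSp.IsEtaleMor h) (hsep : AlgSt.IsSeparatedMor h)
    (haut : ∀ x' : 𝒳'.obj, Function.Bijective (Gerb.autMap h x')) :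
    ∃ (M : Over S) (π : 𝒳 ⥤ᵇ AlgSt.ofSch M) (M' : Over S) (π' : 𝒳' ⥤ᵇ AlgSt.ofSch M') (g : M' ⟶ M)
      (e : BasedFunctor.comp h π ≅ BasedFunctor.comp π' (AlgSt.ofSpMap ((AlgSp.yon S).map g))),
      IsAffine M.left ∧ AlgSt.IsUnifCatModuli π ∧ Etale g.left ∧ IsSeparated g.left ∧
        FibCat.IsTwoCartOver h π' e := by
  have hh : AlgSt.RepByAlgSp1 h := K735.Rep.repByAlgSp1_of_with het
  have hf : h.toFunctor.Faithful := K734.Rep.faithful_of_repByAlgSp1 h𝒳'.isStack.1 h𝒳.isStack.1 h hh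
  have hs' : AlgSt.RepByAlgSpWith AlgSp.IsSeparatedMor h :=
    ((Groth.Agent.S12943.result S 𝒳' 𝒳 h𝒳' h𝒳 h hh).out 2 0).1 hsep
  have := DiagFin.isSeparatedMor_respectsIso (S := S)
  have hes := K735.Top.repByAlgSpWith_inf het hs'
  obtain ⟨U, x, hU, hx⟩ := hw
  have hls := locSurj_of_wna h𝒳.isStack.1 hx
  obtain ⟨R, G, hR, hG⟩ := exists_chartRep h𝒳.isStack.1 hU hx
  obtain ⟨M, π, p, hM, hp, hπ, hunif⟩ := exists_moduli h𝒳.isStack.1 hU hls G hG
  obtain ⟨W, H, hE, hS⟩ := EtSch.exists_fRep h𝒳.isStack.1 hes x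
  have hT : (fAct G H h𝒳.isStack.1 h𝒳'.isStack.1).toAct.Triv := triv_fAct G H h𝒳.isStack.1 h𝒳'.isStack.1
    (fun z α hα => exists_aut h𝒳.isStack.1 (haut z).2 α hα)
  have hUa : IsAffine (G.toOGpd h𝒳.isStack.1).toGpd.U := hU
  obtain ⟨Y', p', g, hp', hge, hgs, sq⟩ :
      ∃ (Y' : Scheme.{u}) (p' : (fAct G H h𝒳.isStack.1 h𝒳'.isStack.1).toAct.gpd.U ⟶ Y') (g : Y' ⟶ M.left),
        IsGeomQuot (fAct G H h𝒳.isStack.1 h𝒳'.isStack.1).toAct.gpd.s
          (fAct G H h𝒳.isStack.1 h𝒳'.isStack.1).toAct.gpd.t p' ∧ Etale g ∧ IsSeparated g ∧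
        IsPullback (fAct G H h𝒳.isStack.1 h𝒳'.isStack.1).toAct.hom.fU p'
          (show (G.toOGpd h𝒳.isStack.1).toGpd.U ⟶ M.left from p.left) g := by
    obtain ⟨_, _, _⟩ := hG
    exact EtDesc.exists_desc _ hT hp
  let M' : Over S := Over.mk (g ≫ M.hom)
  let g' : M' ⟶ M := Over.homMk g rfl
  have sq' : IsPullback H.c.left (show W.left ⟶ Y' from p') p.left g := sq
  let q : W ⟶ M' := Over.homMk (show W.left ⟶ Y' from p') (by
    change (show W.left ⟶ Y' from p') ≫ g ≫ M.hom = W.hom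
    rw [← sq'.w_assoc, Over.w, Over.w])
  have sqS : IsPullback H.c q p g' := isPullback_over sq'
  have sqY : IsPullback ((AlgSp.yon S).map q) ((AlgSp.yon S).map H.c) ((AlgSp.yon S).map g') ((AlgSp.yon S).map p) :=
    sqS.flip.map (AlgSp.yon S)
  have hinv : (AlgSp.yon S).map (aS G H) ≫ (AlgSp.yon S).map q =
      (AlgSp.yon S).map (aT G H h𝒳.isStack.1 h𝒳'.isStack.1) ≫ (AlgSp.yon S).map q := by
    rw [← Functor.map_comp, ← Functor.map_comp]
    congr 1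
    ext
    exact hp'.w.symm
  obtain ⟨π', hπ'⟩ := (relBy_fCh G H h𝒳.isStack.1 h𝒳'.isStack.1).exists_desc h𝒳'.isStack.1
    (locSurj_fCh (H := H) h𝒳.isStack.1 h𝒳'.isStack.1 hls).chF ((AlgSp.yon S).map q) hinv
  obtain ⟨e, he⟩ := TwoCart.exists_isTwoCartOver H hls (K751.Test.isPrestack_of_isStack h𝒳.isStack) h𝒳'.isStack hf
    hπ hπ' sqY
  exact ⟨M, π, M', π', g', e, hM, hunif, hge, hgs, he⟩

end K746.EtWna
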