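import Groth.Agent.AlgSt.K746.SqTrans
import Groth.Agent.AlgSt.K746.EtWna
import Groth.Agent.AlgSt.K734.Props

/-!
# Étale separated stabilizer-preserving morphisms to a well-nigh affine stack with given moduli space
-/

set_option autoImplicit false
set_option backward.isDefEq.respectTransparency false
set_option backward.isDefEq.respectTransparency.types false

universe u

open CategoryTheory CategoryTheory.Limits AlgebraicGeometry Opposite
open K734.Fib

namespace K746.EtWna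

variable {S : Scheme.{u}}

theorem isEtaleMor_comp_iso {X Y Z : AlgSp.Sp S} {f : X ⟶ Y} (hf : AlgSp.IsEtaleMor f) (i : Y ≅ Z) :
    AlgSp.IsEtaleMor (f ≫ i.hom) := fun U φ hφ => by
  have h1 := hf φ hφ
  rw [← Category.assoc]
  exact (MorphismProperty.cancel_right_of_respectsIso (AlgSp.RepWith (S := S) @Etale) _ i.hom).2 h1

/-- The étale moduli space over a given categorical moduli space. -/
theorem exists_etale_moduli_of_isCatModuli {𝒳 𝒳' : AlgSt.Cat S}
    (h𝒳 : AlgSt.IsAlgStack Scheme.fppfPrecoverage 𝒳)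
    (h𝒳' : AlgSt.IsAlgStack Scheme.fppfPrecoverage 𝒳') (hw : AlgSt.IsWellNighAffine 𝒳) (h : 𝒳' ⥤ᵇ 𝒳)
    (het : AlgSt.RepByAlgSpWith AlgSp.IsEtaleMor h) (hsep : AlgSt.IsSeparatedMor h)
    (haut : ∀ x' : 𝒳'.obj, Function.Bijective (Gerb.autMap h x'))
    (M : AlgSp.Sp S) (π : 𝒳 ⥤ᵇ AlgSt.ofSp M) (hπ : AlgSt.IsCatModuli π) :
    ∃ (M' : Over S) (π' : 𝒳' ⥤ᵇ AlgSt.ofSch M') (g : (AlgSp.yon S).obj M' ⟶ M)
      (e : BasedFunctor.comp h π ≅ BasedFunctor.comp π' (AlgSt.ofSpMap g)),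
      AlgSp.IsEtaleMor g ∧ AlgSp.IsSeparatedMor g ∧ FibCat.IsTwoCartOver h π' e := by
  obtain ⟨M₀, π₀, M', π', g, e, hM, hunif, hge, hgs, he⟩ :=
    exists_etale_moduli h𝒳 h𝒳' hw h het hsep haut
  obtain ⟨i, hi⟩ := exists_iso_of_isCatModuliIn hunif.1 hπ
  obtain ⟨e₁⟩ : Nonempty (BasedFunctor.comp h π ≅
      BasedFunctor.comp π' (AlgSt.ofSpMap ((AlgSp.yon S).map g ≫ i.hom))) :=
    (nonempty_iso_ofPsh_iff (Φ := BasedFunctor.comp h π)
      (Ψ := BasedFunctor.comp π' (AlgSt.ofSpMap ((AlgSp.yon S).map g ≫ i.hom)))).2 (fun z => by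
        have h1 := (nonempty_iso_ofPsh_iff (Φ := BasedFunctor.comp h π₀)
          (Ψ := BasedFunctor.comp π' (AlgSt.ofSpMap ((AlgSp.yon S).map g)))).1 ⟨e⟩ z
        refine (hi (h.obj z)).symm.trans ?_
        exact congrArg (AlgSt.ofSpMap i.hom).obj h1)
  refine ⟨M', π', (AlgSp.yon S).map g ≫ i.hom, e₁, ?_, ?_, ?_⟩
  · exact isEtaleMor_comp_iso ((AlgSp.isEtaleMor_yon_map_iff g).2 hge) i
  · have := DiagFin.isSeparatedMor_respectsIso (S := S)
    exact (MorphismProperty.cancel_right_of_respectsIso _ _ _).2 ((AlgSp.isSeparatedMor_yon_map_iff g).2 hgs)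
  · exact SqTrans.isTwoCartOver_trans (π₁' := π') (g₁ := (AlgSp.yon S).map g ≫ i.hom) i (Iso.refl _) hi (fun z => rfl)
      (Category.id_comp _) he e₁

end K746.EtWna
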