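import Groth.Agent.AlgSt.K734.IsoPsh
import Groth.Prelude.Def_StCoarse

/-!
# Functors into the category of a sheaf of sets, and categorical moduli spaces

* `ofPsh_ext_iff`: two functors into `ofPsh P` are 2-isomorphic iff they agree on objects.
* `LocSurj J F`: objects of `𝒳` come `J`-locally from `F : 𝒴 ⥤ᵇ 𝒳`.
* `exists_desc`, `eq_of_locSurj`: functors `𝒳 ⥤ᵇ ofPsh P` (`P` a `J`-sheaf) are the invariant functors `𝒴 ⥤ᵇ ofPsh P`.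
* `isCatModuliIn_iff`, `isCatModuliIn_iff_of_locSurj`.
-/

set_option autoImplicit false
set_option backward.isDefEq.respectTransparency false
set_option backward.isDefEq.respectTransparency.types false

universe w v₄ u₄ v₃ u₃ v u

open CategoryTheory CategoryTheory.Limits AlgebraicGeometry Opposite
open K734.Fib

namespace K746

section General

variable {C : Type u} [Category.{v} C] {P : Cᵒᵖ ⥤ Type w}
variable {𝒳 : BasedCategory.{v₃, u₃} C} {𝒴 : BasedCategory.{v₄, u₄} C}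

theorem nonempty_iso_ofPsh_iff {Φ Ψ : 𝒳 ⥤ᵇ Stk.ofPsh P} :
    Nonempty (Φ ≅ Ψ) ↔ ∀ z, Φ.obj z = Ψ.obj z :=
  ⟨fun ⟨e⟩ z => obj_eq_of_iso e z, nonempty_iso_of_obj_eq⟩

/-- Every object of `𝒳` comes, locally for `J`, from an object of `𝒴`. -/
def LocSurj (J : GrothendieckTopology C) (F : 𝒴 ⥤ᵇ 𝒳) : Prop :=
  ∀ z : 𝒳.obj, ∃ R ∈ J (𝒳.p.obj z), ∀ ⦃T : C⦄ (f : T ⟶ 𝒳.p.obj z), R f →
    ∃ (y : 𝒴.obj) (m : F.obj y ⟶ z), 𝒳.p.IsHomLift f m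

variable {J : GrothendieckTopology C}

/-- Two functors to a sheaf agreeing on a locally surjective family agree. -/
theorem eq_of_locSurj {F : 𝒴 ⥤ᵇ 𝒳} (hF : LocSurj J F) (hP : Presieve.IsSheaf J P)
    {Φ Ψ : 𝒳 ⥤ᵇ Stk.ofPsh P} (h : ∀ y, Φ.obj (F.obj y) = Ψ.obj (F.obj y)) (z : 𝒳.obj) :
    Φ.obj z = Ψ.obj z := by
  obtain ⟨R, hR, hz⟩ := hF z
  rw [secOf_spec Φ z rfl, secOf_spec Ψ z rfl]
  congr 1
  refine (hP R hR).isSeparatedFor.ext fun T f hf => ?_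
  obtain ⟨y, m, hm⟩ := hz f hf
  have hd : 𝒳.p.obj (F.obj y) = T := IsHomLift.domain_eq 𝒳.p f m
  rw [secOf_map Φ (z := z) rfl hd hm, secOf_map Ψ (z := z) rfl hd hm]
  exact secOf_eq Φ hd ((h y).trans (secOf_spec Ψ _ hd))

section Desc

variable (F : 𝒴 ⥤ᵇ 𝒳) (a : 𝒴 ⥤ᵇ Stk.ofPsh P)

/-- `n` is the value of `a` at a lift to `𝒴` of the restriction of `z` along `f`. -/
def IsVal (z : 𝒳.obj) {T : C} (f : T ⟶ 𝒳.p.obj z) (n : P.obj (op T)) : Prop :=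
  ∃ (y : 𝒴.obj) (m : F.obj y ⟶ z), 𝒳.p.IsHomLift f m ∧ a.obj y = ⟨T, n⟩

variable {F a}

theorem IsVal.unique (h𝒳 : FibCat.IsFibGrpd 𝒳.p)
    (hinv : ∀ (y y' : 𝒴.obj) (φ : F.obj y ⟶ F.obj y'), IsVert 𝒳 φ → a.obj y = a.obj y')
    {z : 𝒳.obj} {T : C} {f : T ⟶ 𝒳.p.obj z} {n n' : P.obj (op T)} (h : IsVal F a z f n)
    (h' : IsVal F a z f n') : n = n' := by
  obtain ⟨y, m, hm, hy⟩ := h
  obtain ⟨y', m', hm', hy'⟩ := h'
  obtain ⟨e, he, -⟩ := exists_iso_of_lift h𝒳 hm hm'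
  exact elt_inj (hy.symm.trans ((hinv _ _ _ he).trans hy'))

theorem IsVal.restrict (h𝒴 : FibCat.IsFibGrpd 𝒴.p)
    {z : 𝒳.obj} {T T' : C} {f : T ⟶ 𝒳.p.obj z} {n : P.obj (op T)} (h : IsVal F a z f n)
    (g : T' ⟶ T) : IsVal F a z (g ≫ f) (P.map g.op n) := by
  obtain ⟨y, m, hm, hy⟩ := h
  have hyT : 𝒴.p.obj y = T := (F.w_obj y).symm.trans (IsHomLift.domain_eq 𝒳.p f m)
  obtain ⟨y', k, hk⟩ := exists_lift h𝒴 hyT g
  have hFk : 𝒳.p.IsHomLift g (F.map k) := BasedFunctor.preserves_isHomLift F g k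
  have hd : 𝒴.p.obj y' = T' := IsHomLift.domain_eq 𝒴.p g k
  refine ⟨y', F.map k ≫ m, inferInstance, ?_⟩
  rw [secOf_spec a y' hd, ← secOf_map a hyT hd hk, secOf_eq a hyT hy]

theorem IsVal.push {z z' : 𝒳.obj} (k : z ⟶ z') {T : C} {f : T ⟶ 𝒳.p.obj z} {n : P.obj (op T)}
    (h : IsVal F a z f n) : IsVal F a z' (f ≫ 𝒳.p.map k) n := by
  obtain ⟨y, m, hm, hy⟩ := h
  exact ⟨y, m ≫ k, inferInstance, hy⟩

theorem existsUnique_sec (h𝒳 : FibCat.IsFibGrpd 𝒳.p) (h𝒴 : FibCat.IsFibGrpd 𝒴.p) (hF : LocSurj J F)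
    (hP : Presieve.IsSheaf J P)
    (hinv : ∀ (y y' : 𝒴.obj) (φ : F.obj y ⟶ F.obj y'), IsVert 𝒳 φ → a.obj y = a.obj y')
    (z : 𝒳.obj) : ∃! s : P.obj (op (𝒳.p.obj z)), ∀ ⦃T : C⦄ (f : T ⟶ 𝒳.p.obj z) (n : P.obj (op T)),
      IsVal F a z f n → P.map f.op s = n := by
  obtain ⟨R, hR, hz⟩ := hF z
  have hex : ∀ ⦃T : C⦄ (f : T ⟶ 𝒳.p.obj z), R f → ∃ n : P.obj (op T), IsVal F a z f n := by
    intro T f hf
    obtain ⟨y, m, hm⟩ := hz f hf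
    have hyT : 𝒴.p.obj y = T := (F.w_obj y).symm.trans (IsHomLift.domain_eq 𝒳.p f m)
    exact ⟨secOf a y hyT, y, m, hm, secOf_spec a y hyT⟩
  choose n hn using hex
  have hcomp : (show Presieve.FamilyOfElements P R from fun T f hf => n f hf).Compatible := by
    intro T₁ T₂ T g₁ g₂ f₁ f₂ h₁ h₂ hc
    have e1 := (hn f₁ h₁).restrict h𝒴 g₁
    have e2 := (hn f₂ h₂).restrict h𝒴 g₂
    rw [← hc] at e2
    exact e1.unique h𝒳 hinv e2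
  obtain ⟨s, hs, hu⟩ := hP R hR _ hcomp
  refine ⟨s, ?_, ?_⟩
  · intro T f m hm
    -- check locally on `T`
    refine (hP (R.pullback f) (J.pullback_stable f hR)).isSeparatedFor.ext fun T' g hg => ?_
    rw [← Functor.map_comp_apply, ← op_comp]
    exact (hs (g ≫ f) hg).trans ((hn _ hg).unique h𝒳 hinv (hm.restrict h𝒴 g))
  · intro s' hs'
    exact hu s' fun T f hf => hs' f _ (hn f hf)

/-- An invariant functor descends. -/
theorem exists_desc (h𝒳 : FibCat.IsFibGrpd 𝒳.p) (h𝒴 : FibCat.IsFibGrpd 𝒴.p) (hF : LocSurj J F)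
    (hP : Presieve.IsSheaf J P)
    (hinv : ∀ (y y' : 𝒴.obj) (φ : F.obj y ⟶ F.obj y'), IsVert 𝒳 φ → a.obj y = a.obj y') :
    ∃ Φ : 𝒳 ⥤ᵇ Stk.ofPsh P, ∀ y, Φ.obj (F.obj y) = a.obj y := by
  choose s hs hu using existsUnique_sec (a := a) h𝒳 h𝒴 hF hP hinv
  refine ⟨{ toFunctor := { obj := fun z => ⟨𝒳.p.obj z, s z⟩
                           map := fun {z z'} k => ⟨𝒳.p.map k, ?_⟩
                           map_id := fun z => Stk.EltObj.hom_ext (𝒳.p.map_id z)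
                           map_comp := fun m m' => Stk.EltObj.hom_ext (𝒳.p.map_comp m m') }
            w := rfl }, ?_⟩
  · refine hu z _ fun T f n hn => ?_
    rw [← Functor.map_comp_apply, ← op_comp]
    exact hs z' _ _ (hn.push k)
  · intro y
    change (⟨𝒳.p.obj (F.obj y), s (F.obj y)⟩ : Stk.EltObj P) = a.obj y
    rw [secOf_spec a y (F.w_obj y).symm]
    congr 1
    have h1 : IsVal F a (F.obj y) (𝟙 (𝒳.p.obj (F.obj y))) (secOf a y (F.w_obj y).symm) :=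
      ⟨y, 𝟙 _, inferInstance, secOf_spec a y (F.w_obj y).symm⟩
    have := hs (F.obj y) _ _ h1
    simpa using this

end Desc

end General

section Fiber

variable {C : Type u} [Category.{v} C] {𝒳 : BasedCategory.{v₃, u₃} C}

/-- A vertical morphism of a category fibred in groupoids gives an isomorphism in the fibre category. -/
theorem nonempty_fiberIso (h𝒳 : FibCat.IsFibGrpd 𝒳.p) {T : C} {x y : 𝒳.p.Fiber T} (φ : x.1 ⟶ y.1)
    (h : IsVert 𝒳 φ) : Nonempty (x ≅ y) := by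
  have := isIso_of_vert h𝒳 h
  have h1 : 𝒳.p.IsHomLift (𝟙 T) φ := h.lift x.2
  have h2 : 𝒳.p.IsHomLift (𝟙 T) (inv φ) := (IsVert.isIso_inv h).lift y.2
  exact ⟨⟨⟨φ, h1⟩, ⟨inv φ, h2⟩, Subtype.ext (IsIso.hom_inv_id φ), Subtype.ext (IsIso.inv_hom_id φ)⟩⟩

theorem exists_vert_of_fiberIso {T : C} {x y : 𝒳.p.Fiber T} (e : x ≅ y) :
    ∃ φ : x.1 ⟶ y.1, IsVert 𝒳 φ :=
  ⟨e.hom.1, IsVert.of_lift e.hom.2⟩

end Fiber

section Moduli

variable {S : Scheme.{u}} {𝒳 : BasedCategory.{v₃, u₃} (Over S)} {𝒴 : BasedCategory.{v₄, u₄} (Over S)}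
  {M : AlgSp.Sp S}

theorem isSheaf_obj (N : AlgSp.Sp S) : Presieve.IsSheaf (AlgSp.J S) N.obj :=
  (isSheaf_iff_isSheaf_of_type _ _).1 N.property

theorem fibSec_eq (π : 𝒳 ⥤ᵇ AlgSt.ofSp M) {T : Over S} (x : 𝒳.p.Fiber T) :
    AlgSt.fibSec π x = secOf π x.1 x.2 := by
  obtain ⟨x, rfl⟩ := x
  have h := secOf_spec π x rfl
  have key : ∀ (a : (AlgSt.ofSp M).obj) (e : 𝒳.p.obj x = a.base) (s : M.obj.obj (op (𝒳.p.obj x))),
      a = ⟨𝒳.p.obj x, s⟩ → M.obj.map (eqToHom e).op a.sec = s := by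
    rintro a e s rfl
    simp
  exact key _ _ _ h

theorem fibSec_eq_iff (π : 𝒳 ⥤ᵇ AlgSt.ofSp M) {T : Over S} (x : 𝒳.p.Fiber T) (m : M.obj.obj (op T)) :
    AlgSt.fibSec π x = m ↔ π.obj x.1 = ⟨T, m⟩ := by
  rw [fibSec_eq]
  constructor
  · rintro rfl; exact secOf_spec π _ _
  · intro h; exact secOf_eq π _ h

variable {C : ObjectProperty (AlgSp.Sp S)}

theorem isCatModuliIn_iff {π : 𝒳 ⥤ᵇ AlgSt.ofSp M} : AlgSt.IsCatModuliIn C π ↔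
    C M ∧ ∀ (N : AlgSp.Sp S), C N → ∀ φ : 𝒳 ⥤ᵇ AlgSt.ofSp N,
      ∃! g : M ⟶ N, ∀ z, (BasedFunctor.comp π (AlgSt.ofSpMap g)).obj z = φ.obj z := by
  simp only [AlgSt.IsCatModuliIn, nonempty_iso_ofPsh_iff]

/-- For a locally surjective `F : 𝒴 ⥤ᵇ 𝒳`, categorical moduli spaces of `𝒳` in terms of invariant functors out of
`𝒴`. -/
theorem isCatModuliIn_iff_of_locSurj (h𝒳 : FibCat.IsFibGrpd 𝒳.p) (h𝒴 : FibCat.IsFibGrpd 𝒴.p)
    {F : 𝒴 ⥤ᵇ 𝒳} (hF : LocSurj (AlgSp.J S) F) {π : 𝒳 ⥤ᵇ AlgSt.ofSp M} {p : 𝒴 ⥤ᵇ AlgSt.ofSp M}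
    (hp : ∀ y, π.obj (F.obj y) = p.obj y) : AlgSt.IsCatModuliIn C π ↔
    C M ∧ ∀ (N : AlgSp.Sp S), C N → ∀ a : 𝒴 ⥤ᵇ AlgSt.ofSp N,
      (∀ (y y' : 𝒴.obj) (φ : F.obj y ⟶ F.obj y'), IsVert 𝒳 φ → a.obj y = a.obj y') →
      ∃! g : M ⟶ N, ∀ y, (BasedFunctor.comp p (AlgSt.ofSpMap g)).obj y = a.obj y := by
  have hpg : ∀ {N : AlgSp.Sp S} (g : M ⟶ N) (y : 𝒴.obj),
      (BasedFunctor.comp π (AlgSt.ofSpMap g)).obj (F.obj y) = (BasedFunctor.comp p (AlgSt.ofSpMap g)).obj y :=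
    fun g y => congrArg (AlgSt.ofSpMap g).obj (hp y)
  rw [isCatModuliIn_iff]
  refine and_congr_right fun _ => forall_congr' fun N => imp_congr_right fun _ => ?_
  constructor
  · intro h a ha
    obtain ⟨Φ, hΦ⟩ := exists_desc h𝒳 h𝒴 hF (isSheaf_obj N) ha
    obtain ⟨g, hg, hu⟩ := h Φ
    refine ⟨g, fun y => (hpg g y).symm.trans ((hg _).trans (hΦ y)), fun g' hg' => hu g' ?_⟩
    exact eq_of_locSurj hF (isSheaf_obj N) fun y => (hpg g' y).trans ((hg' y).trans (hΦ y).symm)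
  · intro h φ
    have ha : ∀ (y y' : 𝒴.obj) (m : F.obj y ⟶ F.obj y'), IsVert 𝒳 m →
        (BasedFunctor.comp F φ).obj y = (BasedFunctor.comp F φ).obj y' :=
      fun y y' m hm => eq_of_vert (hm.map φ)
    obtain ⟨g, hg, hu⟩ := h (BasedFunctor.comp F φ) ha
    refine ⟨g, eq_of_locSurj hF (isSheaf_obj N) fun y => (hpg g y).trans (hg y), fun g' hg' => hu g' ?_⟩
    exact fun y => (hpg g' y).symm.trans (hg' _)

end Moduli

end K746
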