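import Groth.Agent.AlgSt.K746.ChartRep

/-!
# Existence of the groupoid of a chart
-/

set_option autoImplicit false
set_option backward.isDefEq.respectTransparency false
set_option backward.isDefEq.respectTransparency.types false

universe w v u₃ v₃ u

open CategoryTheory CategoryTheory.Limits AlgebraicGeometry Opposite

open K734.Fib

namespace K746

section

variable {C : Type u} [Category.{v} C] {𝒳 : BasedCategory.{v₃, u₃} C} {U V : C}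

/-- The object `(u, v, φ)` of `(Sch/U) ×_𝒳 (Sch/V)`. -/
noncomputable def mkO (h𝒳 : FibCat.IsFibGrpd 𝒳.p) (x : FibCat.overCat U ⥤ᵇ 𝒳) (y : FibCat.overCat V ⥤ᵇ 𝒳) {T : C}
    (u : T ⟶ U) (v : T ⟶ V) (φ : Xo x u ⟶ Xo y v) (hφ : IsVert 𝒳 φ) : (FibCat.fp x y).obj :=
  mkObj (F := x) (G := y) (Over.mk u : (FibCat.overCat U).obj) (Over.mk v : (FibCat.overCat V).obj)
    (@asIso _ _ _ _ φ (isIso_of_vert h𝒳 hφ)) hφ

variable (h𝒳 : FibCat.IsFibGrpd 𝒳.p) {x : FibCat.overCat U ⥤ᵇ 𝒳} {y : FibCat.overCat V ⥤ᵇ 𝒳}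

theorem mkO_base {T : C} (u : T ⟶ U) (v : T ⟶ V) (φ : Xo x u ⟶ Xo y v) (hφ : IsVert 𝒳 φ) :
    (FibCat.fp x y).p.obj (mkO h𝒳 x y u v φ hφ) = T := rfl

theorem exists_mkO (z : (FibCat.fp x y).obj) : ∃ (u : (FibCat.fp x y).p.obj z ⟶ U)
    (v : (FibCat.fp x y).p.obj z ⟶ V) (φ : Xo x u ⟶ Xo y v)
    (hφ : IsVert 𝒳 φ) (e : z ⟶ mkO h𝒳 x y u v φ hφ), (FibCat.fp x y).p.map e = 𝟙 _ := by
  obtain ⟨⟨a, b, i⟩, hi⟩ := z
  have hv : IsVert 𝒳 i.hom := IsVert.of_lift hi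
  have hab : a.left = b.left := by
    have h1 := hv.obj_eq
    exact (x.w_obj a).symm.trans (h1.trans (y.w_obj b))
  let v : a.left ⟶ V := eqToHom hab ≫ b.hom
  let β : b ≅ Over.mk v := Over.isoMk (eqToIso hab.symm) (by simp [v])
  have hβ : IsVert (FibCat.overCat V) β.hom := by
    refine isVert_iff.2 ⟨hab.symm, ?_⟩
    change β.hom.left = _
    simp [β]
  refine ⟨a.hom, v, i.hom ≫ y.map β.hom, hv.comp (hβ.map y),
    mkHomFp (F := x) (G := y) (𝟙 (Over.mk a.hom) : a ⟶ Over.mk a.hom) β.hom ?_, ?_⟩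
  · have h1 : x.map (𝟙 (Over.mk a.hom) : a ⟶ Over.mk a.hom) = 𝟙 (x.obj a) := x.map_id a
    refine (congrArg (· ≫ (i.hom ≫ y.map β.hom)) h1).trans (Category.id_comp _)
  · rfl

end

section Ex

variable {S : Scheme.{u}} {𝒳 : BasedCategory.{v₃, u₃} (Over S)} {U V R : Over S}
  (h𝒳 : FibCat.IsFibGrpd 𝒳.p) {x : FibCat.overCat U ⥤ᵇ 𝒳} {y : FibCat.overCat V ⥤ᵇ 𝒳}
  {π : (AlgSp.yon S).obj R ⟶ (AlgSp.yon S).obj U}

/-- the point of `R` -/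
noncomputable def ptOf (SR : K738.SecRep (FibCat.fpFst x y) ((AlgSp.yon S).obj R) π) {T : Over S} (u : T ⟶ U)
    (v : T ⟶ V) (φ : Xo x u ⟶ Xo y v) (hφ : IsVert 𝒳 φ) : T ⟶ R :=
  (SR.sec (mkO h𝒳 x y u v φ hφ)).down

theorem lift_mkO {T T' : Over S} (r : T' ⟶ T) {u : T ⟶ U} {v : T ⟶ V} {φ : Xo x u ⟶ Xo y v} {hφ : IsVert 𝒳 φ}
    {u' : T' ⟶ U} {v' : T' ⟶ V} {φ' : Xo x u' ⟶ Xo y v'} {hφ' : IsVert 𝒳 φ'} (hu : r ≫ u = u') (hv : r ≫ v = v')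
    (h : φ' ≫ rs y r hv = rs x r hu ≫ φ) :
    ∃ m : mkO h𝒳 x y u' v' φ' hφ' ⟶ mkO h𝒳 x y u v φ hφ, (FibCat.fp x y).p.map m = r :=
  ⟨mkHomFp (F := x) (G := y) (Over.homMk r hu) (Over.homMk r hv) h.symm, rfl⟩

theorem of_lift_mkO {T T' : Over S} {r : T' ⟶ T} {u : T ⟶ U} {v : T ⟶ V} {φ : Xo x u ⟶ Xo y v} {hφ : IsVert 𝒳 φ}
    {u' : T' ⟶ U} {v' : T' ⟶ V} {φ' : Xo x u' ⟶ Xo y v'} {hφ' : IsVert 𝒳 φ'}
    (m : mkO h𝒳 x y u' v' φ' hφ' ⟶ mkO h𝒳 x y u v φ hφ) (hm : (FibCat.fp x y).p.map m = r) :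
    ∃ (hu : r ≫ u = u') (hv : r ≫ v = v'), φ' ≫ rs y r hv = rs x r hu ≫ φ := by
  have h1 : (show (Over.mk u' : Over U) ⟶ Over.mk u from m.hom.fst).left = r := hm
  have h2 : (show (Over.mk v' : Over V) ⟶ Over.mk v from m.hom.snd).left = r := by
    have h3 := FibCat.fp_isHomLift_snd (F := x) (G := y) m
    have h4 := IsHomLift.fac' (FibCat.overCat V).p ((FibCat.fp x y).p.map m) m.hom.snd
    refine Eq.trans h4 ?_
    exact ((Category.id_comp _).trans (Category.comp_id _)).trans hm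
  have hu : r ≫ u = u' := by
    rw [← h1]; exact Over.w (show (Over.mk u' : Over U) ⟶ Over.mk u from m.hom.fst)
  have hv : r ≫ v = v' := by
    rw [← h2]; exact Over.w (show (Over.mk v' : Over V) ⟶ Over.mk v from m.hom.snd)
  refine ⟨hu, hv, ?_⟩
  have h5 : (show (Over.mk u' : Over U) ⟶ Over.mk u from m.hom.fst) = Over.homMk r hu :=
    Over.OverMorphism.ext h1
  have h6 : (show (Over.mk v' : Over V) ⟶ Over.mk v from m.hom.snd) = Over.homMk r hv :=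
    Over.OverMorphism.ext h2
  have h7 := homFp_w m
  refine Eq.trans ?_ (h7.symm.trans ?_)
  · exact congrArg (fun t => φ' ≫ y.map t) h6.symm
  · exact congrArg (fun t => x.map t ≫ φ) h5

theorem comp_ptOf (SR : K738.SecRep (FibCat.fpFst x y) ((AlgSp.yon S).obj R) π) {T T' : Over S} (r : T' ⟶ T)
    {u : T ⟶ U} {v : T ⟶ V} {φ : Xo x u ⟶ Xo y v} {hφ : IsVert 𝒳 φ} {u' : T' ⟶ U} {v' : T' ⟶ V}
    {φ' : Xo x u' ⟶ Xo y v'} {hφ' : IsVert 𝒳 φ'} (m : mkO h𝒳 x y u' v' φ' hφ' ⟶ mkO h𝒳 x y u v φ hφ)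
    (hm : (FibCat.fp x y).p.map m = r) :
    r ≫ ptOf h𝒳 SR u v φ hφ = ptOf h𝒳 SR u' v' φ' hφ' := by
  have h1 := SR.map m
  rw [hm] at h1
  exact congrArg ULift.down h1

theorem exists_univ_aux (SR : K738.SecRep (FibCat.fpFst x y) ((AlgSp.yon S).obj R) π) {B : Over S} (h : R = B)
    (u : B ⟶ U) (v : B ⟶ V) (φ : Xo x u ⟶ Xo y v) (hφ : IsVert 𝒳 φ)
    (h1 : eqToHom h ≫ ptOf h𝒳 SR u v φ hφ = 𝟙 R) :
    ∃ (s : R ⟶ U) (t : R ⟶ V) (θ : Xo x s ⟶ Xo y t) (hθ : IsVert 𝒳 θ), ptOf h𝒳 SR s t θ hθ = 𝟙 R := by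
  subst h
  exact ⟨u, v, φ, hφ, by simpa using h1⟩

theorem exists_univ (SR : K738.SecRep (FibCat.fpFst x y) ((AlgSp.yon S).obj R) π) :
    ∃ (s : R ⟶ U) (t : R ⟶ V) (θ : Xo x s ⟶ Xo y t) (hθ : IsVert 𝒳 θ), ptOf h𝒳 SR s t θ hθ = 𝟙 R := by
  obtain ⟨z, h, hz⟩ := SR.surj (T := R) ⟨𝟙 R⟩
  obtain ⟨u, v, φ, hφ, e, he⟩ := exists_mkO h𝒳 z
  refine exists_univ_aux h𝒳 SR h u v φ hφ ?_
  have h1 := SR.map e
  rw [he] at h1
  have h2 : 𝟙 _ ≫ ptOf h𝒳 SR u v φ hφ = (SR.sec z).down := congrArg ULift.down h1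
  have h3 : eqToHom h ≫ (SR.sec z).down = 𝟙 R := congrArg ULift.down hz
  rw [← h3, ← h2]
  exact congrArg (eqToHom h ≫ ·) (Category.id_comp _).symm

include h𝒳 in
theorem exists_pairRep (SR : K738.SecRep (FibCat.fpFst x y) ((AlgSp.yon S).obj R) π) :
    ∃ G : PairRep x y R, π = (AlgSp.yon S).map G.s := by
  obtain ⟨s, t, θ, hθ, h1⟩ := exists_univ h𝒳 SR
  refine ⟨⟨s, t, θ, hθ, ?_⟩, ?_⟩
  · intro T u v φ hφ
    obtain ⟨m, hm⟩ := SR.full (z := mkO h𝒳 x y u v φ hφ) (z' := mkO h𝒳 x y s t θ hθ) (ptOf h𝒳 SR u v φ hφ) (by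
      apply ULift.ext
      change ptOf h𝒳 SR u v φ hφ ≫ ptOf h𝒳 SR s t θ hθ = _
      rw [h1]; exact Category.comp_id _)
    refine ⟨ptOf h𝒳 SR u v φ hφ, of_lift_mkO h𝒳 m hm, ?_⟩
    rintro r ⟨hs, ht, hw⟩
    obtain ⟨m', hm'⟩ := lift_mkO h𝒳 r (hφ := hθ) (hφ' := hφ) hs ht hw
    have h2 := comp_ptOf h𝒳 SR r m' hm'
    rw [h1] at h2
    rw [← h2]
    exact (Category.comp_id _).symm
  · have h2 := SR.proj (mkO h𝒳 x y s t θ hθ)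
    obtain ⟨f, rfl⟩ := (AlgSp.yon S).map_surjective π
    have h3 : ptOf h𝒳 SR s t θ hθ ≫ f = K738.str (FibCat.fpFst x y) (mkO h𝒳 x y s t θ hθ) := congrArg ULift.down h2
    rw [h1] at h3
    have h4 : K738.str (FibCat.fpFst x y) (mkO h𝒳 x y s t θ hθ) = s := Category.id_comp _
    rw [h4] at h3
    have h5 : f = s := (Category.id_comp f).symm.trans h3
    exact congrArg (AlgSp.yon S).map h5

end Ex

end K746
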