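import Groth.Agent.AlgSt.K746.QuotMod
import Groth.Agent.AlgSt.K746.AlgPt
import Groth.Agent.AlgSt.K750.TorsPts
import Groth.Agent.StCoh.K998.QuotFib

/-!
# `[X/G] ⟶ Y` is bijective on geometric points when the geometric fibres of `X ⟶ Y` are the orbits
-/

set_option autoImplicit false
set_option backward.isDefEq.respectTransparency false
set_option backward.isDefEq.respectTransparency.types false

universe u

open CategoryTheory CategoryTheory.Limits MonoidalCategory CartesianMonoidalCategory MonObj GrpObj AlgebraicGeometry Opposite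
open K734.Fib K750.TorsPts

namespace K746.QuotMod

variable {S : Scheme.{u}} {G : Over S} [GrpObj G] {X : Over S} {aX : AlgGrp.Action G X}
  {Y : Over S} {f : X ⟶ Y} {π : AlgSt.QuotSt Scheme.fppfPrecoverage G aX ⥤ᵇ AlgSt.ofSch Y}

/-- the unit section of the trivial torsor -/
theorem exists_sec_q {T : Over S} (x : T ⟶ X) : ∃ s : (q G aX x).base ⟶ (q G aX x).P,
    s ≫ (q G aX x).π = 𝟙 _ ∧ s ≫ (q G aX x).φ = x := by
  refine ⟨lift (1 : T ⟶ G) (𝟙 T), lift_snd _ _, ?_⟩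
  change lift (1 : T ⟶ G) (𝟙 T) ≫ (G ◁ x) ≫ aX.act = x
  rw [lift_whiskerLeft_assoc, Category.id_comp]
  exact act_one aX x

theorem obj_eq_of_section
    (hπ : Nonempty (BasedFunctor.comp (AlgSt.quotMap Scheme.fppfPrecoverage G aX) π ≅
      AlgSt.ofSpMap ((AlgSp.yon S).map f)))
    (A : AlgSt.QuotObj Scheme.fppfPrecoverage G aX) (s : A.base ⟶ A.P) (hs : s ≫ A.π = 𝟙 _) :
    π.obj A = ⟨A.base, ⟨s ≫ A.φ ≫ f⟩⟩ := by
  obtain ⟨s₀, h0, h1⟩ := exists_sec_q (aX := aX) (s ≫ A.φ)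
  obtain ⟨h, hb, -⟩ := exists_hom_of_section (A := q G aX (s ≫ A.φ)) (B := A) (𝟙 _) s₀ h0 s hs h1.symm
  have hv : IsVert (AlgSt.QuotSt Scheme.fppfPrecoverage G aX) h := isVert_iff.2 ⟨rfl, hb⟩
  have e := eq_of_vert (hv.map π)
  rw [← e]
  refine ((nonempty_iso_ofPsh_iff.1 hπ) ⟨A.base, ⟨s ≫ A.φ⟩⟩).trans ?_
  change (⟨A.base, ⟨(s ≫ A.φ) ≫ f⟩⟩ : (AlgSt.ofSch Y).obj) = _
  rw [Category.assoc]

theorem exists_section_of_base {Ω : Type u} [Field Ω] [IsAlgClosed Ω] (t : Spec (CommRingCat.of Ω) ⟶ S)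
    (A : AlgSt.QuotObj Scheme.fppfPrecoverage G aX) (hA : A.base = Over.mk t) :
    ∃ s : A.base ⟶ A.P, s ≫ A.π = 𝟙 _ := by
  have key : ∀ (B : Over S) (_ : B = Over.mk t) (R : Sieve B) (_ : R ∈ AlgSp.J S B), R (𝟙 B) := by
    rintro _ rfl R hR
    exact AlgPt.mem_of_mem_J t hR
  obtain ⟨Z, g, h, hh, e⟩ := key A.base hA _ (K745.QuotDesc.mem_J_of_locallyTrivial A.π A.loc)
  obtain ⟨⟩ := hh
  exact ⟨g, e⟩

theorem geomPtBij
    (horb : ∀ (Ω : Type u) [Field Ω] [IsAlgClosed Ω] (t : Spec (CommRingCat.of Ω) ⟶ S),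
      (∀ y : Over.mk t ⟶ Y, ∃ x : Over.mk t ⟶ X, x ≫ f = y) ∧
      (∀ x x' : Over.mk t ⟶ X, x ≫ f = x' ≫ f → ∃ g : Over.mk t ⟶ G, lift g x' ≫ aX.act = x))
    (hπ : Nonempty (BasedFunctor.comp (AlgSt.quotMap Scheme.fppfPrecoverage G aX) π ≅
      AlgSt.ofSpMap ((AlgSp.yon S).map f))) : AlgSt.GeomPtBij π := by
  intro Ω _ _ t
  refine ⟨?_, ?_⟩
  · rintro ⟨y⟩
    obtain ⟨x, hx⟩ := (horb Ω t).1 y
    refine ⟨⟨q G aX x, rfl⟩, (fibSec_eq_iff _ _ _).2 ?_⟩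
    refine ((nonempty_iso_ofPsh_iff.1 hπ) ⟨Over.mk t, ⟨x⟩⟩).trans ?_
    change (⟨Over.mk t, ⟨x ≫ f⟩⟩ : (AlgSt.ofSch Y).obj) = _
    rw [hx]
  · rintro ⟨A, hA⟩ ⟨B, hB⟩ hAB
    change A.base = Over.mk t at hA
    change B.base = Over.mk t at hB
    obtain ⟨s, hs⟩ := exists_section_of_base t A hA
    obtain ⟨s', hs'⟩ := exists_section_of_base t B hB
    have e : A.base = B.base := hA.trans hB.symm
    have h1 := obj_eq_of_section hπ A s hs
    have h2 := obj_eq_of_section hπ B s' hs'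
    have h3 : π.obj A = π.obj B := by
      rw [(fibSec_eq_iff π ⟨A, hA⟩ _).1 rfl, (fibSec_eq_iff π ⟨B, hB⟩ _).1 rfl, hAB]
    have h4 : (⟨A.base, ⟨s ≫ A.φ ≫ f⟩⟩ : (AlgSt.ofSch Y).obj) = ⟨B.base, ⟨s' ≫ B.φ ≫ f⟩⟩ :=
      h1.symm.trans (h3.trans h2)
    have key : ∀ {T T' : Over S} (e : T = T') (a : T ⟶ Y) (b : T' ⟶ Y),
        (⟨T, ⟨a⟩⟩ : (AlgSt.ofSch Y).obj) = ⟨T', ⟨b⟩⟩ → a = eqToHom e ≫ b := by
      rintro T _ rfl a b h
      have := elt_inj h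
      rw [eqToHom_refl, Category.id_comp]
      exact congrArg ULift.down this
    have h5 := key e _ _ h4
    obtain ⟨g, hg⟩ := (horb Ω t).2 (eqToHom hA.symm ≫ s ≫ A.φ) (eqToHom hB.symm ≫ s' ≫ B.φ) (by
      simp only [Category.assoc]
      rw [h5, eqToHom_trans_assoc])
    let g' : A.base ⟶ G := eqToHom hA ≫ g
    have hg' : lift g' (eqToHom e ≫ s' ≫ B.φ) ≫ aX.act = s ≫ A.φ := by
      have := congrArg (fun z => eqToHom hA ≫ z) hg
      simp only [← Category.assoc, comp_lift] at this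
      simp only [Category.assoc, eqToHom_trans_assoc, eqToHom_refl, Category.id_comp] at this
      exact this
    obtain ⟨h, hb, -⟩ := exists_hom_of_section (A := A) (B := B) (eqToHom e) s hs
      (act B.act g' (eqToHom e ≫ s')) (by rw [act_comp_π B.act B.cart, Category.assoc, hs', Category.comp_id])
      (by rw [act_eqv B.act aX B.φ B.eqv, ← hg', Category.assoc]; rfl)
    have hv : IsVert (AlgSt.QuotSt Scheme.fppfPrecoverage G aX) h := isVert_iff.2 ⟨e, hb⟩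
    exact nonempty_fiberIso (K998.QuotFib.isFibGrpd_quotSt Scheme.fppfPrecoverage G aX) (x := ⟨A, hA⟩)
      (y := ⟨B, hB⟩) h hv

end K746.QuotMod
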