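import Groth.Prelude.Def_Grpd

/-!
# Groupoid schemes from groupoid structures on points over the base

`OGpd S`: objects `U`, arrows `R` over `S` with a natural composition of `T`-points (`T` over `S`);
`OGpd.toGpd : Grpd.GroupoidScheme S`.
-/

set_option autoImplicit false
universe u

open CategoryTheory CategoryTheory.Limits AlgebraicGeometry

namespace K746

/-- A groupoid in schemes over `S`, given by its points. -/
structure OGpd (S : Scheme.{u}) where
  U : Over S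
  R : Over S
  s : R ⟶ U
  t : R ⟶ U
  e : U ⟶ R
  i : R ⟶ R
  mul : ∀ {T : Over S} (α β : T ⟶ R), α ≫ s = β ≫ t → (T ⟶ R)
  comp_mul : ∀ {T T' : Over S} (f : T' ⟶ T) (α β : T ⟶ R) (h : α ≫ s = β ≫ t) (h' : (f ≫ α) ≫ s = (f ≫ β) ≫ t),
    f ≫ mul α β h = mul (f ≫ α) (f ≫ β) h'
  mul_s : ∀ {T : Over S} (α β : T ⟶ R) (h : α ≫ s = β ≫ t), mul α β h ≫ s = β ≫ s
  mul_t : ∀ {T : Over S} (α β : T ⟶ R) (h : α ≫ s = β ≫ t), mul α β h ≫ t = α ≫ t
  mul_assoc : ∀ {T : Over S} (α β γ : T ⟶ R) (h₁ : α ≫ s = β ≫ t) (h₂ : β ≫ s = γ ≫ t)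
    (h₃ : mul α β h₁ ≫ s = γ ≫ t) (h₄ : α ≫ s = mul β γ h₂ ≫ t),
    mul (mul α β h₁) γ h₃ = mul α (mul β γ h₂) h₄
  e_s : e ≫ s = 𝟙 U
  e_t : e ≫ t = 𝟙 U
  mul_e : ∀ {T : Over S} (α : T ⟶ R) (h : α ≫ s = (α ≫ s ≫ e) ≫ t), mul α (α ≫ s ≫ e) h = α
  e_mul : ∀ {T : Over S} (α : T ⟶ R) (h : (α ≫ t ≫ e) ≫ s = α ≫ t), mul (α ≫ t ≫ e) α h = α
  i_s : i ≫ s = t
  i_t : i ≫ t = s
  mul_i : ∀ {T : Over S} (α : T ⟶ R) (h : α ≫ s = (α ≫ i) ≫ t), mul α (α ≫ i) h = α ≫ t ≫ e
  i_mul : ∀ {T : Over S} (α : T ⟶ R) (h : (α ≫ i) ≫ s = α ≫ t), mul (α ≫ i) α h = α ≫ s ≫ e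

namespace OGpd

variable {S : Scheme.{u}} (O : OGpd S)

theorem mul_congr {T : Over S} {α α' β β' : T ⟶ O.R} (h : α ≫ O.s = β ≫ O.t) (hα : α = α') (hβ : β = β') :
    O.mul α β h = O.mul α' β' (by rw [← hα, ← hβ, h]) := by
  subst hα hβ; rfl

/-- the universal composite -/
noncomputable def c : pullback O.s.left O.t.left ⟶ O.R.left :=
  (O.mul (T := Over.mk (pullback.fst O.s.left O.t.left ≫ O.R.hom)) (Over.homMk (pullback.fst _ _) rfl)
    (Over.homMk (pullback.snd _ _) (by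
      change pullback.snd O.s.left O.t.left ≫ O.R.hom = pullback.fst O.s.left O.t.left ≫ O.R.hom
      rw [← Over.w O.s, pullback.condition_assoc, Over.w, Over.w]))
    (by ext; exact pullback.condition)).left

theorem over_eq {T : Scheme.{u}} (α β : T ⟶ O.R.left) (h : α ≫ O.s.left = β ≫ O.t.left) :
    β ≫ O.R.hom = α ≫ O.R.hom := by
  rw [← Over.w O.s, reassoc_of% h, Over.w, Over.w]

theorem lift_c {T : Scheme.{u}} (α β : T ⟶ O.R.left) (h : α ≫ O.s.left = β ≫ O.t.left) :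
    pullback.lift α β h ≫ O.c = (O.mul (T := Over.mk (α ≫ O.R.hom)) (Over.homMk α rfl)
      (Over.homMk β (O.over_eq α β h)) (by ext; exact h)).left := by
  let f : Over.mk (α ≫ O.R.hom) ⟶ Over.mk (pullback.fst O.s.left O.t.left ≫ O.R.hom) :=
    Over.homMk (pullback.lift α β h) (by
      change pullback.lift α β h ≫ pullback.fst _ _ ≫ O.R.hom = α ≫ O.R.hom
      rw [pullback.lift_fst_assoc])
  have h1 := O.comp_mul f (Over.homMk (pullback.fst _ _) rfl)
    (Over.homMk (pullback.snd _ _) (by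
      change pullback.snd O.s.left O.t.left ≫ O.R.hom = pullback.fst O.s.left O.t.left ≫ O.R.hom
      rw [← Over.w O.s, pullback.condition_assoc, Over.w, Over.w]))
    (by ext; exact pullback.condition) (by
      ext
      change (pullback.lift α β h ≫ pullback.fst _ _) ≫ O.s.left = (pullback.lift α β h ≫ pullback.snd _ _) ≫ O.t.left
      rw [pullback.lift_fst, pullback.lift_snd, h])
  have h2 := congrArg CommaMorphism.left h1
  refine Eq.trans h2 ?_
  refine congrArg CommaMorphism.left (O.mul_congr _ ?_ ?_)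
  · apply Over.OverMorphism.ext; exact pullback.lift_fst _ _ _
  · apply Over.OverMorphism.ext; exact pullback.lift_snd _ _ _

/-- the mul of points over a common base, in terms of `c` -/
theorem lift_c' {T : Over S} (α β : T ⟶ O.R) (h : α ≫ O.s = β ≫ O.t) :
    pullback.lift α.left β.left (congrArg CommaMorphism.left h) ≫ O.c = (O.mul α β h).left := by
  have hl : α.left ≫ O.s.left = β.left ≫ O.t.left := congrArg CommaMorphism.left h
  refine (O.lift_c α.left β.left hl).trans ?_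
  have hT : α.left ≫ O.R.hom = T.hom := Over.w α
  let f : T ⟶ Over.mk (α.left ≫ O.R.hom) := Over.homMk (𝟙 _) (by
    change 𝟙 _ ≫ α.left ≫ O.R.hom = T.hom
    rw [Category.id_comp, hT])
  have hk : (Over.homMk α.left rfl : Over.mk (α.left ≫ O.R.hom) ⟶ O.R) ≫ O.s =
      (Over.homMk β.left (O.over_eq α.left β.left hl) : Over.mk (α.left ≫ O.R.hom) ⟶ O.R) ≫ O.t := by
    apply Over.OverMorphism.ext
    exact hl
  have h1 := O.comp_mul f (Over.homMk α.left rfl)
      (Over.homMk β.left (O.over_eq α.left β.left hl)) hk (by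
        rw [Category.assoc, Category.assoc, hk])
  have h2 := congrArg CommaMorphism.left h1
  have h3 : 𝟙 _ ≫ (O.mul (T := Over.mk (α.left ≫ O.R.hom)) (Over.homMk α.left rfl)
      (Over.homMk β.left (O.over_eq α.left β.left hl)) hk).left = _ := Category.id_comp _
  refine h3.symm.trans (h2.trans ?_)
  refine congrArg CommaMorphism.left (O.mul_congr _ ?_ ?_)
  · apply Over.OverMorphism.ext; exact Category.id_comp _
  · apply Over.OverMorphism.ext; exact Category.id_comp _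

/-- The groupoid scheme. -/
noncomputable def toGpd : Grpd.GroupoidScheme S where
  U := O.U.left
  R := O.R.left
  pU := O.U.hom
  pR := O.R.hom
  s := O.s.left
  t := O.t.left
  e := O.e.left
  i := O.i.left
  c := O.c
  s_over := Over.w O.s
  t_over := Over.w O.t
  comp_s α β h := by
    rw [lift_c, ← Over.comp_left, O.mul_s]; rfl
  comp_t α β h := by
    rw [lift_c, ← Over.comp_left, O.mul_t]; rfl
  assoc {T} α β γ h₁ h₂ := by
    let T' : Over S := Over.mk (α ≫ O.R.hom)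
    let α' : T' ⟶ O.R := Over.homMk α rfl
    let β' : T' ⟶ O.R := Over.homMk β (O.over_eq α β h₁)
    let γ' : T' ⟶ O.R := Over.homMk γ ((O.over_eq β γ h₂).trans (O.over_eq α β h₁))
    have h₁' : α' ≫ O.s = β' ≫ O.t := by ext; exact h₁
    have h₂' : β' ≫ O.s = γ' ≫ O.t := by ext; exact h₂
    have h₃' : O.mul α' β' h₁' ≫ O.s = γ' ≫ O.t := by rw [O.mul_s, h₂']
    have h₄' : α' ≫ O.s = O.mul β' γ' h₂' ≫ O.t := by rw [O.mul_t, h₁']
    have e1 := O.lift_c' α' β' h₁'
    have e2 := O.lift_c' β' γ' h₂'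
    have e3 := O.lift_c' (O.mul α' β' h₁') γ' h₃'
    have e4 := O.lift_c' α' (O.mul β' γ' h₂') h₄'
    have e5 := congrArg CommaMorphism.left (O.mul_assoc α' β' γ' h₁' h₂' h₃' h₄')
    refine Eq.trans ?_ (e3.trans (e5.trans (e4.symm.trans ?_)))
    · congr 1
      apply pullback.hom_ext
      · rw [pullback.lift_fst, pullback.lift_fst]; exact e1
      · rw [pullback.lift_snd, pullback.lift_snd]; rfl
    · congr 1
      apply pullback.hom_ext
      · rw [pullback.lift_fst, pullback.lift_fst]; rfl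
      · rw [pullback.lift_snd, pullback.lift_snd]; exact e2.symm
  e_s := congrArg CommaMorphism.left O.e_s
  e_t := congrArg CommaMorphism.left O.e_t
  comp_e {T} α := by
    have h : (Over.homMk α rfl : Over.mk (α ≫ O.R.hom) ⟶ O.R) ≫ O.s = (Over.homMk α rfl ≫ O.s ≫ O.e) ≫ O.t := by
      rw [Category.assoc, Category.assoc, O.e_t, Category.comp_id]
    have e1 := O.lift_c' (Over.homMk α rfl : Over.mk (α ≫ O.R.hom) ⟶ O.R) (Over.homMk α rfl ≫ O.s ≫ O.e) h
    rw [O.mul_e] at e1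
    exact e1
  e_comp {T} α := by
    have h : ((Over.homMk α rfl : Over.mk (α ≫ O.R.hom) ⟶ O.R) ≫ O.t ≫ O.e) ≫ O.s = Over.homMk α rfl ≫ O.t := by
      rw [Category.assoc, Category.assoc, O.e_s, Category.comp_id]
    have e1 := O.lift_c' ((Over.homMk α rfl : Over.mk (α ≫ O.R.hom) ⟶ O.R) ≫ O.t ≫ O.e) (Over.homMk α rfl) h
    rw [O.e_mul] at e1
    exact e1
  i_s := congrArg CommaMorphism.left O.i_s
  i_t := congrArg CommaMorphism.left O.i_t
  comp_i {T} α := by
    have h : (Over.homMk α rfl : Over.mk (α ≫ O.R.hom) ⟶ O.R) ≫ O.s = (Over.homMk α rfl ≫ O.i) ≫ O.t := by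
      rw [Category.assoc, O.i_t]
    have e1 := O.lift_c' (Over.homMk α rfl : Over.mk (α ≫ O.R.hom) ⟶ O.R) (Over.homMk α rfl ≫ O.i) h
    rw [O.mul_i] at e1
    exact e1
  i_comp {T} α := by
    have h : ((Over.homMk α rfl : Over.mk (α ≫ O.R.hom) ⟶ O.R) ≫ O.i) ≫ O.s = Over.homMk α rfl ≫ O.t := by
      rw [Category.assoc, O.i_s]
    have e1 := O.lift_c' ((Over.homMk α rfl : Over.mk (α ≫ O.R.hom) ⟶ O.R) ≫ O.i) (Over.homMk α rfl) h
    rw [O.i_mul] at e1
    exact e1

end OGpd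

end K746
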