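import Groth.Agent.AlgSt.K746.OGpd
import Groth.Agent.AlgSt.K734.Grpd
import Groth.Agent.AlgSt.K734.FibFp
import Groth.Agent.AlgSt.K738.SecRep

/-!
# The groupoid of a chart

`x : (Sch/U) ⟶ 𝒳`.  `ChartRep x R`: the object `R` represents `U ×_𝒳 U`, by a universal arrow
`θ : x(s) ⟶ x(t)`.  `ChartRep.toOGpd` the resulting groupoid structure.
-/

set_option autoImplicit false
set_option backward.isDefEq.respectTransparency false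
set_option backward.isDefEq.respectTransparency.types false

universe w v u₃ v₃ u

open CategoryTheory CategoryTheory.Limits AlgebraicGeometry Opposite

open K734.Fib

namespace K746

section

variable {C : Type u} [Category.{v} C] {𝒳 : BasedCategory.{v₃, u₃} C} {U : C}

/-- The value of `x` at `u : T ⟶ U`. -/
abbrev Xo (x : FibCat.overCat U ⥤ᵇ 𝒳) {T : C} (u : T ⟶ U) : 𝒳.obj := x.obj (Over.mk u)

/-- The restriction morphisms. -/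
abbrev rs (x : FibCat.overCat U ⥤ᵇ 𝒳) {T T' : C} (f : T' ⟶ T) {u : T ⟶ U} {u' : T' ⟶ U} (h : f ≫ u = u') :
    Xo x u' ⟶ Xo x u := x.map (Over.homMk f h)

instance rs_lift (x : FibCat.overCat U ⥤ᵇ 𝒳) {T T' : C} (f : T' ⟶ T) {u : T ⟶ U} {u' : T' ⟶ U} (h : f ≫ u = u') :
    𝒳.p.IsHomLift f (rs x f h) := by
  have : (FibCat.overCat U).p.IsHomLift f (Over.homMk f h : Over.mk u' ⟶ Over.mk u) :=
    inferInstanceAs ((FibCat.overCat U).p.IsHomLift ((FibCat.overCat U).p.map (Over.homMk f h : Over.mk u' ⟶ Over.mk u)) _)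
  exact BasedFunctor.preserves_isHomLift x f _

theorem Xo_base (x : FibCat.overCat U ⥤ᵇ 𝒳) {T : C} (u : T ⟶ U) : 𝒳.p.obj (Xo x u) = T := x.w_obj (Over.mk u)

theorem rs_comp (x : FibCat.overCat U ⥤ᵇ 𝒳) {T T' T'' : C} (f : T' ⟶ T) (g : T'' ⟶ T') {u : T ⟶ U} {u' : T' ⟶ U}
    {u'' : T'' ⟶ U} (h : f ≫ u = u') (h' : g ≫ u' = u'') (h'' : (g ≫ f) ≫ u = u'') :
    rs x g h' ≫ rs x f h = rs x (g ≫ f) h'' := by
  rw [← x.map_comp]; rfl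

theorem rs_id (x : FibCat.overCat U ⥤ᵇ 𝒳) {T : C} (u : T ⟶ U) (h : 𝟙 T ≫ u = u) : rs x (𝟙 T) h = 𝟙 _ := by
  rw [← x.map_id]; rfl

theorem rs_vert (x : FibCat.overCat U ⥤ᵇ 𝒳) {T : C} {u u' : T ⟶ U} (h : 𝟙 T ≫ u = u') : IsVert 𝒳 (rs x (𝟙 T) h) :=
  IsVert.of_lift (rs_lift x _ h)

/-- `R` represents `U ×_𝒳 V`. -/
structure PairRep {V : C} (x : FibCat.overCat U ⥤ᵇ 𝒳) (y : FibCat.overCat V ⥤ᵇ 𝒳) (R : C) where
  s : R ⟶ U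
  t : R ⟶ V
  θ : Xo x s ⟶ Xo y t
  vert : IsVert 𝒳 θ
  exu : ∀ {T : C} (u : T ⟶ U) (v : T ⟶ V) (φ : Xo x u ⟶ Xo y v), IsVert 𝒳 φ →
    ∃! r : T ⟶ R, ∃ (hs : r ≫ s = u) (ht : r ≫ t = v), φ ≫ rs y r ht = rs x r hs ≫ θ

/-- `R` represents `U ×_𝒳 U`. -/
abbrev ChartRep (x : FibCat.overCat U ⥤ᵇ 𝒳) (R : C) := PairRep x x R

namespace PairRep

variable {V : C} {x : FibCat.overCat U ⥤ᵇ 𝒳} {y : FibCat.overCat V ⥤ᵇ 𝒳} {R : C} (G : PairRep x y R)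

/-- the point `r` of `R` corresponds to `φ`. -/
def IsArr {T : C} (r : T ⟶ R) {u : T ⟶ U} {v : T ⟶ V} (φ : Xo x u ⟶ Xo y v) : Prop :=
  ∃ (hs : r ≫ G.s = u) (ht : r ≫ G.t = v), IsVert 𝒳 φ ∧ φ ≫ rs y r ht = rs x r hs ≫ G.θ

variable {G}

theorem IsArr.hs {T : C} {r : T ⟶ R} {u : T ⟶ U} {v : T ⟶ V} {φ : Xo x u ⟶ Xo y v} (h : G.IsArr r φ) :
    r ≫ G.s = u := h.1
theorem IsArr.ht {T : C} {r : T ⟶ R} {u : T ⟶ U} {v : T ⟶ V} {φ : Xo x u ⟶ Xo y v} (h : G.IsArr r φ) :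
    r ≫ G.t = v := h.2.1
theorem IsArr.vert {T : C} {r : T ⟶ R} {u : T ⟶ U} {v : T ⟶ V} {φ : Xo x u ⟶ Xo y v} (h : G.IsArr r φ) :
    IsVert 𝒳 φ := h.2.2.1
theorem IsArr.w {T : C} {r : T ⟶ R} {u : T ⟶ U} {v : T ⟶ V} {φ : Xo x u ⟶ Xo y v} (h : G.IsArr r φ) :
    φ ≫ rs y r h.ht = rs x r h.hs ≫ G.θ := h.2.2.2

theorem IsArr.pt_unique {T : C} {r r' : T ⟶ R} {u : T ⟶ U} {v : T ⟶ V} {φ : Xo x u ⟶ Xo y v} (h : G.IsArr r φ)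
    (h' : G.IsArr r' φ) : r = r' :=
  (G.exu u v φ h.vert).unique ⟨h.hs, h.ht, h.w⟩ ⟨h'.hs, h'.ht, h'.w⟩

variable (G) in
theorem exists_pt {T : C} {u : T ⟶ U} {v : T ⟶ V} (φ : Xo x u ⟶ Xo y v) (h : IsVert 𝒳 φ) :
    ∃ r : T ⟶ R, G.IsArr r φ := by
  obtain ⟨r, ⟨hs, ht, hw⟩, -⟩ := G.exu u v φ h
  exact ⟨r, hs, ht, h, hw⟩

theorem isArr_θ : G.IsArr (𝟙 R) G.θ :=
  ⟨Category.id_comp _, Category.id_comp _, G.vert, by rw [rs_id, rs_id, Category.comp_id, Category.id_comp]⟩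

theorem IsArr.restrict {T T' : C} {r : T ⟶ R} {u : T ⟶ U} {v : T ⟶ V} {φ : Xo x u ⟶ Xo y v} (h : G.IsArr r φ)
    (f : T' ⟶ T) {u' : T' ⟶ U} {v' : T' ⟶ V} {φ' : Xo x u' ⟶ Xo y v'} (hu : f ≫ u = u') (hv : f ≫ v = v')
    (hφ' : IsVert 𝒳 φ') (h' : φ' ≫ rs y f hv = rs x f hu ≫ φ) : G.IsArr (f ≫ r) φ' := by
  refine ⟨by rw [Category.assoc, h.hs, hu], by rw [Category.assoc, h.ht, hv], hφ', ?_⟩
  rw [← rs_comp y r f h.ht hv, ← rs_comp x r f h.hs hu, reassoc_of% h', h.w, Category.assoc]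

variable (h𝒳 : FibCat.IsFibGrpd 𝒳.p)
include h𝒳

theorem IsArr.arr_unique {T : C} {r : T ⟶ R} {u : T ⟶ U} {v : T ⟶ V} {φ φ' : Xo x u ⟶ Xo y v} (h : G.IsArr r φ)
    (h' : G.IsArr r φ') : φ = φ' := by
  have h1 : 𝒳.p.IsHomLift (𝟙 T) φ := h.vert.lift (Xo_base x u)
  have h2 : 𝒳.p.IsHomLift (𝟙 T) φ' := h'.vert.lift (Xo_base x u)
  exact fac_unique' h𝒳 (rs y r h.ht) h1 h2 (h.w.trans h'.w.symm)

variable (G) in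
theorem exists_arr {T : C} (r : T ⟶ R) {u : T ⟶ U} {v : T ⟶ V} (hs : r ≫ G.s = u) (ht : r ≫ G.t = v) :
    ∃ φ : Xo x u ⟶ Xo y v, G.IsArr r φ := by
  have h1 : 𝒳.p.IsHomLift (𝟙 R) G.θ := G.vert.lift (Xo_base x G.s)
  have h2 : 𝒳.p.IsHomLift (𝟙 T ≫ r) (rs x r hs ≫ G.θ) := by
    rw [Category.id_comp]
    have := IsHomLift.comp 𝒳.p r (𝟙 R) (rs x r hs) G.θ
    rwa [Category.comp_id] at this
  obtain ⟨φ, h3, h4⟩ := exists_fac' h𝒳 (rs_lift y r ht) h2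
  exact ⟨φ, hs, ht, IsVert.of_lift h3, h4⟩

theorem IsArr.res_w {T T' : C} {r : T ⟶ R} {u : T ⟶ U} {v : T ⟶ V} {φ : Xo x u ⟶ Xo y v} (h : G.IsArr r φ)
    (f : T' ⟶ T) {u' : T' ⟶ U} {v' : T' ⟶ V} {φ' : Xo x u' ⟶ Xo y v'} (hu : f ≫ u = u') (hv : f ≫ v = v')
    (h' : G.IsArr (f ≫ r) φ') : φ' ≫ rs y f hv = rs x f hu ≫ φ := by
  have h1 : 𝒳.p.IsHomLift f (φ' ≫ rs y f hv) := by
    have := h'.vert.lift (Xo_base x u')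
    have := IsHomLift.comp 𝒳.p (𝟙 T') f φ' (rs y f hv)
    rwa [Category.id_comp] at this
  have h2 : 𝒳.p.IsHomLift f (rs x f hu ≫ φ) := by
    have := h.vert.lift (Xo_base x u)
    have := IsHomLift.comp 𝒳.p f (𝟙 T) (rs x f hu) φ
    rwa [Category.comp_id] at this
  refine fac_unique' h𝒳 (rs y r h.ht) h1 h2 ?_
  rw [Category.assoc, Category.assoc, h.w, rs_comp y r f h.ht hv h'.ht, h'.w, ← rs_comp x r f h.hs hu,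
    Category.assoc]

end PairRep

export PairRep (isArr_θ)

namespace ChartRep

open PairRep

variable {x : FibCat.overCat U ⥤ᵇ 𝒳} {R : C} {G : ChartRep x R}
variable (h𝒳 : FibCat.IsFibGrpd 𝒳.p)

include h𝒳 in
/-- The product of two points. -/
theorem exists_mul {T : C} (α β : T ⟶ R) (h : α ≫ G.s = β ≫ G.t) :
    ∃ γ : T ⟶ R, ∀ {u v w : T ⟶ U} (φ : Xo x u ⟶ Xo x v) (ψ : Xo x v ⟶ Xo x w), G.IsArr β φ → G.IsArr α ψ →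
      G.IsArr γ (φ ≫ ψ) := by
  obtain ⟨φ₀, h₀⟩ := G.exists_arr h𝒳 β rfl rfl
  obtain ⟨ψ₀, h₁⟩ := G.exists_arr h𝒳 α h rfl
  obtain ⟨γ, hγ⟩ := G.exists_pt (φ₀ ≫ ψ₀) (h₀.vert.comp h₁.vert)
  refine ⟨γ, ?_⟩
  intro u v w φ ψ hφ hψ
  obtain rfl := hφ.hs
  obtain rfl := hφ.ht
  obtain rfl := hψ.ht
  rw [hφ.arr_unique h𝒳 h₀, hψ.arr_unique h𝒳 h₁]
  exact hγ

variable (G) in
/-- multiplication -/
noncomputable def mul {T : C} (α β : T ⟶ R) (h : α ≫ G.s = β ≫ G.t) : T ⟶ R := (exists_mul h𝒳 α β h).choose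

theorem isArr_mul {T : C} {α β : T ⟶ R} {u v w : T ⟶ U} {φ : Xo x u ⟶ Xo x v} {ψ : Xo x v ⟶ Xo x w}
    (hφ : G.IsArr β φ) (hψ : G.IsArr α ψ) (h : α ≫ G.s = β ≫ G.t) :
    G.IsArr (G.mul h𝒳 α β h) (φ ≫ ψ) := (exists_mul h𝒳 α β h).choose_spec φ ψ hφ hψ

variable (G) in
/-- unit -/
noncomputable def e : U ⟶ R := (PairRep.exists_pt G (𝟙 (Xo x (𝟙 U))) (IsVert.id _)).choose

theorem isArr_e : G.IsArr G.e (𝟙 (Xo x (𝟙 U))) := (PairRep.exists_pt G (𝟙 (Xo x (𝟙 U))) (IsVert.id _)).choose_spec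

theorem isArr_comp_e {T : C} (u : T ⟶ U) : G.IsArr (u ≫ G.e) (𝟙 (Xo x u)) :=
  IsArr.restrict isArr_e u (Category.comp_id _) (Category.comp_id _) (IsVert.id _) (by
    rw [Category.id_comp, Category.comp_id])

include h𝒳 in
theorem exists_inv : ∃ ρ : R ⟶ R, ∃ ψ : Xo x G.t ⟶ Xo x G.s, G.IsArr ρ ψ ∧ G.θ ≫ ψ = 𝟙 _ ∧ ψ ≫ G.θ = 𝟙 _ := by
  have := isIso_of_vert h𝒳 G.vert
  obtain ⟨ρ, hρ⟩ := G.exists_pt (CategoryTheory.inv G.θ) (IsVert.isIso_inv G.vert)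
  exact ⟨ρ, _, hρ, by simp, by simp⟩

variable (G) in
/-- inverse -/
noncomputable def i : R ⟶ R := (exists_inv (G := G) h𝒳).choose

theorem isArr_i : ∃ ψ : Xo x G.t ⟶ Xo x G.s, G.IsArr (G.i h𝒳) ψ ∧ G.θ ≫ ψ = 𝟙 _ ∧ ψ ≫ G.θ = 𝟙 _ :=
  (exists_inv (G := G) h𝒳).choose_spec

theorem isArr_comp_i {T : C} {α : T ⟶ R} {u v : T ⟶ U} {φ : Xo x u ⟶ Xo x v} (hφ : G.IsArr α φ) :
    ∃ ψ : Xo x v ⟶ Xo x u, G.IsArr (α ≫ G.i h𝒳) ψ ∧ φ ≫ ψ = 𝟙 _ ∧ ψ ≫ φ = 𝟙 _ := by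
  obtain ⟨ψ₀, h0, h1, h2⟩ := isArr_i (G := G) h𝒳
  have := isIso_of_vert h𝒳 hφ.vert
  refine ⟨CategoryTheory.inv φ, ?_, by simp, by simp⟩
  refine IsArr.restrict h0 α hφ.ht hφ.hs (IsVert.isIso_inv hφ.vert) ?_
  rw [IsIso.inv_comp_eq, reassoc_of% hφ.w, h1, Category.comp_id]

variable (G) in
/-- Uniqueness principle: points with the same arrow are equal. -/
theorem mul_eq {T : C} {α β γ : T ⟶ R} (h : α ≫ G.s = β ≫ G.t) {u v w : T ⟶ U} {φ : Xo x u ⟶ Xo x v}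
    {ψ : Xo x v ⟶ Xo x w} (hφ : G.IsArr β φ) (hψ : G.IsArr α ψ) (hγ : G.IsArr γ (φ ≫ ψ)) :
    G.mul h𝒳 α β h = γ :=
  (isArr_mul h𝒳 hφ hψ h).pt_unique hγ

end ChartRep

end

namespace ChartRep

open PairRep

variable {S : Scheme.{u}} {𝒳 : BasedCategory.{v₃, u₃} (Over S)} {U R : Over S}
  {x : FibCat.overCat U ⥤ᵇ 𝒳} (G : ChartRep x R) (h𝒳 : FibCat.IsFibGrpd 𝒳.p)

/-- The groupoid of a chart. -/
noncomputable def toOGpd : OGpd S where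
  U := U
  R := R
  s := G.s
  t := G.t
  e := G.e
  i := G.i h𝒳
  mul α β h := G.mul h𝒳 α β h
  comp_mul {T T'} f α β h h' := by
    obtain ⟨φ, hφ⟩ := G.exists_arr h𝒳 β rfl rfl
    obtain ⟨ψ, hψ⟩ := G.exists_arr h𝒳 α h rfl
    obtain ⟨φ', hφ'⟩ := G.exists_arr h𝒳 (f ≫ β) (u := f ≫ β ≫ G.s) (v := f ≫ β ≫ G.t) (by simp) (by simp)
    obtain ⟨ψ', hψ'⟩ := G.exists_arr h𝒳 (f ≫ α) (u := f ≫ β ≫ G.t) (v := f ≫ α ≫ G.t)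
      (by rw [Category.assoc, h]) (by simp)
    have h1 := hφ.res_w h𝒳 f rfl rfl hφ'
    have h2 := hψ.res_w h𝒳 f rfl rfl hψ'
    refine (IsArr.restrict (isArr_mul h𝒳 hφ hψ h) f rfl rfl (hφ'.vert.comp hψ'.vert) ?_).pt_unique
      (isArr_mul h𝒳 hφ' hψ' h')
    rw [Category.assoc, h2, reassoc_of% h1]
  mul_s α β h := by
    obtain ⟨φ, hφ⟩ := G.exists_arr h𝒳 β rfl rfl
    obtain ⟨ψ, hψ⟩ := G.exists_arr h𝒳 α h rfl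
    exact (isArr_mul h𝒳 hφ hψ h).hs
  mul_t α β h := by
    obtain ⟨φ, hφ⟩ := G.exists_arr h𝒳 β rfl rfl
    obtain ⟨ψ, hψ⟩ := G.exists_arr h𝒳 α h rfl
    exact (isArr_mul h𝒳 hφ hψ h).ht
  mul_assoc α β γ h₁ h₂ h₃ h₄ := by
    obtain ⟨φ, hφ⟩ := G.exists_arr h𝒳 γ rfl rfl
    obtain ⟨ψ, hψ⟩ := G.exists_arr h𝒳 β h₂ rfl
    obtain ⟨χ, hχ⟩ := G.exists_arr h𝒳 α h₁ rfl
    have e1 := isArr_mul h𝒳 hφ (isArr_mul h𝒳 hψ hχ h₁) h₃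
    have e2 := isArr_mul h𝒳 (isArr_mul h𝒳 hφ hψ h₂) hχ h₄
    rw [Category.assoc] at e2
    exact e1.pt_unique e2
  e_s := (isArr_e (G := G)).hs
  e_t := (isArr_e (G := G)).ht
  mul_e α h := by
    obtain ⟨φ, hφ⟩ := G.exists_arr h𝒳 α rfl rfl
    have h1 := isArr_comp_e (G := G) (α ≫ G.s)
    rw [Category.assoc] at h1
    refine G.mul_eq h𝒳 h h1 hφ ?_
    rwa [Category.id_comp]
  e_mul α h := by
    obtain ⟨φ, hφ⟩ := G.exists_arr h𝒳 α rfl rfl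
    have h1 := isArr_comp_e (G := G) (α ≫ G.t)
    rw [Category.assoc] at h1
    refine G.mul_eq h𝒳 h hφ h1 ?_
    rwa [Category.comp_id]
  i_s := by
    obtain ⟨ψ, h1, -, -⟩ := isArr_i (G := G) h𝒳
    exact h1.hs
  i_t := by
    obtain ⟨ψ, h1, -, -⟩ := isArr_i (G := G) h𝒳
    exact h1.ht
  mul_i α h := by
    obtain ⟨φ, hφ⟩ := G.exists_arr h𝒳 α rfl rfl
    obtain ⟨ψ, h1, h2, h3⟩ := isArr_comp_i h𝒳 hφ
    refine G.mul_eq h𝒳 h h1 hφ ?_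
    rw [h3, ← Category.assoc]
    exact isArr_comp_e (G := G) (α ≫ G.t)
  i_mul α h := by
    obtain ⟨φ, hφ⟩ := G.exists_arr h𝒳 α rfl rfl
    obtain ⟨ψ, h1, h2, h3⟩ := isArr_comp_i h𝒳 hφ
    refine G.mul_eq h𝒳 h hφ h1 ?_
    rw [h2, ← Category.assoc]
    exact isArr_comp_e (G := G) (α ≫ G.s)

end ChartRep

end K746
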