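import Groth.Agent.AlgSt.K746.AutSch
import Groth.Agent.AlgSt.K749.HilbC
import Groth.Agent.CurvSt.K899.OpenCrit
import Groth.Prelude.Def_StGerb2

/-!
# The open locus of the stack of finite open pieces where automorphisms are preserved
-/

set_option autoImplicit false
set_option backward.isDefEq.respectTransparency false
set_option backward.isDefEq.respectTransparency.types false

universe u₄ v₄ u₃ v₃ v u

open CategoryTheory CategoryTheory.Limits AlgebraicGeometry Opposite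
open K734.Fib K598.Site K899.OpenCrit

namespace K746.AutLoc

section Aut

variable {C : Type u} [Category.{v} C] {𝒳 : BasedCategory.{v₃, u₃} C} {𝒳' : BasedCategory.{v₄, u₄} C}

/-- Bijectivity on automorphism groups of a faithful functor, in terms of vertical morphisms. -/
theorem bijective_autMap (h𝒳' : FibCat.IsFibGrpd 𝒳'.p) {h : 𝒳' ⥤ᵇ 𝒳} (hf : h.toFunctor.Faithful) {z : 𝒳'.obj}
    (hs : ∀ α : h.obj z ⟶ h.obj z, IsVert 𝒳 α → ∃ β : z ⟶ z, h.map β = α) :
    Function.Bijective (Gerb.autMap h z) := by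
  constructor
  · intro a b hab
    have h1 := congrArg (fun t : Gerb.AutO (h.obj z) => t.hom.1) hab
    have h2 : h.map a.hom.1 = h.map b.hom.1 := h1
    have h3 : a.hom = b.hom := Functor.Fiber.hom_ext (hf.map_injective h2)
    exact Iso.ext h3
  · intro a
    have ha : IsVert 𝒳 a.hom.1 := IsVert.of_lift a.hom.2
    obtain ⟨β, hβ⟩ := hs a.hom.1 ha
    have hv : IsVert 𝒳' β := IsVert.of_map h (by rw [hβ]; exact ha)
    have := isIso_of_vert h𝒳' hv
    let b : Gerb.AutO z :=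
      { hom := ⟨β, hv⟩
        inv := ⟨CategoryTheory.inv β, IsVert.isIso_inv hv⟩
        hom_inv_id := by
          apply Functor.Fiber.hom_ext
          exact IsIso.hom_inv_id β
        inv_hom_id := by
          apply Functor.Fiber.hom_ext
          exact IsIso.inv_hom_id β }
    refine ⟨b, ?_⟩
    apply Iso.ext
    apply Functor.Fiber.hom_ext
    exact hβ

end Aut

variable {S : Scheme.{u}} {𝒳 : AlgSt.Cat S} (X : K749.Clopen.Fam 𝒳.p)

/-- All automorphisms of all restrictions preserve the piece. -/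
def Stab (w : X.W.obj) : Prop :=
  ∀ (y' : 𝒳.obj) (n : y' ⟶ w.x) (α : y' ⟶ y'), IsVert 𝒳 α → X.res α (X.res n w.Z) = X.res n w.Z

theorem hasOpenLocus_stab (h𝒳 : FibCat.IsFibGrpd 𝒳.p)
    (hI : AlgSt.RepByAlgSpWith AlgSp.IsFiniteMor (FibCat.inertiaToBase (FibCat.toSelf 𝒳))) :
    HasOpenLocus (𝒳 := X.W) (Stab X) := by
  rintro ⟨x, Z⟩
  obtain ⟨yG, m, θ, hθ, hfin, H⟩ := AutSch.exists_autObj h𝒳 hI x
  let ZG : X.D yG := X.res m Z
  let L : ((𝒳.p.obj yG).left).Opens := X.locus (X.res θ ZG) ZG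
  let D : Set (𝒳.p.obj x).left := (𝒳.p.map m).left '' (L : Set (𝒳.p.obj yG).left)ᶜ
  have hD : IsClosed D := (𝒳.p.map m).left.isClosedMap _ L.isOpen.isClosed_compl
  refine ⟨⟨Dᶜ, hD.isOpen_compl⟩, ?_⟩
  rintro ⟨y', Z'⟩ φ
  have hφ : X.res φ.hom Z = Z' := φ.res
  change Stab X ⟨y', Z'⟩ ↔ Set.range (𝒳.p.map φ.hom).left ⊆ Dᶜ
  constructor
  · intro hst
    rintro _ ⟨t', rfl⟩ ⟨c₀, hc₀, hc₁⟩
    -- the fibre product
    let T'' : Over S := Over.mk (pullback.fst (𝒳.p.map φ.hom).left (𝒳.p.map m).left ≫ (𝒳.p.obj y').hom)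
    let a : T'' ⟶ 𝒳.p.obj y' := Over.homMk (pullback.fst _ _) rfl
    let b : T'' ⟶ 𝒳.p.obj yG := Over.homMk (pullback.snd (𝒳.p.map φ.hom).left (𝒳.p.map m).left) (by
      change pullback.snd _ _ ≫ (𝒳.p.obj yG).hom = pullback.fst _ _ ≫ (𝒳.p.obj y').hom
      rw [← Over.w (𝒳.p.map m), ← Over.w (𝒳.p.map φ.hom), ← pullback.condition_assoc])
    have hab : a ≫ 𝒳.p.map φ.hom = b ≫ 𝒳.p.map m := by
      ext
      exact pullback.condition
    obtain ⟨y'', n, hn⟩ := exists_lift h𝒳 (rfl : 𝒳.p.obj y' = _) a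
    have h1 : 𝒳.p.IsHomLift (𝒳.p.map m) m := inferInstance
    have h2 : 𝒳.p.IsHomLift (b ≫ 𝒳.p.map m) (n ≫ φ.hom) := by
      rw [← hab]
      exact IsHomLift.comp 𝒳.p a (𝒳.p.map φ.hom) n φ.hom
    obtain ⟨k, hk, hk'⟩ := exists_fac' h𝒳 h1 h2
    have h3 : 𝒳.p.IsHomLift (𝟙 T'' ≫ b) (k ≫ θ) := by
      rw [Category.id_comp]
      exact lift_comp_vert' hk hθ
    obtain ⟨α, hα, hα'⟩ := exists_fac' h𝒳 hk h3
    have hst' := hst y'' n α (IsVert.of_lift hα)
    have h4 : X.res n Z' = X.res k ZG := by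
      rw [← hφ, X.res_res, X.res_res, hk']
    have h5 : X.res k (X.res θ ZG) = X.res k ZG := by
      rw [X.res_res, ← hα', ← X.res_res, ← h4]
      exact hst'
    rw [X.res_eq_iff] at h5
    obtain ⟨t'', ht1, ht2⟩ := Scheme.Pullback.exists_preimage_pullback (f := (𝒳.p.map φ.hom).left)
      (g := (𝒳.p.map m).left) t' c₀ hc₁.symm
    have h6 : 𝒳.p.obj y'' = T'' := IsHomLift.domain_eq 𝒳.p b k
    have h7 : 𝒳.p.map k = eqToHom h6 ≫ b := by
      rw [IsHomLift.fac' 𝒳.p b k, eqToHom_refl, Category.comp_id]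
    refine hc₀ (h5 ⟨(eqToHom h6.symm).left t'', ?_⟩)
    rw [h7, ← Scheme.Hom.comp_apply, ← Over.comp_left, eqToHom_trans_assoc, eqToHom_refl, Category.id_comp]
    exact ht2
  · intro hr y₂ n' α hα
    change y₂ ⟶ y' at n'
    obtain ⟨k, hk, hk'⟩ := H y₂ (n' ≫ φ.hom) α hα
    have h4 : X.res n' Z' = X.res k ZG := by
      rw [← hφ, X.res_res, X.res_res, hk]
    change X.res α (X.res n' Z') = X.res n' Z'
    rw [h4, X.res_res, hk', ← X.res_res, X.res_eq_iff]
    rintro _ ⟨t, rfl⟩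
    by_contra hc
    refine hr ⟨(𝒳.p.map n').left t, rfl⟩ ⟨(𝒳.p.map k).left t, hc, ?_⟩
    have h5 := congrArg (fun f => (𝒳.p.map f).left t) hk
    simp only [Functor.map_comp, Over.comp_left, Scheme.Hom.comp_apply] at h5
    exact h5

end K746.AutLoc
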