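import Groth.Agent.AlgSt.K746.FRepEx
import Groth.Agent.AlgSt.K746.WnaRep
import Groth.Agent.AlgSt.K742.Aff
import Groth.Agent.Stk.K751.Test

/-!
# The finite scheme of automorphisms of an object of a stack with finite inertia
-/

set_option autoImplicit false
set_option backward.isDefEq.respectTransparency false
set_option backward.isDefEq.respectTransparency.types false

universe u₄ v₄ u₃ v₃ v u

open CategoryTheory CategoryTheory.Limits AlgebraicGeometry Opposite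
open K734.Fib K598.Site

namespace K746.AutSch

variable {S : Scheme.{u}}

/-- An algebraic space finite over a scheme is a scheme. -/
theorem exists_sch_of_isFiniteMor {F : AlgSp.Sp S} {U : Over S} (π : F ⟶ (AlgSp.yon S).obj U)
    (hf : AlgSp.IsFiniteMor π) : ∃ (W : Over S) (i : W ⟶ U)
      (e : (AlgSp.yon S).obj W ≅ F), e.hom ≫ π = (AlgSp.yon S).map i ∧ IsFinite i.left := by
  have h := K742.Aff.isFiniteMor_iff.1 hf
  obtain ⟨W, i, fst, sq⟩ := h.1 (𝟙 _)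
  have hfst : IsIso fst := sq.isIso_fst_of_isIso
  refine ⟨W, i, asIso fst, ?_, h.2 _ _ _ sq⟩
  rw [asIso_hom, sq.w, Category.comp_id]

variable {𝒳 : BasedCategory.{v₃, u₃} (Over S)}

/-- The finite scheme of automorphisms of an object. -/
theorem exists_autSch (h𝒳 : FibCat.IsFibGrpd 𝒳.p)
    (hI : AlgSt.RepByAlgSpWith AlgSp.IsFiniteMor (FibCat.inertiaToBase (FibCat.toSelf 𝒳))) {U : Over S} (y : 𝒳.obj)
    (hy : 𝒳.p.obj y = U) :
    ∃ (G : Over S) (c : G ⟶ U) (yG : 𝒳.obj) (m : yG ⟶ y) (θ : yG ⟶ yG), 𝒳.p.IsHomLift c m ∧ IsVert 𝒳 θ ∧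
      IsFinite c.left ∧ ∀ {T : Over S} (f : T ⟶ U) (y' : 𝒳.obj) (n : y' ⟶ y) (_ : 𝒳.p.IsHomLift f n) (α : y' ⟶ y')
        (_ : IsVert 𝒳 α), ∃ (r : T ⟶ G) (k : y' ⟶ yG), r ≫ c = f ∧ 𝒳.p.IsHomLift r k ∧ k ≫ m = n ∧
          α ≫ k = k ≫ θ := by
  let x : FibCat.overCat U ⥤ᵇ 𝒳 := K751.Test.yo h𝒳 y hy
  obtain ⟨F, π, hP, ⟨R⟩⟩ := K738.repByAlgSpWith_iff_secRep.1 hI U x
  obtain ⟨W, i, e, he, hfin⟩ := exists_sch_of_isFiniteMor π hP
  have hR := secRepOfIso R e.symm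
  rw [Iso.symm_inv, he] at hR
  obtain ⟨H, hH⟩ := FRepEx.exists_fRep h𝒳 hR
  obtain rfl : i = H.c := (AlgSp.yon S).map_injective hH
  have := isIso_of_vert h𝒳 H.vert
  have hθv : IsVert 𝒳 H.y.aut.hom := by
    rw [isVert_iff]
    exact ⟨rfl, H.y.map_aut⟩
  have hεl : ∀ {T : Over S} (f : T ⟶ U), 𝒳.p.IsHomLift f (K751.Test.yoε h𝒳 y hy (Over.mk f)) := fun f =>
    K751.Test.yoε_lift h𝒳 y hy (Over.mk f)
  let εc : Xo x H.c ⟶ y := K751.Test.yoε h𝒳 y hy (Over.mk H.c)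
  refine ⟨W, H.c, H.y.pt, CategoryTheory.inv H.θ ≫ εc, H.y.aut.hom,
    lift_vert_comp (IsVert.isIso_inv H.vert) (hεl H.c), hθv, hfin, ?_⟩
  intro T f y' n hn α hα
  have hαi := isIso_of_vert h𝒳 hα
  let z : (FibCat.inertia (FibCat.toSelf 𝒳)).obj := ⟨y', asIso α, by
    have h1 := hα.map_eq
    exact h1⟩
  let εf : Xo x f ⟶ y := K751.Test.yoε h𝒳 y hy (Over.mk f)
  have hεf : 𝒳.p.IsHomLift (𝟙 T ≫ f) εf := by
    rw [Category.id_comp]; exact hεl f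
  obtain ⟨φ, h3, h4⟩ := exists_fac' h𝒳 hn hεf
  have hφ : IsVert 𝒳 φ := IsVert.of_lift h3
  have := isIso_of_vert h𝒳 hφ
  obtain ⟨w, ⟨hc, m', hm', e'⟩, -⟩ := H.exu f z φ hφ
  have hk : 𝒳.p.IsHomLift w m'.hom :=
    BasedFunctor.preserves_isHomLift (FibCat.inertiaToBase (FibCat.toSelf 𝒳)) w m'
  refine ⟨w, m'.hom, hc, hk, ?_, m'.comm⟩
  rw [← cancel_epi φ, h4]
  have e2 : φ ≫ m'.hom = rs x w hc ≫ H.θ := e'
  rw [reassoc_of% e2, IsIso.hom_inv_id_assoc]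
  exact K751.Test.yo_map_yoε h𝒳 y hy (Over.homMk w hc : Over.mk f ⟶ Over.mk H.c)

/-- The finite scheme of automorphisms of an object, in terms of morphisms of the stack only. -/
theorem exists_autObj (h𝒳 : FibCat.IsFibGrpd 𝒳.p)
    (hI : AlgSt.RepByAlgSpWith AlgSp.IsFiniteMor (FibCat.inertiaToBase (FibCat.toSelf 𝒳))) (y : 𝒳.obj) :
    ∃ (yG : 𝒳.obj) (m : yG ⟶ y) (θ : yG ⟶ yG), IsVert 𝒳 θ ∧ IsFinite (𝒳.p.map m).left ∧
      ∀ (y' : 𝒳.obj) (n : y' ⟶ y) (α : y' ⟶ y') (_ : IsVert 𝒳 α), ∃ k : y' ⟶ yG, k ≫ m = n ∧ α ≫ k = k ≫ θ := by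
  obtain ⟨G, c, yG, m, θ, hm, hθ, hfin, H⟩ := exists_autSch h𝒳 hI y rfl
  refine ⟨yG, m, θ, hθ, ?_, fun y' n α hα => ?_⟩
  · obtain rfl : 𝒳.p.obj yG = G := IsHomLift.domain_eq 𝒳.p c m
    have h1 : 𝒳.p.map m = c := by
      have := IsHomLift.fac' 𝒳.p c m
      rw [this]
      simp
    rwa [h1]
  · obtain ⟨r, k, -, -, h1, h2⟩ := H (𝒳.p.map n) y' n inferInstance α hα
    exact ⟨k, h1, h2⟩

end K746.AutSch
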