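import Groth.Agent.AlgSt.K746.AutLoc

/-!
# Finite open pieces stable under all automorphisms: orbits over fields
-/

set_option autoImplicit false
set_option backward.isDefEq.respectTransparency false
set_option backward.isDefEq.respectTransparency.types false

universe u₄ v₄ u₃ v₃ v u

open CategoryTheory CategoryTheory.Limits AlgebraicGeometry Opposite TopologicalSpace
open K734.Fib K598.Site K899.OpenCrit

namespace K746.AutLoc

variable {S : Scheme.{u}} {𝒳 : AlgSt.Cat S}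

/-- Fibre products in a category fibred in groupoids over `(Sch/S)`. -/
theorem exists_fibreProd (h𝒳 : FibCat.IsFibGrpd 𝒳.p) {a b b' : 𝒳.obj} (f : b ⟶ a) (f' : b' ⟶ a) :
    ∃ (c : 𝒳.obj) (g : c ⟶ b) (g' : c ⟶ b'), g ≫ f = g' ≫ f' ∧
      IsPullback (𝒳.p.map g').left (𝒳.p.map g).left (𝒳.p.map f').left (𝒳.p.map f).left := by
  let T : Over S := Over.mk (pullback.snd (𝒳.p.map f').left (𝒳.p.map f).left ≫ (𝒳.p.obj b).hom)
  let s : T ⟶ 𝒳.p.obj b := Over.homMk (pullback.snd _ _) rfl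
  let s' : T ⟶ 𝒳.p.obj b' := Over.homMk (pullback.fst (𝒳.p.map f').left (𝒳.p.map f).left) (by
    change pullback.fst _ _ ≫ (𝒳.p.obj b').hom = pullback.snd _ _ ≫ (𝒳.p.obj b).hom
    rw [← Over.w (𝒳.p.map f'), ← Over.w (𝒳.p.map f), ← pullback.condition_assoc])
  have hab : s ≫ 𝒳.p.map f = s' ≫ 𝒳.p.map f' := by
    ext
    exact pullback.condition.symm
  obtain ⟨c, g, hg⟩ := exists_lift h𝒳 (rfl : 𝒳.p.obj b = _) s
  have h1 : 𝒳.p.IsHomLift (𝒳.p.map f') f' := inferInstance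
  have h2 : 𝒳.p.IsHomLift (s' ≫ 𝒳.p.map f') (g ≫ f) := by
    rw [← hab]
    exact IsHomLift.comp 𝒳.p s (𝒳.p.map f) g f
  obtain ⟨g', hg', hw⟩ := exists_fac' h𝒳 h1 h2
  refine ⟨c, g, g', hw.symm, ?_⟩
  have h6 : 𝒳.p.obj c = T := IsHomLift.domain_eq 𝒳.p s g
  have h7 : 𝒳.p.map g = eqToHom h6 ≫ s := by
    rw [IsHomLift.fac' 𝒳.p s g, eqToHom_refl, Category.comp_id]
  have h8 : 𝒳.p.map g' = eqToHom h6 ≫ s' := by
    rw [IsHomLift.fac' 𝒳.p s' g', eqToHom_refl, Category.comp_id]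
  have : IsIso (eqToHom h6).left := inferInstanceAs (IsIso ((Over.forget S).map (eqToHom h6)))
  rw [h7, h8]
  exact (IsPullback.of_hasPullback (𝒳.p.map f').left (𝒳.p.map f).left).of_iso (asIso (eqToHom h6).left).symm
    (Iso.refl _) (Iso.refl _) (Iso.refl _)
    (by rw [Over.comp_left]; simp; rfl) (by rw [Over.comp_left]; simp; rfl) (by simp) (by simp)

theorem exists_FO_of_finite' {K : Type u} [Field K] {Y : Scheme.{u}} (f : Y ⟶ Spec (CommRingCat.of K))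
    (hf : LocallyQuasiFinite f) {A : Set Y} (hA : A.Finite)
    (hne : A.Nonempty) : ∃ Z : Y.Opens, (Z : Set Y) = A ∧ K749.Clopen.FO f Z := by
  have hX : IsLocallyArtinian Y := .of_locallyQuasiFinite f
  let Z : Y.Opens := ⟨A, isOpen_discrete _⟩
  have : Finite Z := hA.to_subtype
  have : CompactSpace Z := Finite.compactSpace
  have : QuasiCompact (Z.ι ≫ f) := quasiCompact_of_compactSpace _
  obtain ⟨x, hx⟩ := hne
  exact ⟨Z, rfl, IsFinite.of_locallyQuasiFinite _, ⟨fun a => ⟨⟨x, hx⟩, Subsingleton.elim _ _⟩⟩⟩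

/-- Finite sets of points of a locally quasi-finite scheme over a field are finite open pieces. -/
theorem exists_FO_of_finite {K : Type u} [Field K] {t : Spec (CommRingCat.of K) ⟶ S} {B : Over S}
    (hB : B = Over.mk t) {Y : Scheme.{u}} (f : Y ⟶ B.left) (hf : LocallyQuasiFinite f) {A : Set Y} (hA : A.Finite)
    (hne : A.Nonempty) : ∃ Z : Y.Opens, (Z : Set Y) = A ∧ K749.Clopen.FO f Z := by
  subst hB
  exact exists_FO_of_finite' (K := K) f hf hA hne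

variable (X : K749.Clopen.Fam 𝒳.p)

/-- The orbit of a point under the automorphism scheme. -/
def orb {ξ yG : 𝒳.obj} (m : yG ⟶ ξ) (θ : yG ⟶ yG) (f₀ : X.X.obj ξ) : Set (X.X.obj ξ) :=
  X.X.map m '' (X.X.map θ '' (X.X.map m ⁻¹' {f₀}))

theorem mem_orb_self {ξ yG : 𝒳.obj} {m : yG ⟶ ξ} {θ : yG ⟶ yG} (f₀ : X.X.obj ξ)
    (H : ∀ (y' : 𝒳.obj) (n : y' ⟶ ξ) (α : y' ⟶ y') (_ : IsVert 𝒳 α), ∃ k : y' ⟶ yG, k ≫ m = n ∧ α ≫ k = k ≫ θ) :
    f₀ ∈ orb X m θ f₀ := by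
  obtain ⟨k, hk, hk'⟩ := H ξ (𝟙 ξ) (𝟙 ξ) (IsVert.id ξ)
  rw [Category.id_comp] at hk'
  have e1 : X.X.map m (X.X.map k f₀) = f₀ := by
    rw [← Scheme.Hom.comp_apply, ← X.X.map_comp, hk, X.X.map_id]
    rfl
  refine ⟨X.X.map θ (X.X.map k f₀), ⟨X.X.map k f₀, e1, rfl⟩, ?_⟩
  have e2 : X.X.map θ (X.X.map k f₀) = X.X.map k f₀ := by
    rw [← Scheme.Hom.comp_apply, ← X.X.map_comp, ← hk']
  rw [e2, e1]

theorem orb_stable (h𝒳 : FibCat.IsFibGrpd 𝒳.p) {ξ yG : 𝒳.obj} {m : yG ⟶ ξ} {θ : yG ⟶ yG} (hθ : IsVert 𝒳 θ)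
    (f₀ : X.X.obj ξ)
    (H : ∀ (y' : 𝒳.obj) (n : y' ⟶ ξ) (α : y' ⟶ y') (_ : IsVert 𝒳 α), ∃ k : y' ⟶ yG, k ≫ m = n ∧ α ≫ k = k ≫ θ)
    {y' : 𝒳.obj} (n : y' ⟶ ξ) (α : y' ⟶ y') (hα : IsVert 𝒳 α) (f' : X.X.obj y') (hf : X.X.map n f' ∈ orb X m θ f₀) :
    X.X.map n (X.X.map α f') ∈ orb X m θ f₀ := by
  obtain ⟨_, ⟨g, hg, rfl⟩, hgf⟩ := hf
  obtain ⟨y'', n'', k'', hw, sq⟩ := exists_fibreProd h𝒳 n m
  obtain ⟨f'', hf1, hf2⟩ := X.exists_point hw sq f' (X.X.map θ g) hgf.symm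
  have hi := isIso_of_vert h𝒳 hα
  have hiθ := isIso_of_vert h𝒳 hθ
  -- lift `α` and `θ`
  have hn'' : 𝒳.p.IsHomLift (𝒳.p.map n'') n'' := inferInstance
  have hk'' : 𝒳.p.IsHomLift (𝒳.p.map k'') k'' := inferInstance
  have h3 : 𝒳.p.IsHomLift (𝟙 _ ≫ 𝒳.p.map n'') (n'' ≫ α) := by
    rw [Category.id_comp]
    exact lift_comp_vert' hn'' hα
  obtain ⟨α'', hα1, hα2⟩ := exists_fac' h𝒳 hn'' h3
  have h4 : 𝒳.p.IsHomLift (𝟙 _ ≫ 𝒳.p.map k'') (k'' ≫ θ) := by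
    rw [Category.id_comp]
    exact lift_comp_vert' hk'' hθ
  obtain ⟨β, hβ1, hβ2⟩ := exists_fac' h𝒳 hk'' h4
  have hαv : IsVert 𝒳 α'' := IsVert.of_lift hα1
  have hβv : IsVert 𝒳 β := IsVert.of_lift hβ1
  have := isIso_of_vert h𝒳 hβv
  obtain ⟨h'', hh⟩ : ∃ h'', X.X.map β h'' = f'' := ⟨X.X.map (CategoryTheory.inv β) f'', by
    rw [← Scheme.Hom.comp_apply, ← X.X.map_comp, IsIso.inv_hom_id, X.X.map_id]
    rfl⟩
  have e1 : X.X.map k'' h'' = g := by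
    have h5 : X.X.map θ (X.X.map k'' h'') = X.X.map θ g := by
      rw [← hf2, ← hh, ← Scheme.Hom.comp_apply, ← X.X.map_comp, ← hβ2, X.X.map_comp, Scheme.Hom.comp_apply]
    have h6 : ∀ z, X.X.map (CategoryTheory.inv θ) (X.X.map θ z) = z := fun z => by
      rw [← Scheme.Hom.comp_apply, ← X.X.map_comp, IsIso.hom_inv_id, X.X.map_id]
      rfl
    rw [← h6 (X.X.map k'' h''), h5, h6]
  obtain ⟨k₁, hk₁, hk₁'⟩ := H y'' (k'' ≫ m) (β ≫ α'') (hβv.comp hαv)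
  have e2 : X.X.map m (X.X.map k₁ h'') = f₀ := by
    rw [← Scheme.Hom.comp_apply, ← X.X.map_comp, hk₁, X.X.map_comp, Scheme.Hom.comp_apply, e1]
    exact hg
  refine ⟨X.X.map θ (X.X.map k₁ h''), ⟨X.X.map k₁ h'', e2, rfl⟩, ?_⟩
  have e3 : ((k₁ ≫ θ) ≫ m) = β ≫ (n'' ≫ α) ≫ n := by
    rw [← hk₁', Category.assoc, Category.assoc, hk₁, ← hw, ← hα2, Category.assoc]
  calc X.X.map m (X.X.map θ (X.X.map k₁ h'')) = X.X.map ((k₁ ≫ θ) ≫ m) h'' := by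
        rw [X.X.map_comp, X.X.map_comp, Scheme.Hom.comp_apply, Scheme.Hom.comp_apply]
    _ = X.X.map (β ≫ (n'' ≫ α) ≫ n) h'' := by rw [e3]
    _ = X.X.map n (X.X.map α f') := by
        rw [X.X.map_comp, X.X.map_comp, X.X.map_comp, Scheme.Hom.comp_apply, Scheme.Hom.comp_apply,
          Scheme.Hom.comp_apply, hh, hf1]

/-- Over a field, every point of a member lies in a finite open piece stable under all automorphisms. -/
theorem exists_stab_piece (h𝒳 : FibCat.IsFibGrpd 𝒳.p)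
    (hI : AlgSt.RepByAlgSpWith AlgSp.IsFiniteMor (FibCat.inertiaToBase (FibCat.toSelf 𝒳)))
    {K : Type u} [Field K] {t : Spec (CommRingCat.of K) ⟶ S} (ξ : 𝒳.obj) (hξ : 𝒳.p.obj ξ = Over.mk t)
    (f₀ : X.X.obj ξ) : ∃ Z : X.D ξ, f₀ ∈ Z.1 ∧ Stab X ⟨ξ, Z⟩ := by
  obtain ⟨yG, m, θ, hθ, hfin, H⟩ := AutSch.exists_autObj h𝒳 hI ξ
  have hfm : IsFinite (X.X.map m) := MorphismProperty.of_isPullback (P := @IsFinite) (X.sq m).flip hfin
  have hA : (orb X m θ f₀).Finite := (((X.X.map m).finite_preimage_singleton f₀).image _).image _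
  obtain ⟨Z, hZ, hFO⟩ := exists_FO_of_finite hξ (X.π ξ) (X.lqf ξ) hA ⟨f₀, mem_orb_self X f₀ H⟩
  refine ⟨⟨Z, hFO⟩, ?_, ?_⟩
  · change f₀ ∈ (Z : Set _)
    rw [hZ]
    exact mem_orb_self X f₀ H
  · intro y' n α hα
    change y' ⟶ ξ at n
    have := isIso_of_vert h𝒳 hα
    have key : ∀ f' : X.X.obj y', X.X.map n f' ∈ Z ↔ X.X.map n f' ∈ orb X m θ f₀ := fun f' => by
      rw [← hZ]; rfl
    apply K749.Clopen.Fam.D.ext
    ext f'
    change X.X.map n (X.X.map α f') ∈ Z ↔ X.X.map n f' ∈ Z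
    rw [key, key]
    constructor
    · intro h
      have h2 := orb_stable X h𝒳 hθ f₀ H n (CategoryTheory.inv α) (IsVert.isIso_inv hα) _ h
      rw [← Scheme.Hom.comp_apply (X.X.map α), ← X.X.map_comp, IsIso.hom_inv_id, X.X.map_id] at h2
      exact h2
    · exact orb_stable X h𝒳 hθ f₀ H n α hα f'

end K746.AutLoc
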