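import Groth.Agent.AlgSt.K746.SigAff
import Groth.Agent.AlgSt.K746.DiagFin
import Groth.Agent.AlgSt.K746.Orbit
import Groth.Agent.AlgSt.K749.HilbF
import Groth.Agent.AlgSt.K734.QDM
import Groth.Agent.AlgSt.K741.QcqsS
import Groth.Agent.S12972
import Groth.Agent.S12975

/-!
# Stacks with finite inertia: separated locally quasi-finite flat covers
-/

set_option autoImplicit false
set_option backward.isDefEq.respectTransparency false
set_option backward.isDefEq.respectTransparency.types false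

universe u₄ v₄ u₃ v₃ v u

open CategoryTheory CategoryTheory.Limits AlgebraicGeometry Opposite TopologicalSpace
open K734.Fib K598.Site K899.OpenCrit

namespace K746.Cov

variable {S : Scheme.{u}} {𝒳 : AlgSt.Cat S}

theorem sep_diag (h𝒳 : AlgSt.IsAlgStack Scheme.fppfPrecoverage 𝒳)
    (hI : AlgSt.RepByAlgSpWith AlgSp.IsFiniteMor (FibCat.inertiaToBase (FibCat.toSelf 𝒳))) :
    AlgSt.RepByAlgSpWith AlgSp.IsSeparatedMor (FibCat.diag (FibCat.toSelf 𝒳)) :=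
  ((Groth.Agent.S12972.result S 𝒳 _ h𝒳 (K741.isAlgStack_selfOver S) (FibCat.toSelf 𝒳)).out 0 1).1
    (DiagFin.repByAlgSpWith_mono' (fun f h => (DiagFin.isProperMor_of_isFiniteMor f h).1) hI)

theorem isQuasiDMOver (h𝒳 : AlgSt.IsAlgStack Scheme.fppfPrecoverage 𝒳)
    (hI : AlgSt.RepByAlgSpWith AlgSp.IsFiniteMor (FibCat.inertiaToBase (FibCat.toSelf 𝒳))) :
    AlgSt.IsQuasiDMOver 𝒳 :=
  (Groth.Agent.S12975.result S 𝒳 _ h𝒳 (K741.isAlgStack_selfOver S) (FibCat.toSelf 𝒳)).1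
    (K739.Alg.repByAlgSpWith_mono (fun _ _ f h => DiagFin.lqf_of_isFiniteMor f h) hI)

theorem repByAlgSpWith_overMap {P : MorphismProperty Scheme.{u}} {Q : MorphismProperty (AlgSp.Sp S)}
    [Q.RespectsIso] (hPQ : ∀ ⦃A B : AlgSp.Sp S⦄ (f : A ⟶ B), AlgSp.RepWith P f → Q f) {U V : Over S} (g : U ⟶ V)
    (hg : AlgSp.RepWith P ((AlgSp.yon S).map g)) : AlgSt.RepByAlgSpWith Q (AlgSt.overMap g) :=
  (K735.Rep.repByAlgSpWith_iff_of_sq Q (AlgSt.ofSpMap ((AlgSp.yon S).map g)) (AlgSt.overMap g)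
    (AlgSt.ofOverCat U) (AlgSt.ofOverCat V) (K735.Rep.isEquivOver_ofOverCat U) (K735.Rep.isEquivOver_ofOverCat V)
    (Iso.refl _)).1 (K735.Top.repByAlgSpWith_ofSpMap_of_repWith hPQ hg)

theorem exists_sep_cover (h𝒳 : AlgSt.IsAlgStack Scheme.fppfPrecoverage 𝒳)
    (hI : AlgSt.RepByAlgSpWith AlgSp.IsFiniteMor (FibCat.inertiaToBase (FibCat.toSelf 𝒳))) :
    ∃ (V : Over S) (v : FibCat.overCat V ⥤ᵇ 𝒳), IsSeparated V.hom ∧ SigAff.AF V.left ∧
      AlgSt.RepByAlgSpWith (AlgSp.LocP (@Flat ⊓ @LocallyOfFinitePresentation ⊓ @LocallyQuasiFinite) ⊓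
        AlgSp.IsSurjectiveMor ⊓ AlgSp.IsSeparatedMor) v := by
  obtain ⟨W, w, hw⟩ := K734.QDM.exists_lqf_cover 𝒳 h𝒳 (sep_diag h𝒳 hI) (isQuasiDMOver h𝒳 hI)
  obtain ⟨V, i, hi, his, hs, hAF⟩ := SigAff.exists_cover W
  have hN : K734.Rep.Nice (S := S) (AlgSp.LocP @Flat ⊓ AlgSp.LocP @LocallyOfFinitePresentation ⊓
      AlgSp.LocP (@LocallyQuasiFinite ⊓ @LocallyOfFiniteType) ⊓ AlgSp.IsSurjectiveMor) :=
    ((K734.Rep.nice_flat.inf K734.Rep.nice_lfp).inf K734.QDM.nice_lqf).inf K734.Rep.nice_surj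
  have hRI := hN.bc.respectsIso
  have h1 : AlgSt.RepByAlgSpWith (AlgSp.LocP @Flat ⊓ AlgSp.LocP @LocallyOfFinitePresentation ⊓
      AlgSp.LocP (@LocallyQuasiFinite ⊓ @LocallyOfFiniteType) ⊓ AlgSp.IsSurjectiveMor) w := by
    refine DiagFin.repByAlgSpWith_mono' (fun f h => ?_) hw
    obtain ⟨ha, hb⟩ := h
    rw [K597.locP_inf_iff, K597.locP_inf_iff] at ha
    refine ⟨⟨ha.1, K597.locP_inf_iff.2 ⟨ha.2, ?_⟩⟩, hb⟩
    exact K597.locP_mono (fun _ _ f (hf : LocallyOfFinitePresentation f) =>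
      (inferInstance : LocallyOfFiniteType f)) ha.1.2
  have h2 : AlgSt.RepByAlgSpWith (AlgSp.LocP @Flat ⊓ AlgSp.LocP @LocallyOfFinitePresentation ⊓
      AlgSp.LocP (@LocallyQuasiFinite ⊓ @LocallyOfFiniteType) ⊓ AlgSp.IsSurjectiveMor) (AlgSt.overMap i) := by
    refine repByAlgSpWith_overMap (P := @Etale ⊓ @Surjective) (fun A B f hf => ?_) i
      ((AlgSp.repWith_yon_map_iff _ i).2 ⟨hi, his⟩)
    have he : AlgSp.RepWith @Etale f := ⟨hf.1, fun _ _ _ _ _ sq => (hf.2 _ _ _ sq).1⟩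
    have hle : AlgSp.LocP @Etale f := K597.locP_of_repWith (P := @Etale) (fun A B C e k he hk => by
      have : Etale k := hk
      exact (inferInstance : Etale (e ≫ k))) he
    refine ⟨⟨⟨?_, ?_⟩, ?_⟩, K609.Points.surjective_map_of_repWith_surjective
      ⟨hf.1, fun _ _ _ _ _ sq => (hf.2 _ _ _ sq).2⟩⟩
    · exact K597.locP_mono (fun _ _ f (h : Etale f) => (inferInstance : Flat f)) hle
    · exact K597.locP_mono (fun _ _ f (h : Etale f) => (inferInstance : LocallyOfFinitePresentation f)) hle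
    · exact K597.locP_mono (fun _ _ f (h : Etale f) =>
        ⟨K597.locallyQuasiFinite_of_etale f, (inferInstance : LocallyOfFiniteType f)⟩) hle
  have h3 := hN.repByAlgSpWith_comp (K735.Fp.isFibGrpd_overCat V) (K735.Fp.isFibGrpd_overCat W) h2 h1
  have h4 := K749.Hilb.repByAlgSpWith_sep h𝒳.isStack.1 (sep_diag h𝒳 hI) (BasedFunctor.comp (AlgSt.overMap i) w)
  have := DiagFin.isSeparatedMor_respectsIso (S := S)
  refine ⟨V, BasedFunctor.comp (AlgSt.overMap i) w, hs, hAF, ?_⟩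
  refine DiagFin.repByAlgSpWith_mono' (𝒳 := FibCat.overCat V) (fun f h => ?_) (K735.Top.repByAlgSpWith_inf h3 h4)
  obtain ⟨⟨⟨⟨ha, hb⟩, hc⟩, hd⟩, he⟩ := h
  exact ⟨⟨K597.locP_inf_iff.2 ⟨K597.locP_inf_iff.2 ⟨ha, hb⟩, (K597.locP_inf_iff.1 hc).1⟩, hd⟩, he⟩

end K746.Cov
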