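import Groth.Agent.AlgSt.K746.ModUniq

/-!
# Categorical moduli spaces and equivalences of the source
-/

set_option autoImplicit false
set_option backward.isDefEq.respectTransparency false
set_option backward.isDefEq.respectTransparency.types false

universe w' v' w v u

open CategoryTheory CategoryTheory.Limits AlgebraicGeometry Opposite
open K734.Fib

namespace K746

variable {S : Scheme.{u}} {𝒳 : BasedCategory.{v, w} (Over S)} {M : AlgSp.Sp S}
  {C : ObjectProperty (AlgSp.Sp S)}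

theorem isCatModuliIn_congr {π π' : 𝒳 ⥤ᵇ AlgSt.ofSp M} (h : ∀ z, π.obj z = π'.obj z)
    (hπ : AlgSt.IsCatModuliIn C π) : AlgSt.IsCatModuliIn C π' := by
  rw [isCatModuliIn_iff] at hπ ⊢
  refine ⟨hπ.1, fun N hN φ => ?_⟩
  obtain ⟨g, hg, hu⟩ := hπ.2 N hN φ
  have hg : ∀ z, (AlgSt.ofSpMap g).obj (π.obj z) = φ.obj z := hg
  refine ⟨g, fun z => ?_, fun g' hg' => hu g' fun z => ?_⟩
  · change (AlgSt.ofSpMap g).obj (π'.obj z) = φ.obj z
    rw [← h, hg]
  · change (AlgSt.ofSpMap g').obj (π.obj z) = φ.obj z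
    rw [h]
    exact hg' z

/-- Categorical moduli spaces transport along equivalences of the source. -/
theorem isCatModuliIn_comp_equiv {𝒴 : BasedCategory.{v', w'} (Over S)} {E : 𝒴 ⥤ᵇ 𝒳} (hE : FibCat.IsEquivOver E)
    {π : 𝒳 ⥤ᵇ AlgSt.ofSp M} (hπ : AlgSt.IsCatModuliIn C π) : AlgSt.IsCatModuliIn C (BasedFunctor.comp E π) := by
  obtain ⟨e, -, ⟨i⟩, ⟨j⟩⟩ := exists_inverse hE
  rw [isCatModuliIn_iff] at hπ ⊢
  refine ⟨hπ.1, fun N hN φ => ?_⟩
  obtain ⟨g, hg, hu⟩ := hπ.2 N hN (BasedFunctor.comp e φ)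
  have hg : ∀ z, (AlgSt.ofSpMap g).obj (π.obj z) = φ.obj (e.obj z) := hg
  refine ⟨g, fun z => ?_, fun g' hg' => hu g' fun z => ?_⟩
  · exact (hg (E.obj z)).trans (eq_of_vert ((app_vert i z).map φ))
  · have h1 : (AlgSt.ofSpMap g').obj (π.obj (E.obj (e.obj z))) = φ.obj (e.obj z) := hg' (e.obj z)
    have h2 : π.obj (E.obj (e.obj z)) = π.obj z := eq_of_vert ((app_vert j z).map π)
    rw [h2] at h1
    exact h1

end K746
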