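import Groth.Agent.AlgSt.K746.EtMod
import Groth.Agent.AlgSt.K746.EquivSrc

/-!
# Étale stabilizer-preserving morphisms between well-nigh affine stacks and their moduli spaces
-/

set_option autoImplicit false
set_option backward.isDefEq.respectTransparency false
set_option backward.isDefEq.respectTransparency.types false

universe u

open CategoryTheory CategoryTheory.Limits AlgebraicGeometry Opposite
open K734.Fib

namespace K746.EtWna

variable {S : Scheme.{u}}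

theorem isEtaleMor_iso_comp {X Y Z : AlgSp.Sp S} (i : X ≅ Y) {f : Y ⟶ Z} (hf : AlgSp.IsEtaleMor f) :
    AlgSp.IsEtaleMor (i.hom ≫ f) := fun U φ hφ => by
  rw [← Category.assoc]
  exact hf _ ((MorphismProperty.cancel_right_of_respectsIso (AlgSp.RepWith (S := S) @Etale) _ i.hom).2 hφ)

/-- A morphism between stacks separated over the base is separated. -/
theorem isSeparatedMor_of_over {𝒳 𝒳' : AlgSt.Cat S} (h𝒳 : FibCat.IsFibGrpd 𝒳.p) (h𝒳' : FibCat.IsFibGrpd 𝒳'.p)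
    (hs : AlgSt.IsSeparatedOver 𝒳) (hs' : AlgSt.IsSeparatedOver 𝒳') (h : 𝒳' ⥤ᵇ 𝒳) : AlgSt.IsSeparatedMor h :=
  K739.Alg.repByAlgSpWith_diag_of_toSelf (K739.Rep.isoInv_of_baseChange _ K739.Props.bc_proper)
    (K739.Rep.isoInv_of_baseChange _ K739.Props.bc_sep) K739.Props.bc_proper K739.Props.cancel_proper h𝒳'
    h𝒳 h hs' (K739.Alg.repByAlgSpWith_mono (fun _ _ _ h => h.1) hs)

/-- If the square over the moduli map is 2-cartesian, with flat `g`, and `π` is a uniform categorical moduli space,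
then so is `π'`. -/
theorem isCatModuli_of_isTwoCartOver {𝒳 𝒳' : AlgSt.Cat S} {M M' : AlgSp.Sp S} {π : 𝒳 ⥤ᵇ AlgSt.ofSp M}
    {π' : 𝒳' ⥤ᵇ AlgSt.ofSp M'} {g : M' ⟶ M} {h : 𝒳' ⥤ᵇ 𝒳} (hunif : AlgSt.IsUnifCatModuli π)
    (hM' : AlgSp.IsAlgSpace M') (hg : AlgSp.LocP @Flat g)
    (e : BasedFunctor.comp h π ≅ BasedFunctor.comp π' (AlgSt.ofSpMap g)) (he : FibCat.IsTwoCartOver h π' e) :
    AlgSt.IsCatModuli π' := by
  have h1 : AlgSt.IsCatModuli (FibCat.fpFst (AlgSt.ofSpMap g) π) := hunif.2 M' hM' g hg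
  have hE : FibCat.IsEquivOver (BasedFunctor.comp (FibCat.fpLift h π' e) (fpSwap π (AlgSt.ofSpMap g))) :=
    isEquivOver_comp he (isEquivOver_fpSwap π (AlgSt.ofSpMap g))
  exact isCatModuliIn_comp_equiv hE h1

theorem exists_isTwoCartOver_moduli_of_etale {𝒳 𝒳' : AlgSt.Cat S}
    (h𝒳 : AlgSt.IsAlgStack Scheme.fppfPrecoverage 𝒳) (h𝒳' : AlgSt.IsAlgStack Scheme.fppfPrecoverage 𝒳')
    (hw : AlgSt.IsWellNighAffine 𝒳) (hw' : AlgSt.IsWellNighAffine 𝒳') (h : 𝒳' ⥤ᵇ 𝒳)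
    (het : AlgSt.RepByAlgSpWith AlgSp.IsEtaleMor h)
    (haut : ∀ x' : 𝒳'.obj, Function.Bijective (Gerb.autMap h x'))
    (M : AlgSp.Sp S) (π : 𝒳 ⥤ᵇ AlgSt.ofSp M) (hπ : AlgSt.IsCatModuli π)
    (M' : AlgSp.Sp S) (π' : 𝒳' ⥤ᵇ AlgSt.ofSp M') (hπ' : AlgSt.IsCatModuli π') :
    ∃ (g : M' ⟶ M) (e : BasedFunctor.comp h π ≅ BasedFunctor.comp π' (AlgSt.ofSpMap g)),
      AlgSp.IsEtaleMor g ∧ FibCat.IsTwoCartOver h π' e := by
  have hsep : AlgSt.IsSeparatedMor h := isSeparatedMor_of_over h𝒳.isStack.1 h𝒳'.isStack.1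
    (WnaSep.isSeparatedOver h𝒳 hw) (WnaSep.isSeparatedOver h𝒳' hw') h
  obtain ⟨M₀, π₀, M₁, π₁, g, e, hM, hunif, hge, hgs, he⟩ :=
    exists_etale_moduli h𝒳 h𝒳' hw h het hsep haut
  have hflat : AlgSp.LocP @Flat ((AlgSp.yon S).map g) :=
    K597.locP_mono (fun _ _ f (hf : Etale f) => (inferInstance : Flat f))
      (K597.locP_etale_of_isEtaleMor ((AlgSp.isEtaleMor_yon_map_iff g).2 hge))
  have hπ₁ : AlgSt.IsCatModuli π₁ := isCatModuli_of_isTwoCartOver hunif (AlgSp.IsAlgSpace.yon_obj M₁) hflat e he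
  obtain ⟨i, hi⟩ := exists_iso_of_isCatModuliIn hunif.1 hπ
  obtain ⟨i', hi'⟩ := exists_iso_of_isCatModuliIn hπ₁ hπ'
  obtain ⟨e₁⟩ : Nonempty (BasedFunctor.comp h π ≅
      BasedFunctor.comp π' (AlgSt.ofSpMap (i'.symm.hom ≫ (AlgSp.yon S).map g ≫ i.hom))) :=
    (nonempty_iso_ofPsh_iff (Φ := BasedFunctor.comp h π)
      (Ψ := BasedFunctor.comp π' (AlgSt.ofSpMap (i'.symm.hom ≫ (AlgSp.yon S).map g ≫ i.hom)))).2 (fun z => by
        have h1 := (nonempty_iso_ofPsh_iff (Φ := BasedFunctor.comp h π₀)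
          (Ψ := BasedFunctor.comp π₁ (AlgSt.ofSpMap ((AlgSp.yon S).map g)))).1 ⟨e⟩ z
        refine (hi (h.obj z)).symm.trans ?_
        refine (congrArg (AlgSt.ofSpMap i.hom).obj h1).trans ?_
        change (AlgSt.ofSpMap ((AlgSp.yon S).map g ≫ i.hom)).obj (π₁.obj z) =
          (AlgSt.ofSpMap (i'.symm.hom ≫ (AlgSp.yon S).map g ≫ i.hom)).obj (π'.obj z)
        rw [← hi' z]
        change _ = (AlgSt.ofSpMap (i'.hom ≫ i'.symm.hom ≫ (AlgSp.yon S).map g ≫ i.hom)).obj (π₁.obj z)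
        rw [Iso.symm_hom, i'.hom_inv_id_assoc])
  refine ⟨i'.symm.hom ≫ (AlgSp.yon S).map g ≫ i.hom, e₁, ?_, ?_⟩
  · exact isEtaleMor_iso_comp i'.symm (isEtaleMor_comp_iso ((AlgSp.isEtaleMor_yon_map_iff g).2 hge) i)
  · exact SqTrans.isTwoCartOver_trans i i' hi hi' (by rw [Iso.symm_hom, i'.hom_inv_id_assoc]) he e₁

end K746.EtWna
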