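import Groth.Agent.AlgSt.K746.OGpd
import Groth.Agent.AlgSt.K746.Act

/-!
# Actions of a groupoid given by points
-/

set_option autoImplicit false
set_option backward.isDefEq.respectTransparency false
set_option backward.isDefEq.respectTransparency.types false

universe u

open CategoryTheory CategoryTheory.Limits AlgebraicGeometry Opposite

namespace K746

open Groth.Agent.Grpsch.Points

variable {S : Scheme.{u}} (O : OGpd S) {W : Over S} (c : W ⟶ O.U)

/-- An action, on points over `S`. -/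
structure OAct where
  act : ∀ {T : Over S} (r : T ⟶ O.R) (w : T ⟶ W), r ≫ O.s = w ≫ c → (T ⟶ W)
  comp_act : ∀ {T T' : Over S} (f : T' ⟶ T) (r : T ⟶ O.R) (w : T ⟶ W) (h : r ≫ O.s = w ≫ c)
    (h' : (f ≫ r) ≫ O.s = (f ≫ w) ≫ c), f ≫ act r w h = act (f ≫ r) (f ≫ w) h'
  act_c : ∀ {T : Over S} (r : T ⟶ O.R) (w : T ⟶ W) (h : r ≫ O.s = w ≫ c), act r w h ≫ c = r ≫ O.t
  one_act : ∀ {T : Over S} (w : T ⟶ W) (h : (w ≫ c ≫ O.e) ≫ O.s = w ≫ c), act (w ≫ c ≫ O.e) w h = w
  mul_act : ∀ {T : Over S} (r r' : T ⟶ O.R) (w : T ⟶ W) (h : r ≫ O.s = r' ≫ O.t) (h' : r' ≫ O.s = w ≫ c)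
    (h₁ : O.mul r r' h ≫ O.s = w ≫ c) (h₂ : r ≫ O.s = act r' w h' ≫ c),
    act (O.mul r r' h) w h₁ = act r (act r' w h') h₂

namespace OAct

variable {O c} (A : OAct O c)

theorem act_congr {T : Over S} {r r' : T ⟶ O.R} {w w' : T ⟶ W} (h : r ≫ O.s = w ≫ c) (hr : r = r') (hw : w = w') :
    A.act r w h = A.act r' w' (by rw [← hr, ← hw, h]) := by
  subst hr hw; rfl

/-- the universal action map -/
noncomputable def a : pullback O.s.left c.left ⟶ W.left :=
  (A.act (T := Over.mk (pullback.fst O.s.left c.left ≫ O.R.hom)) (Over.homMk (pullback.fst _ _) rfl)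
    (Over.homMk (pullback.snd _ _) (by
      change pullback.snd O.s.left c.left ≫ W.hom = pullback.fst O.s.left c.left ≫ O.R.hom
      rw [← Over.w O.s, pullback.condition_assoc, Over.w]))
    (by ext; exact pullback.condition)).left

theorem over_eq {T : Scheme.{u}} (r : T ⟶ O.R.left) (w : T ⟶ W.left) (h : r ≫ O.s.left = w ≫ c.left) :
    w ≫ W.hom = r ≫ O.R.hom := by
  rw [← Over.w O.s, reassoc_of% h, Over.w]

theorem lift_a {T : Scheme.{u}} (r : T ⟶ O.R.left) (w : T ⟶ W.left) (h : r ≫ O.s.left = w ≫ c.left) :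
    pullback.lift r w h ≫ A.a = (A.act (T := Over.mk (r ≫ O.R.hom)) (Over.homMk r rfl)
      (Over.homMk w (over_eq r w h)) (by ext; exact h)).left := by
  let f : Over.mk (r ≫ O.R.hom) ⟶ Over.mk (pullback.fst O.s.left c.left ≫ O.R.hom) :=
    Over.homMk (pullback.lift r w h) (by
      change pullback.lift r w h ≫ pullback.fst _ _ ≫ O.R.hom = r ≫ O.R.hom
      rw [pullback.lift_fst_assoc])
  have h1 := A.comp_act f (Over.homMk (pullback.fst _ _) rfl)
    (Over.homMk (pullback.snd _ _) (by
      change pullback.snd O.s.left c.left ≫ W.hom = pullback.fst O.s.left c.left ≫ O.R.hom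
      rw [← Over.w O.s, pullback.condition_assoc, Over.w]))
    (by ext; exact pullback.condition) (by
      ext
      change (pullback.lift r w h ≫ pullback.fst _ _) ≫ O.s.left = (pullback.lift r w h ≫ pullback.snd _ _) ≫ c.left
      rw [pullback.lift_fst, pullback.lift_snd, h])
  refine (congrArg CommaMorphism.left h1).trans ?_
  refine congrArg CommaMorphism.left (A.act_congr _ ?_ ?_)
  · apply Over.OverMorphism.ext; exact pullback.lift_fst _ _ _
  · apply Over.OverMorphism.ext; exact pullback.lift_snd _ _ _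

theorem lift_a' {T : Over S} (r : T ⟶ O.R) (w : T ⟶ W) (h : r ≫ O.s = w ≫ c) :
    pullback.lift r.left w.left (congrArg CommaMorphism.left h) ≫ A.a = (A.act r w h).left := by
  have hl : r.left ≫ O.s.left = w.left ≫ c.left := congrArg CommaMorphism.left h
  refine (A.lift_a r.left w.left hl).trans ?_
  have hT : r.left ≫ O.R.hom = T.hom := Over.w r
  let f : T ⟶ Over.mk (r.left ≫ O.R.hom) := Over.homMk (𝟙 _) (by
    change 𝟙 _ ≫ r.left ≫ O.R.hom = T.hom
    rw [Category.id_comp, hT])
  have hk : (Over.homMk r.left rfl : Over.mk (r.left ≫ O.R.hom) ⟶ O.R) ≫ O.s =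
      (Over.homMk w.left (over_eq r.left w.left hl) : Over.mk (r.left ≫ O.R.hom) ⟶ W) ≫ c := by
    apply Over.OverMorphism.ext
    exact hl
  have h1 := A.comp_act f (Over.homMk r.left rfl) (Over.homMk w.left (over_eq r.left w.left hl)) hk (by
    rw [Category.assoc, Category.assoc, hk])
  have h2 := congrArg CommaMorphism.left h1
  have h3 : 𝟙 _ ≫ (A.act (T := Over.mk (r.left ≫ O.R.hom)) (Over.homMk r.left rfl)
      (Over.homMk w.left (over_eq r.left w.left hl)) hk).left = _ := Category.id_comp _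
  refine h3.symm.trans (h2.trans ?_)
  refine congrArg CommaMorphism.left (A.act_congr _ ?_ ?_)
  · apply Over.OverMorphism.ext; exact Category.id_comp _
  · apply Over.OverMorphism.ext; exact Category.id_comp _

/-- The action of the groupoid scheme. -/
noncomputable def toAct : Act O.toGpd (show W.left ⟶ O.toGpd.U from c.left) where
  act := A.a
  act_c {T} r w h := by
    have h1 := A.lift_a r w h
    have h2 := congrArg CommaMorphism.left (A.act_c (T := Over.mk (r ≫ O.R.hom)) (Over.homMk r rfl)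
      (Over.homMk w (over_eq r w h)) (by ext; exact h))
    refine (congrArg (· ≫ c.left) h1).trans ?_
    exact h2
  one_act {T} w h := by
    let T' : Over S := Over.mk (w ≫ W.hom)
    let w' : T' ⟶ W := Over.homMk w rfl
    have h' : (w' ≫ c ≫ O.e) ≫ O.s = w' ≫ c := by
      rw [Category.assoc, Category.assoc, O.e_s, Category.comp_id]
    have h1 := A.lift_a' (w' ≫ c ≫ O.e) w' h'
    rw [A.one_act] at h1
    exact h1
  mul_act {T} r r' w h h' h₁ h₂ := by
    let T' : Over S := Over.mk (r ≫ O.R.hom)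
    let ρ : T' ⟶ O.R := Over.homMk r rfl
    let ρ' : T' ⟶ O.R := Over.homMk r' (O.over_eq r r' h)
    let ω : T' ⟶ W := Over.homMk w ((over_eq r' w h').trans (O.over_eq r r' h))
    have e : ρ ≫ O.s = ρ' ≫ O.t := by ext; exact h
    have e' : ρ' ≫ O.s = ω ≫ c := by ext; exact h'
    have e₁ : O.mul ρ ρ' e ≫ O.s = ω ≫ c := by rw [O.mul_s, e']
    have e₂ : ρ ≫ O.s = A.act ρ' ω e' ≫ c := by rw [A.act_c, e]
    have k1 := O.lift_c' ρ ρ' e
    have k2 := A.lift_a' (O.mul ρ ρ' e) ω e₁
    have k3 := A.lift_a' ρ' ω e'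
    have k4 := A.lift_a' ρ (A.act ρ' ω e') e₂
    have k5 := congrArg CommaMorphism.left (A.mul_act ρ ρ' ω e e' e₁ e₂)
    have p1 : (pullback.lift (mul O.toGpd r r' h) w h₁ : T ⟶ pullback O.toGpd.s (show W.left ⟶ O.toGpd.U from c.left)) =
        pullback.lift (O.mul ρ ρ' e).left ω.left (congrArg CommaMorphism.left e₁) := by
      apply pullback.hom_ext
      · exact (pullback.lift_fst _ _ _).trans (Eq.trans k1 (pullback.lift_fst (O.mul ρ ρ' e).left ω.left _).symm)
      · exact (pullback.lift_snd _ _ _).trans (pullback.lift_snd (O.mul ρ ρ' e).left ω.left _).symm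
    have p2 : (pullback.lift r (pullback.lift r' w h' ≫ A.a) h₂ :
        T ⟶ pullback O.toGpd.s (show W.left ⟶ O.toGpd.U from c.left)) =
        pullback.lift ρ.left (A.act ρ' ω e').left (congrArg CommaMorphism.left e₂) := by
      apply pullback.hom_ext
      · exact (pullback.lift_fst _ _ _).trans (pullback.lift_fst ρ.left (A.act ρ' ω e').left _).symm
      · exact (pullback.lift_snd _ _ _).trans (Eq.trans k3 (pullback.lift_snd ρ.left (A.act ρ' ω e').left _).symm)
    refine (congrArg (· ≫ A.a) p1).trans (k2.trans (k5.trans (k4.symm.trans (congrArg (· ≫ A.a) p2).symm)))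

theorem triv (h : ∀ {T : Over S} (r : T ⟶ O.R) (w : T ⟶ W) (h : r ≫ O.s = w ≫ c), r ≫ O.t = w ≫ c →
    A.act r w h = w) : A.toAct.Triv := by
  intro T r w h1 h2
  refine (A.lift_a r w h1).trans ?_
  exact congrArg CommaMorphism.left (h _ _ _ (by ext; exact h2))

end OAct

end K746
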