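import Groth.Agent.AlgSt.K746.FRepEx
import Groth.Agent.AlgSt.K746.OAct
import Groth.Agent.Stk.K751.FF
import Groth.Agent.Stk.K751.Loc

/-!
# The action of the groupoid of a chart on the base change of the chart
-/

set_option autoImplicit false
set_option backward.isDefEq.respectTransparency false
set_option backward.isDefEq.respectTransparency.types false

universe u₄ v₄ u₃ v₃ v u

open CategoryTheory CategoryTheory.Limits AlgebraicGeometry Opposite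
open K734.Fib K598.Site

namespace K746

variable {S : Scheme.{u}} {𝒳 : BasedCategory.{v₃, u₃} (Over S)} {𝒳' : BasedCategory.{v₄, u₄} (Over S)}
  {U R W : Over S} {x : FibCat.overCat U ⥤ᵇ 𝒳} (G : ChartRep x R) {h : 𝒳' ⥤ᵇ 𝒳} (H : FRep x h W)
  (h𝒳 : FibCat.IsFibGrpd 𝒳.p) (h𝒳' : FibCat.IsFibGrpd 𝒳'.p)

/-- The action on `W = U ×_𝒳 𝒳'`. -/
noncomputable def fAct : OAct (G.toOGpd h𝒳) H.c where
  act r w e := (ActRel.exists_act (G := G) (H := H) (r := r) (w := w) h𝒳 h𝒳' e).choose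
  comp_act f r w e e' :=
    ((ActRel.exists_act (G := G) (H := H) (r := r) (w := w) h𝒳 h𝒳' e).choose_spec.restrict h𝒳 h𝒳' f).unique h𝒳 h𝒳'
      (ActRel.exists_act (G := G) (H := H) (r := f ≫ r) (w := f ≫ w) h𝒳 h𝒳' e').choose_spec
  act_c r w e := (ActRel.exists_act (G := G) (H := H) (r := r) (w := w) h𝒳 h𝒳' e).choose_spec.tgt
  one_act w e := (ActRel.exists_act (G := G) (H := H) (r := w ≫ H.c ≫ G.e) (w := w) h𝒳 h𝒳' e).choose_spec.unique h𝒳 h𝒳'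
    (by
      have h1 := ActRel.one (G := G) (H := H) h𝒳 h𝒳' w rfl
      rwa [Category.assoc] at h1)
  mul_act r r' w e e' e₁ e₂ := by
    have a1 := (ActRel.exists_act (G := G) (H := H) (r := r') (w := w) h𝒳 h𝒳' e').choose_spec
    have a2 := (ActRel.exists_act (G := G) (H := H) (r := r) (w := _) h𝒳 h𝒳' e₂).choose_spec
    exact (ActRel.exists_act (G := G) (H := H) (w := w) h𝒳 h𝒳' e₁).choose_spec.unique h𝒳 h𝒳'
      (a1.mul' h𝒳 h𝒳' e a2)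

theorem fAct_rel {T : Over S} (r : T ⟶ R) (w : T ⟶ W) (e : r ≫ G.s = w ≫ H.c) :
    ActRel G H r w ((fAct G H h𝒳 h𝒳').act r w e) :=
  (ActRel.exists_act (G := G) (H := H) (r := r) (w := w) h𝒳 h𝒳' e).choose_spec

variable {G H h𝒳 h𝒳'} in
theorem fAct_eq {T : Over S} {r : T ⟶ R} {w w' : T ⟶ W} (a : ActRel G H r w w') :
    (fAct G H h𝒳 h𝒳').act r w a.src = w' :=
  (fAct_rel G H h𝒳 h𝒳' r w a.src).unique h𝒳 h𝒳' a

/-- the arrows of the action groupoid -/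
noncomputable abbrev aR : Over S := Over.mk (pullback.fst G.s.left H.c.left ≫ R.hom)

/-- source -/
noncomputable def aS : aR G H ⟶ W := Over.homMk (pullback.snd G.s.left H.c.left) (by
  change pullback.snd G.s.left H.c.left ≫ W.hom = pullback.fst G.s.left H.c.left ≫ R.hom
  rw [← Over.w G.s, pullback.condition_assoc, Over.w])

/-- underlying arrow -/
noncomputable def aF : aR G H ⟶ R := Over.homMk (pullback.fst G.s.left H.c.left) rfl

/-- target -/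
noncomputable def aT : aR G H ⟶ W :=
  (fAct G H h𝒳 h𝒳').act (aF G H) (aS G H) (by ext; exact pullback.condition)

theorem aT_left : (aT G H h𝒳 h𝒳').left = (fAct G H h𝒳 h𝒳').a := rfl

theorem aF_s : aF G H ≫ G.s = aS G H ≫ H.c := by ext; exact pullback.condition

theorem aF_s' {T : Over S} (ρ : T ⟶ aR G H) : (ρ ≫ aF G H) ≫ G.s = (ρ ≫ aS G H) ≫ H.c :=
  (Category.assoc _ _ _).trans ((congrArg (ρ ≫ ·) (aF_s G H)).trans (Category.assoc _ _ _).symm)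

theorem hom_aR_eq {T : Over S} (ρ : T ⟶ aR G H) : (fAct G H h𝒳 h𝒳').act (ρ ≫ aF G H) (ρ ≫ aS G H)
    (aF_s' G H ρ) = ρ ≫ aT G H h𝒳 h𝒳' :=
  ((fAct G H h𝒳 h𝒳').comp_act ρ (aF G H) (aS G H) (aF_s G H) _).symm

/-- the point `(r, w)` -/
noncomputable def aMk {T : Over S} (r : T ⟶ R) (w : T ⟶ W) (e : r ≫ G.s = w ≫ H.c) : T ⟶ aR G H :=
  Over.homMk (pullback.lift r.left w.left (congrArg CommaMorphism.left e)) (by
    change pullback.lift r.left w.left _ ≫ pullback.fst _ _ ≫ R.hom = T.hom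
    rw [pullback.lift_fst_assoc, Over.w])

theorem aMk_F {T : Over S} (r : T ⟶ R) (w : T ⟶ W) (e : r ≫ G.s = w ≫ H.c) : aMk G H r w e ≫ aF G H = r := by
  ext; exact pullback.lift_fst _ _ _

theorem aMk_S {T : Over S} (r : T ⟶ R) (w : T ⟶ W) (e : r ≫ G.s = w ≫ H.c) : aMk G H r w e ≫ aS G H = w := by
  ext; exact pullback.lift_snd _ _ _

theorem exists_actRel_iff {T : Over S} (w w' : T ⟶ W) :
    (∃ r, ActRel G H r w w') ↔ ∃ ρ : T ⟶ aR G H, ρ ≫ aS G H = w ∧ ρ ≫ aT G H h𝒳 h𝒳' = w' := by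
  constructor
  · rintro ⟨r, a⟩
    refine ⟨aMk G H r w a.src, aMk_S G H r w a.src, (hom_aR_eq G H h𝒳 h𝒳' _).symm.trans ?_⟩
    refine Eq.trans ?_ (fAct_eq (h𝒳 := h𝒳) (h𝒳' := h𝒳') a)
    exact (fAct G H h𝒳 h𝒳').act_congr _ (aMk_F G H r w a.src) (aMk_S G H r w a.src)
  · rintro ⟨ρ, rfl, rfl⟩
    refine ⟨ρ ≫ aF G H, ?_⟩
    have h1 := fAct_rel G H h𝒳 h𝒳' (ρ ≫ aF G H) (ρ ≫ aS G H) (aF_s' G H ρ)
    rwa [hom_aR_eq G H h𝒳 h𝒳' ρ] at h1

/-- The chart of `𝒳'` given by the universal object. -/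
noncomputable abbrev fCh : FibCat.overCat W ⥤ᵇ 𝒳' := K751.Test.yo h𝒳' H.y H.hy

theorem relBy_fCh : RelBy (chF (fCh H h𝒳')) (aS G H) (aT G H h𝒳 h𝒳') := by
  intro T u v
  refine Iff.trans ?_ ((ActRel.exists_iff h𝒳 h𝒳').symm.trans (exists_actRel_iff G H h𝒳 h𝒳' u v))
  constructor
  · rintro ⟨φ, hφ⟩
    exact ⟨_, _, K751.Test.yoε h𝒳' H.y H.hy (Over.mk u), K751.Test.yoε h𝒳' H.y H.hy (Over.mk v), φ,
      K751.Test.yoε_lift h𝒳' H.y H.hy (Over.mk u), K751.Test.yoε_lift h𝒳' H.y H.hy (Over.mk v), hφ⟩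
  · rintro ⟨z, z', m, m', β, hm, hm', hβ⟩
    obtain ⟨e₁, he₁, -⟩ := exists_iso_of_lift h𝒳' (K751.Test.yoε_lift h𝒳' H.y H.hy (Over.mk u)) hm
    obtain ⟨e₂, he₂, -⟩ := exists_iso_of_lift h𝒳' hm' (K751.Test.yoε_lift h𝒳' H.y H.hy (Over.mk v))
    exact ⟨e₁.hom ≫ β ≫ e₂.hom, he₁.comp (hβ.comp he₂)⟩

/-- Stabilizers act trivially when `h` is surjective on automorphisms. -/
theorem triv_fAct (haut : ∀ (z : 𝒳'.obj) (α : h.obj z ⟶ h.obj z), IsVert 𝒳 α →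
    ∃ β : z ⟶ z, IsVert 𝒳' β ∧ h.map β = α) : (fAct G H h𝒳 h𝒳').toAct.Triv :=
  (fAct G H h𝒳 h𝒳').triv fun r w e e' => (fAct_rel G H h𝒳 h𝒳' r w e).triv h𝒳 h𝒳' haut e'

variable {G H}

include h𝒳 in
/-- The universal chart is locally surjective. -/
theorem locSurj_fCh (hls : LocSurj (AlgSp.J S) x) : LocSurj (AlgSp.J S) (fCh H h𝒳') := by
  intro z
  obtain ⟨Q, hQ, hz⟩ := hls (h.obj z)
  have hb : 𝒳.p.obj (h.obj z) = 𝒳'.p.obj z := h.w_obj z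
  refine ⟨Q.pullback (eqToHom hb.symm), (AlgSp.J S).pullback_stable _ hQ, fun T f hf => ?_⟩
  obtain ⟨a, m, hm⟩ := hz _ hf
  obtain ⟨z', n, hn⟩ := exists_lift h𝒳' rfl f
  have hT : a.left = T := (x.w_obj a).symm.trans (IsHomLift.domain_eq 𝒳.p (f ≫ eqToHom hb.symm) m)
  subst hT
  have hn' : 𝒳.p.IsHomLift (f ≫ eqToHom hb.symm) (h.map n) := by
    have h1 : 𝒳.p.IsHomLift f (h.map n) := BasedFunctor.preserves_isHomLift h f n
    have h2 : 𝒳.p.obj (h.obj z') = a.left := IsHomLift.domain_eq 𝒳.p f (h.map n)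
    refine IsHomLift.of_fac' 𝒳.p _ _ h2 rfl ?_
    rw [IsHomLift.fac' 𝒳.p f (h.map n)]
    simp
  obtain ⟨e, he, -⟩ := exists_iso_of_lift h𝒳 hm hn'
  obtain ⟨w, -, hc, m', hm', -⟩ := H.exists_isPt (u := a.hom) (z := z') e.hom he
  obtain ⟨e', he', -⟩ := exists_iso_of_lift h𝒳' (K751.Test.yoε_lift h𝒳' H.y H.hy (Over.mk w)) hm'
  exact ⟨Over.mk w, e'.hom ≫ n, lift_vert_comp he' hn⟩

end K746
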