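import Groth.Agent.AlgSt.K746.ModBC

/-!
# The base change of a chart along a functor

`x : (Sch/U) ⟶ 𝒳`, `h : 𝒳' ⟶ 𝒳`.  `FRep x h W`: the object `W` represents `U ×_𝒳 𝒳'`, by an object `y` of `𝒳'` over
`W` and `θ : x(c) ⟶ h(y)`.  `FRep.IsPt w φ`: the point `w` of `W` corresponds to `φ : x(u) ⟶ h(z)`.
`ActRel G H r w w'`: `r · w = w'`, for the groupoid `G` of the chart.
-/

set_option autoImplicit false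
set_option backward.isDefEq.respectTransparency false
set_option backward.isDefEq.respectTransparency.types false

universe u₄ v₄ u₃ v₃ v u

open CategoryTheory CategoryTheory.Limits AlgebraicGeometry Opposite
open K734.Fib

namespace K746

variable {C : Type u} [Category.{v} C] {𝒳 : BasedCategory.{v₃, u₃} C} {𝒳' : BasedCategory.{v₄, u₄} C} {U : C}

theorem rs_comp_lift (x : FibCat.overCat U ⥤ᵇ 𝒳) {T T' : C} (f : T' ⟶ T) {u : T ⟶ U} {u' : T' ⟶ U} (h : f ≫ u = u')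
    {b : 𝒳.obj} {φ : Xo x u ⟶ b} (hφ : IsVert 𝒳 φ) : 𝒳.p.IsHomLift f (rs x f h ≫ φ) :=
  lift_comp_vert' (rs_lift x f h) hφ

/-- `W` represents `U ×_𝒳 𝒳'`. -/
structure FRep (x : FibCat.overCat U ⥤ᵇ 𝒳) (h : 𝒳' ⥤ᵇ 𝒳) (W : C) where
  c : W ⟶ U
  y : 𝒳'.obj
  hy : 𝒳'.p.obj y = W
  θ : Xo x c ⟶ h.obj y
  vert : IsVert 𝒳 θ
  exu : ∀ {T : C} (u : T ⟶ U) (z : 𝒳'.obj) (φ : Xo x u ⟶ h.obj z), IsVert 𝒳 φ →
    ∃! w : T ⟶ W, ∃ (hc : w ≫ c = u) (m : z ⟶ y), 𝒳'.p.IsHomLift w m ∧ φ ≫ h.map m = rs x w hc ≫ θ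

namespace FRep

variable {x : FibCat.overCat U ⥤ᵇ 𝒳} {h : 𝒳' ⥤ᵇ 𝒳} {W : C} (H : FRep x h W)

/-- the point `w` of `W` corresponds to `φ` -/
def IsPt {T : C} (w : T ⟶ W) {u : T ⟶ U} {z : 𝒳'.obj} (φ : Xo x u ⟶ h.obj z) : Prop :=
  IsVert 𝒳 φ ∧ ∃ (hc : w ≫ H.c = u) (m : z ⟶ H.y), 𝒳'.p.IsHomLift w m ∧ φ ≫ h.map m = rs x w hc ≫ H.θ

variable {H} {T : C} {w : T ⟶ W} {u : T ⟶ U} {z : 𝒳'.obj} {φ : Xo x u ⟶ h.obj z}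

theorem IsPt.vert (hw : H.IsPt w φ) : IsVert 𝒳 φ := hw.1
theorem IsPt.hc (hw : H.IsPt w φ) : w ≫ H.c = u := hw.2.1

theorem IsPt.base (hw : H.IsPt w φ) : 𝒳'.p.obj z = T :=
  (h.w_obj z).symm.trans (hw.vert.obj_eq.symm.trans (Xo_base x u))

theorem IsPt.unique {w' : T ⟶ W} (hw : H.IsPt w φ) (hw' : H.IsPt w' φ) : w = w' :=
  (H.exu u z φ hw.vert).unique hw.2 hw'.2

variable (H) in
theorem exists_isPt (φ : Xo x u ⟶ h.obj z) (hφ : IsVert 𝒳 φ) : ∃ w : T ⟶ W, H.IsPt w φ := by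
  obtain ⟨w, hw, -⟩ := H.exu u z φ hφ
  exact ⟨w, hφ, hw⟩

variable (h𝒳' : FibCat.IsFibGrpd 𝒳'.p)

include h𝒳' in
theorem IsPt.comp_map (hw : H.IsPt w φ) {z' : 𝒳'.obj} {β : z ⟶ z'} (hβ : IsVert 𝒳' β) :
    H.IsPt w (φ ≫ h.map β) := by
  obtain ⟨hφ, hc, m, hm, e⟩ := hw
  have := isIso_of_vert h𝒳' hβ
  refine ⟨hφ.comp (hβ.map h), hc, CategoryTheory.inv β ≫ m, ?_, ?_⟩
  · exact lift_vert_comp (IsVert.isIso_inv hβ) hm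
  · rw [Category.assoc, ← h.map_comp, IsIso.hom_inv_id_assoc, e]

variable (h𝒳 : FibCat.IsFibGrpd 𝒳.p)

include h𝒳 in
/-- Every point comes from some `φ`. -/
theorem exists_isPt_hom (hy : FibCat.IsFibGrpd 𝒳'.p) (w : T ⟶ W) {u : T ⟶ U} (hc : w ≫ H.c = u) :
    ∃ (z : 𝒳'.obj) (φ : Xo x u ⟶ h.obj z), H.IsPt w φ := by
  obtain ⟨z, m, hm⟩ := exists_lift hy H.hy w
  have h1 : 𝒳.p.IsHomLift w (h.map m) := BasedFunctor.preserves_isHomLift h w m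
  have h2 : 𝒳.p.IsHomLift (𝟙 T ≫ w) (rs x w hc ≫ H.θ) := by
    rw [Category.id_comp]
    exact rs_comp_lift x w hc H.vert
  obtain ⟨φ, h3, h4⟩ := exists_fac' h𝒳 h1 h2
  exact ⟨z, φ, IsVert.of_lift h3, hc, m, hm, h4⟩

include h𝒳 h𝒳' in
/-- Two descriptions of the same point. -/
theorem IsPt.exists_iso (hw : H.IsPt w φ) {z' : 𝒳'.obj} {φ' : Xo x u ⟶ h.obj z'} (hw' : H.IsPt w φ') :
    ∃ β : z ⟶ z', IsVert 𝒳' β ∧ φ ≫ h.map β = φ' := by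
  obtain ⟨hφ, hc, m, hm, e⟩ := hw
  obtain ⟨hφ', hc', m', hm', e'⟩ := hw'
  obtain ⟨β, hβ, hβ'⟩ := exists_iso_of_lift h𝒳' hm hm'
  refine ⟨β.hom, hβ, ?_⟩
  have h1 : 𝒳.p.IsHomLift (𝟙 T) (φ ≫ h.map β.hom) := (hφ.comp (hβ.map h)).lift (Xo_base x u)
  have h2 : 𝒳.p.IsHomLift (𝟙 T) φ' := hφ'.lift (Xo_base x u)
  refine fac_unique' h𝒳 (h.map m') h1 h2 ?_
  rw [Category.assoc, ← h.map_comp, hβ', e, e']

theorem IsPt.restrict (hw : H.IsPt w φ) {T' : C} {f : T' ⟶ T} {u' : T' ⟶ U} (hu : f ≫ u = u') {z' : 𝒳'.obj}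
    {n : z' ⟶ z} (hn : 𝒳'.p.IsHomLift f n) {φ' : Xo x u' ⟶ h.obj z'} (hφ' : IsVert 𝒳 φ')
    (e : φ' ≫ h.map n = rs x f hu ≫ φ) : H.IsPt (f ≫ w) φ' := by
  obtain ⟨hφ, hc, m, hm, e'⟩ := hw
  refine ⟨hφ', by rw [Category.assoc, hc, hu], n ≫ m, IsHomLift.comp 𝒳'.p f w n m, ?_⟩
  rw [h.map_comp, reassoc_of% e, e', ← rs_comp x w f hc hu, Category.assoc]

include h𝒳 h𝒳' in
theorem IsPt.exists_restrict (hw : H.IsPt w φ) {T' : C} (f : T' ⟶ T) {u' : T' ⟶ U} (hu : f ≫ u = u') :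
    ∃ (z' : 𝒳'.obj) (n : z' ⟶ z) (φ' : Xo x u' ⟶ h.obj z'), 𝒳'.p.IsHomLift f n ∧
      φ' ≫ h.map n = rs x f hu ≫ φ ∧ H.IsPt (f ≫ w) φ' := by
  obtain ⟨z', n, hn⟩ := exists_lift h𝒳' hw.base f
  have h1 : 𝒳.p.IsHomLift f (h.map n) := BasedFunctor.preserves_isHomLift h f n
  have h2 : 𝒳.p.IsHomLift (𝟙 T' ≫ f) (rs x f hu ≫ φ) := by
    rw [Category.id_comp]
    exact rs_comp_lift x f hu hw.vert
  obtain ⟨φ', h3, h4⟩ := exists_fac' h𝒳 h1 h2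
  exact ⟨z', n, φ', hn, h4, hw.restrict hu hn (IsVert.of_lift h3) h4⟩

end FRep

/-- `r · w = w'` -/
def ActRel {x : FibCat.overCat U ⥤ᵇ 𝒳} {R : C} (G : ChartRep x R) {h : 𝒳' ⥤ᵇ 𝒳} {W : C} (H : FRep x h W) {T : C}
    (r : T ⟶ R) (w w' : T ⟶ W) : Prop :=
  ∃ (u v : T ⟶ U) (ψ : Xo x u ⟶ Xo x v) (z : 𝒳'.obj) (φ : Xo x v ⟶ h.obj z),
    G.IsArr r ψ ∧ H.IsPt w (ψ ≫ φ) ∧ H.IsPt w' φ

namespace ActRel

open FRep PairRep ChartRep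

variable {x : FibCat.overCat U ⥤ᵇ 𝒳} {R : C} {G : ChartRep x R} {h : 𝒳' ⥤ᵇ 𝒳} {W : C} {H : FRep x h W} {T : C}
  {r : T ⟶ R} {w w' : T ⟶ W}

theorem src (a : ActRel G H r w w') : r ≫ G.s = w ≫ H.c := by
  obtain ⟨u, v, ψ, z, φ, h1, h2, h3⟩ := a
  rw [h1.hs, h2.hc]

theorem tgt (a : ActRel G H r w w') : w' ≫ H.c = r ≫ G.t := by
  obtain ⟨u, v, ψ, z, φ, h1, h2, h3⟩ := a
  rw [h1.ht, h3.hc]

variable (h𝒳 : FibCat.IsFibGrpd 𝒳.p) (h𝒳' : FibCat.IsFibGrpd 𝒳'.p)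

include h𝒳 h𝒳' in
theorem exists_act (e : r ≫ G.s = w ≫ H.c) : ∃ w', ActRel G H r w w' := by
  obtain ⟨ψ, hψ⟩ := G.exists_arr h𝒳 r rfl rfl
  obtain ⟨z, φ₀, hφ₀⟩ := exists_isPt_hom (H := H) h𝒳 h𝒳' w e.symm
  have := isIso_of_vert h𝒳 hψ.vert
  obtain ⟨w', hw'⟩ := H.exists_isPt (CategoryTheory.inv ψ ≫ φ₀) ((IsVert.isIso_inv hψ.vert).comp hφ₀.vert)
  exact ⟨w', _, _, ψ, z, _, hψ, by rwa [IsIso.hom_inv_id_assoc], hw'⟩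

include h𝒳 h𝒳' in
theorem unique {w'' : T ⟶ W} (a : ActRel G H r w w') (a' : ActRel G H r w w'') : w' = w'' := by
  obtain ⟨u, v, ψ, z, φ, h1, h2, h3⟩ := a
  obtain ⟨u', v', ψ', z', φ', h1', h2', h3'⟩ := a'
  obtain rfl : u = u' := h1.hs.symm.trans h1'.hs
  obtain rfl : v = v' := h1.ht.symm.trans h1'.ht
  obtain rfl : ψ = ψ' := h1.arr_unique h𝒳 h1'
  obtain ⟨β, hβ, hβ'⟩ := h2.exists_iso h𝒳' h𝒳 h2'
  have := isIso_of_vert h𝒳 h1.vert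
  rw [Category.assoc, cancel_epi] at hβ'
  rw [← hβ'] at h3'
  exact (h3.comp_map h𝒳' hβ).unique h3'

include h𝒳 h𝒳' in
theorem one (w : T ⟶ W) {u : T ⟶ U} (hu : w ≫ H.c = u) : ActRel G H (u ≫ G.e) w w := by
  obtain ⟨z, φ, hφ⟩ := exists_isPt_hom (H := H) h𝒳 h𝒳' w hu
  exact ⟨u, u, 𝟙 _, z, φ, isArr_comp_e (G := G) u, by rwa [Category.id_comp], hφ⟩

include h𝒳' in
theorem mul' {r' : T ⟶ R} {w'' : T ⟶ W} (e : r' ≫ G.s = r ≫ G.t) (a : ActRel G H r w w') (a' : ActRel G H r' w' w'') :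
    ActRel G H (G.mul h𝒳 r' r e) w w'' := by
  obtain ⟨u, v, ψ, z, φ, h1, h2, h3⟩ := a
  obtain ⟨v', v'', ψ', z', φ', h1', h2', h3'⟩ := a'
  obtain rfl : v' = v := h1'.hs.symm.trans (e.trans h1.ht)
  obtain ⟨β, hβ, hβ'⟩ := h3.exists_iso h𝒳' h𝒳 h2'
  refine ⟨u, v'', ψ ≫ ψ', z', φ', isArr_mul h𝒳 h1 h1' e, ?_, h3'⟩
  have h4 := h2.comp_map h𝒳' hβ
  rw [Category.assoc, hβ', ← Category.assoc] at h4
  exact h4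

include h𝒳 h𝒳' in
theorem restrict {T' : C} (f : T' ⟶ T) (a : ActRel G H r w w') : ActRel G H (f ≫ r) (f ≫ w) (f ≫ w') := by
  obtain ⟨u, v, ψ, z, φ, h1, h2, h3⟩ := a
  obtain ⟨z', n, φ', hn, h4, h5⟩ := h3.exists_restrict h𝒳' h𝒳 f (rfl : f ≫ v = _)
  obtain ⟨ψ', h6⟩ := G.exists_arr h𝒳 (f ≫ r) (u := f ≫ u) (v := f ≫ v) (by rw [Category.assoc, h1.hs])
    (by rw [Category.assoc, h1.ht])
  refine ⟨_, _, ψ', z', φ', h6, ?_, h5⟩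
  refine h2.restrict rfl hn (h6.vert.comp h5.vert) ?_
  rw [Category.assoc, h4, ← Category.assoc, h1.res_w h𝒳 f rfl rfl h6, Category.assoc]

include h𝒳 h𝒳' in
/-- Two points of `W` are related by the groupoid iff the corresponding objects are isomorphic. -/
theorem exists_iff {w w' : T ⟶ W} : (∃ r, ActRel G H r w w') ↔
    ∃ (z z' : 𝒳'.obj) (m : z ⟶ H.y) (m' : z' ⟶ H.y) (β : z ⟶ z'), 𝒳'.p.IsHomLift w m ∧ 𝒳'.p.IsHomLift w' m' ∧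
      IsVert 𝒳' β := by
  constructor
  · rintro ⟨r, u, v, ψ, z, φ, h1, h2, h3⟩
    obtain ⟨-, -, m, hm, -⟩ := h2
    obtain ⟨-, -, m', hm', -⟩ := h3
    exact ⟨z, z, m, m', 𝟙 _, hm, hm', IsVert.id _⟩
  · rintro ⟨z, z', m, m', β, hm, hm', hβ⟩
    obtain ⟨z₁, φ₁, h1⟩ := exists_isPt_hom (H := H) h𝒳 h𝒳' w rfl
    obtain ⟨z₂, φ₂, h2⟩ := exists_isPt_hom (H := H) h𝒳 h𝒳' w' rfl
    obtain ⟨m₁, hm₁⟩ : ∃ m₁ : z₁ ⟶ H.y, 𝒳'.p.IsHomLift w m₁ := ⟨_, h1.2.2.choose_spec.1⟩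
    obtain ⟨m₂, hm₂⟩ : ∃ m₂ : z₂ ⟶ H.y, 𝒳'.p.IsHomLift w' m₂ := ⟨_, h2.2.2.choose_spec.1⟩
    obtain ⟨e₁, he₁, -⟩ := exists_iso_of_lift h𝒳' hm₁ hm
    obtain ⟨e₂, he₂, -⟩ := exists_iso_of_lift h𝒳' hm' hm₂
    let γ : z₁ ⟶ z₂ := e₁.hom ≫ β ≫ e₂.hom
    have hγ : IsVert 𝒳' γ := he₁.comp (hβ.comp he₂)
    have := isIso_of_vert h𝒳 h2.vert
    let ψ : Xo x (w ≫ H.c) ⟶ Xo x (w' ≫ H.c) := φ₁ ≫ h.map γ ≫ CategoryTheory.inv φ₂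
    have hψ : IsVert 𝒳 ψ := h1.vert.comp ((hγ.map h).comp (IsVert.isIso_inv h2.vert))
    obtain ⟨r, hr⟩ := G.exists_pt ψ hψ
    refine ⟨r, _, _, ψ, z₂, φ₂, hr, ?_, h2⟩
    have h3 : ψ ≫ φ₂ = φ₁ ≫ h.map γ := by simp [ψ]
    rw [h3]
    exact h1.comp_map h𝒳' hγ

include h𝒳 h𝒳' in
/-- If `h` is surjective on automorphisms, stabilizers act trivially. -/
theorem triv (haut : ∀ (z : 𝒳'.obj) (α : h.obj z ⟶ h.obj z), IsVert 𝒳 α → ∃ β : z ⟶ z, IsVert 𝒳' β ∧ h.map β = α)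
    (a : ActRel G H r w w') (e : r ≫ G.t = w ≫ H.c) : w' = w := by
  have hs := a.src
  obtain ⟨u, v, ψ, z, φ, h1, h2, h3⟩ := a
  obtain rfl : u = v := by rw [← h1.hs, ← h1.ht, hs, e]
  have hi := isIso_of_vert h𝒳 h3.vert
  obtain ⟨β, hβ, hβ'⟩ := haut z (CategoryTheory.inv φ ≫ ψ ≫ φ)
    ((IsVert.isIso_inv h3.vert).comp (h1.vert.comp h3.vert))
  have h4 := h3.comp_map h𝒳' hβ
  rw [hβ', IsIso.hom_inv_id_assoc] at h4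
  exact h4.unique h2

end ActRel

end K746
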