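import Groth.Agent.AlgSt.K746.FRep

/-!
# Existence of the base change of a chart along a functor
-/

set_option autoImplicit false
set_option backward.isDefEq.respectTransparency false
set_option backward.isDefEq.respectTransparency.types false

universe u₄ v₄ u₃ v₃ v u

open CategoryTheory CategoryTheory.Limits AlgebraicGeometry Opposite
open K734.Fib

namespace K746.FRepEx

section

variable {C : Type u} [Category.{v} C] {𝒳 : BasedCategory.{v₃, u₃} C} {𝒳' : BasedCategory.{v₄, u₄} C} {U : C}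

/-- The object `(u, z, φ)` of `(Sch/U) ×_𝒳 𝒳'`. -/
noncomputable def mkO (h𝒳 : FibCat.IsFibGrpd 𝒳.p) (x : FibCat.overCat U ⥤ᵇ 𝒳) (h : 𝒳' ⥤ᵇ 𝒳) {T : C}
    (u : T ⟶ U) (z : 𝒳'.obj) (φ : Xo x u ⟶ h.obj z) (hφ : IsVert 𝒳 φ) : (FibCat.fp x h).obj :=
  mkObj (F := x) (G := h) (Over.mk u : (FibCat.overCat U).obj) z
    (@asIso _ _ _ _ φ (isIso_of_vert h𝒳 hφ)) hφ

variable (h𝒳 : FibCat.IsFibGrpd 𝒳.p) {x : FibCat.overCat U ⥤ᵇ 𝒳} {h : 𝒳' ⥤ᵇ 𝒳}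

theorem exists_mkO (w : (FibCat.fp x h).obj) : ∃ (u : (FibCat.fp x h).p.obj w ⟶ U)
    (z : 𝒳'.obj) (φ : Xo x u ⟶ h.obj z)
    (hφ : IsVert 𝒳 φ) (e : w ⟶ mkO h𝒳 x h u z φ hφ), (FibCat.fp x h).p.map e = 𝟙 _ := by
  obtain ⟨⟨a, b, i⟩, hi⟩ := w
  have hv : IsVert 𝒳 i.hom := IsVert.of_lift hi
  refine ⟨a.hom, b, i.hom, hv,
    mkHomFp (F := x) (G := h) (𝟙 (Over.mk a.hom) : a ⟶ Over.mk a.hom) (𝟙 b) ?_, ?_⟩
  · have h1 : x.map (𝟙 (Over.mk a.hom) : a ⟶ Over.mk a.hom) = 𝟙 (x.obj a) := x.map_id a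
    have h2 : h.map (𝟙 b) = 𝟙 (h.obj b) := h.map_id b
    refine (congrArg (· ≫ i.hom) h1).trans ((Category.id_comp _).trans ?_)
    exact ((congrArg (i.hom ≫ ·) h2).trans (Category.comp_id _)).symm
  · rfl

end

section Ex

variable {S : Scheme.{u}} {𝒳 : BasedCategory.{v₃, u₃} (Over S)} {𝒳' : BasedCategory.{v₄, u₄} (Over S)}
  {U W : Over S} (h𝒳 : FibCat.IsFibGrpd 𝒳.p) {x : FibCat.overCat U ⥤ᵇ 𝒳} {h : 𝒳' ⥤ᵇ 𝒳}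
  {π : (AlgSp.yon S).obj W ⟶ (AlgSp.yon S).obj U}

/-- the point of `W` -/
noncomputable def ptOf (SR : K738.SecRep (FibCat.fpFst x h) ((AlgSp.yon S).obj W) π) {T : Over S} (u : T ⟶ U)
    (z : 𝒳'.obj) (φ : Xo x u ⟶ h.obj z) (hφ : IsVert 𝒳 φ) : T ⟶ W :=
  (SR.sec (mkO h𝒳 x h u z φ hφ)).down

theorem base_eq {T : Over S} {u : T ⟶ U} {z : 𝒳'.obj} {φ : Xo x u ⟶ h.obj z} (hφ : IsVert 𝒳 φ) : 𝒳'.p.obj z = T :=
  (h.w_obj z).symm.trans (hφ.obj_eq.symm.trans (Xo_base x u))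

theorem lift_mkO {T T' : Over S} (r : T' ⟶ T) {u : T ⟶ U} {z : 𝒳'.obj} {φ : Xo x u ⟶ h.obj z} {hφ : IsVert 𝒳 φ}
    {u' : T' ⟶ U} {z' : 𝒳'.obj} {φ' : Xo x u' ⟶ h.obj z'} {hφ' : IsVert 𝒳 φ'} (hu : r ≫ u = u') (m : z' ⟶ z)
    (e : φ' ≫ h.map m = rs x r hu ≫ φ) :
    ∃ n : mkO h𝒳 x h u' z' φ' hφ' ⟶ mkO h𝒳 x h u z φ hφ, (FibCat.fp x h).p.map n = r :=
  ⟨mkHomFp (F := x) (G := h) (Over.homMk r hu) m e.symm, rfl⟩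

theorem of_lift_mkO {T T' : Over S} {r : T' ⟶ T} {u : T ⟶ U} {z : 𝒳'.obj} {φ : Xo x u ⟶ h.obj z} {hφ : IsVert 𝒳 φ}
    {u' : T' ⟶ U} {z' : 𝒳'.obj} {φ' : Xo x u' ⟶ h.obj z'} {hφ' : IsVert 𝒳 φ'}
    (n : mkO h𝒳 x h u' z' φ' hφ' ⟶ mkO h𝒳 x h u z φ hφ) (hn : (FibCat.fp x h).p.map n = r) :
    ∃ (hu : r ≫ u = u') (m : z' ⟶ z), 𝒳'.p.IsHomLift r m ∧ φ' ≫ h.map m = rs x r hu ≫ φ := by
  have h1 : (show (Over.mk u' : Over U) ⟶ Over.mk u from n.hom.fst).left = r := hn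
  have h3 := FibCat.fp_isHomLift_snd (F := x) (G := h) n
  have hu : r ≫ u = u' := by
    rw [← h1]; exact Over.w (show (Over.mk u' : Over U) ⟶ Over.mk u from n.hom.fst)
  refine ⟨hu, n.hom.snd, ?_, ?_⟩
  · rw [← hn]; exact h3
  have h5 : (show (Over.mk u' : Over U) ⟶ Over.mk u from n.hom.fst) = Over.homMk r hu :=
    Over.OverMorphism.ext h1
  have h7 := homFp_w n
  exact h7.symm.trans (congrArg (fun t => x.map t ≫ φ) h5)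

theorem comp_ptOf (SR : K738.SecRep (FibCat.fpFst x h) ((AlgSp.yon S).obj W) π) {T T' : Over S} (r : T' ⟶ T)
    {u : T ⟶ U} {z : 𝒳'.obj} {φ : Xo x u ⟶ h.obj z} {hφ : IsVert 𝒳 φ} {u' : T' ⟶ U} {z' : 𝒳'.obj}
    {φ' : Xo x u' ⟶ h.obj z'} {hφ' : IsVert 𝒳 φ'} (m : mkO h𝒳 x h u' z' φ' hφ' ⟶ mkO h𝒳 x h u z φ hφ)
    (hm : (FibCat.fp x h).p.map m = r) :
    r ≫ ptOf h𝒳 SR u z φ hφ = ptOf h𝒳 SR u' z' φ' hφ' := by
  have h1 := SR.map m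
  rw [hm] at h1
  exact congrArg ULift.down h1

theorem exists_univ_aux (SR : K738.SecRep (FibCat.fpFst x h) ((AlgSp.yon S).obj W) π) {B : Over S} (e : W = B)
    (u : B ⟶ U) (z : 𝒳'.obj) (φ : Xo x u ⟶ h.obj z) (hφ : IsVert 𝒳 φ)
    (h1 : eqToHom e ≫ ptOf h𝒳 SR u z φ hφ = 𝟙 W) :
    ∃ (c : W ⟶ U) (y : 𝒳'.obj) (θ : Xo x c ⟶ h.obj y) (hθ : IsVert 𝒳 θ), ptOf h𝒳 SR c y θ hθ = 𝟙 W := by
  subst e
  exact ⟨u, z, φ, hφ, by simpa using h1⟩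

theorem exists_univ (SR : K738.SecRep (FibCat.fpFst x h) ((AlgSp.yon S).obj W) π) :
    ∃ (c : W ⟶ U) (y : 𝒳'.obj) (θ : Xo x c ⟶ h.obj y) (hθ : IsVert 𝒳 θ), ptOf h𝒳 SR c y θ hθ = 𝟙 W := by
  obtain ⟨z, e, hz⟩ := SR.surj (T := W) ⟨𝟙 W⟩
  obtain ⟨u, v, φ, hφ, m, hm⟩ := exists_mkO h𝒳 z
  refine exists_univ_aux h𝒳 SR e u v φ hφ ?_
  have h1 := SR.map m
  rw [hm] at h1
  have h2 : 𝟙 _ ≫ ptOf h𝒳 SR u v φ hφ = (SR.sec z).down := congrArg ULift.down h1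
  have h3 : eqToHom e ≫ (SR.sec z).down = 𝟙 W := congrArg ULift.down hz
  rw [← h3, ← h2]
  exact congrArg (eqToHom e ≫ ·) (Category.id_comp _).symm

include h𝒳 in
theorem exists_fRep (SR : K738.SecRep (FibCat.fpFst x h) ((AlgSp.yon S).obj W) π) :
    ∃ H : FRep x h W, π = (AlgSp.yon S).map H.c := by
  obtain ⟨c, y, θ, hθ, h1⟩ := exists_univ h𝒳 SR
  refine ⟨⟨c, y, base_eq hθ, θ, hθ, ?_⟩, ?_⟩
  · intro T u z φ hφ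
    obtain ⟨m, hm⟩ := SR.full (z := mkO h𝒳 x h u z φ hφ) (z' := mkO h𝒳 x h c y θ hθ) (ptOf h𝒳 SR u z φ hφ) (by
      apply ULift.ext
      change ptOf h𝒳 SR u z φ hφ ≫ ptOf h𝒳 SR c y θ hθ = _
      rw [h1]; exact Category.comp_id _)
    refine ⟨ptOf h𝒳 SR u z φ hφ, of_lift_mkO h𝒳 m hm, ?_⟩
    rintro r ⟨hs, m, -, hw⟩
    obtain ⟨m', hm'⟩ := lift_mkO h𝒳 r (hφ := hθ) (hφ' := hφ) hs m hw
    have h2 := comp_ptOf h𝒳 SR r m' hm'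
    rw [h1] at h2
    rw [← h2]
    exact (Category.comp_id _).symm
  · have h2 := SR.proj (mkO h𝒳 x h c y θ hθ)
    obtain ⟨f, rfl⟩ := (AlgSp.yon S).map_surjective π
    have h3 : ptOf h𝒳 SR c y θ hθ ≫ f = K738.str (FibCat.fpFst x h) (mkO h𝒳 x h c y θ hθ) := congrArg ULift.down h2
    rw [h1] at h3
    have h4 : K738.str (FibCat.fpFst x h) (mkO h𝒳 x h c y θ hθ) = c := Category.id_comp _
    rw [h4] at h3
    have h5 : f = c := (Category.id_comp f).symm.trans h3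
    exact congrArg (AlgSp.yon S).map h5

end Ex

end K746.FRepEx
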