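import Groth.Agent.AlgSt.K746.ModChart

/-!
# Base change of a chart with its groupoid along a morphism to the moduli space
-/

set_option autoImplicit false
set_option backward.isDefEq.respectTransparency false
set_option backward.isDefEq.respectTransparency.types false

universe w' v' w v u

open CategoryTheory CategoryTheory.Limits AlgebraicGeometry Opposite
open K734.Fib K598.Site

namespace K746

/-- Two lifts of the same morphism agree in a category fibred in setoids. -/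
theorem eq_of_lift {C : Type u} [Category.{v} C] {𝒵 : BasedCategory.{v', w'} C} (h : FibCat.IsFibSetoid 𝒵.p)
    {a b : 𝒵.obj} {T T' : C} {f : T' ⟶ T} {φ ψ : a ⟶ b} (hφ : 𝒵.p.IsHomLift f φ) (hψ : 𝒵.p.IsHomLift f ψ) :
    φ = ψ :=
  eq_of_setoid h ((IsHomLift.fac' 𝒵.p f φ).trans (IsHomLift.fac' 𝒵.p f ψ).symm)

theorem lift_vert_comp {C : Type u} [Category.{v} C] {𝒵 : BasedCategory.{v', w'} C} {a b c : 𝒵.obj} {T T' : C}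
    {f : T' ⟶ T} {φ : a ⟶ b} {ψ : b ⟶ c} (h : IsVert 𝒵 φ) (h' : 𝒵.p.IsHomLift f ψ) :
    𝒵.p.IsHomLift f (φ ≫ ψ) := by
  have h1 : 𝒵.p.IsHomLift (𝟙 T') φ := h.lift' (IsHomLift.domain_eq 𝒵.p f ψ)
  have := IsHomLift.comp 𝒵.p (𝟙 T') f φ ψ
  rwa [Category.id_comp] at this

theorem lift_comp_vert' {C : Type u} [Category.{v} C] {𝒵 : BasedCategory.{v', w'} C} {a b c : 𝒵.obj} {T T' : C}
    {f : T' ⟶ T} {φ : a ⟶ b} {ψ : b ⟶ c} (h : 𝒵.p.IsHomLift f φ) (h' : IsVert 𝒵 ψ) :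
    𝒵.p.IsHomLift f (φ ≫ ψ) := by
  have h1 : 𝒵.p.IsHomLift (𝟙 T) ψ := h'.lift (IsHomLift.codomain_eq 𝒵.p f φ)
  have := IsHomLift.comp 𝒵.p f (𝟙 T) φ ψ
  rwa [Category.comp_id] at this

theorem _root_.K734.Fib.IsVert.lift_eqToHom {C : Type u} [Category.{v} C] {𝒵 : BasedCategory.{v', w'} C}
    {a b : 𝒵.obj} {φ : a ⟶ b} (h : IsVert 𝒵 φ) {T T' : C} (ha : 𝒵.p.obj a = T) (hT : T = T') :
    𝒵.p.IsHomLift (eqToHom hT) φ := by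
  subst hT
  exact h.lift ha

variable {S : Scheme.{u}} {𝒳 : BasedCategory.{v, w} (Over S)} {U R M Y' W R' : Over S}
  {p : U ⟶ M} {g : Y' ⟶ M} {c : W ⟶ U} {q : W ⟶ Y'}
  {F : AlgSt.ofSch U ⥤ᵇ 𝒳} {π : 𝒳 ⥤ᵇ AlgSt.ofSch M}

theorem bcF_aux (sq : IsPullback c q p g) (hp : ∀ y, π.obj (F.obj y) = (AlgSt.ofSpMap ((AlgSp.yon S).map p)).obj y)
    (z : (AlgSt.ofSch W).obj) :
    (BasedFunctor.comp (AlgSt.ofSpMap ((AlgSp.yon S).map q)) (AlgSt.ofSpMap ((AlgSp.yon S).map g))).obj z =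
      (BasedFunctor.comp (BasedFunctor.comp (AlgSt.ofSpMap ((AlgSp.yon S).map c)) F) π).obj z := by
  obtain ⟨T, ⟨w⟩⟩ := z
  refine Eq.trans ?_ (hp _).symm
  change (⟨T, ⟨(w ≫ q) ≫ g⟩⟩ : (AlgSt.ofSch M).obj) = ⟨T, ⟨(w ≫ c) ≫ p⟩⟩
  rw [Category.assoc, Category.assoc, sq.w]

/-- The base changed chart. -/
noncomputable def bcF (sq : IsPullback c q p g)
    (hp : ∀ y, π.obj (F.obj y) = (AlgSt.ofSpMap ((AlgSp.yon S).map p)).obj y) :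
    AlgSt.ofSch W ⥤ᵇ FibCat.fp (AlgSt.ofSpMap ((AlgSp.yon S).map g)) π :=
  FibCat.fpLift (AlgSt.ofSpMap ((AlgSp.yon S).map q)) (BasedFunctor.comp (AlgSt.ofSpMap ((AlgSp.yon S).map c)) F)
    (nonempty_iso_of_obj_eq (bcF_aux sq hp)).some

variable (sq : IsPullback c q p g) (hp : ∀ y, π.obj (F.obj y) = (AlgSt.ofSpMap ((AlgSp.yon S).map p)).obj y)

theorem bcF_fst (y : (AlgSt.ofSch W).obj) : (FibCat.fpFst (AlgSt.ofSpMap ((AlgSp.yon S).map g)) π).obj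
    ((bcF sq hp).obj y) = (AlgSt.ofSpMap ((AlgSp.yon S).map q)).obj y := rfl

theorem relBy_bcF {s t : R ⟶ U} (h : RelBy F s t) {s' t' : R' ⟶ W} {ρ : R' ⟶ R} (sqR : IsPullback ρ s' s c)
    (hρt : ρ ≫ t = t' ≫ c) (hq : t' ≫ q = s' ≫ q) : RelBy (bcF sq hp) s' t' := by
  intro T u v
  constructor
  · rintro ⟨φ, hφ⟩
    have h1 := eq_of_vert (vert_fp_iff_fst.1 hφ)
    have h1' : u ≫ q = v ≫ q := congrArg ULift.down (elt_inj h1)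
    obtain ⟨r, hrs, hrt⟩ := (h (u ≫ c) (v ≫ c)).1 ⟨φ.hom.snd, vert_fp_iff_snd.1 hφ⟩
    refine ⟨sqR.lift r u hrs, sqR.lift_snd _ _ _, ?_⟩
    apply sq.hom_ext
    · rw [Category.assoc, ← hρt, sqR.lift_fst_assoc, hrt]
    · rw [Category.assoc, hq, sqR.lift_snd_assoc, h1']
  · rintro ⟨r', rfl, rfl⟩
    obtain ⟨φ₂, hφ₂⟩ := (h ((r' ≫ s') ≫ c) ((r' ≫ t') ≫ c)).2 ⟨r' ≫ ρ, by
      rw [Category.assoc, Category.assoc, sqR.w], by rw [Category.assoc, Category.assoc, hρt]⟩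
    have e : (⟨T, ⟨(r' ≫ s') ≫ q⟩⟩ : (AlgSt.ofSch Y').obj) = ⟨T, ⟨(r' ≫ t') ≫ q⟩⟩ := by
      rw [Category.assoc, Category.assoc, hq]
    let φ₁ : (⟨T, ⟨(r' ≫ s') ≫ q⟩⟩ : (AlgSt.ofSch Y').obj) ⟶ ⟨T, ⟨(r' ≫ t') ≫ q⟩⟩ := eqToHom e
    have hφ₁ : IsVert (AlgSt.ofSch Y') φ₁ := IsVert.eqToHom e
    let z₁ := (bcF sq hp).obj ⟨T, ⟨r' ≫ s'⟩⟩
    let z₂ := (bcF sq hp).obj ⟨T, ⟨r' ≫ t'⟩⟩
    have hw : (AlgSt.ofSpMap ((AlgSp.yon S).map g)).map φ₁ ≫ z₂.obj.iso.hom = z₁.obj.iso.hom ≫ π.map φ₂ := by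
      have v1 := (hφ₁.map (AlgSt.ofSpMap ((AlgSp.yon S).map g))).comp (iso_vert z₂)
      have v2 := (iso_vert z₁).comp (hφ₂.map π)
      exact eq_of_lift (isFibSetoid_ofPsh _) (f := 𝟙 _) (v1.lift rfl) (v2.lift rfl)
    refine ⟨mkHomFp (a := z₁) (b := z₂) φ₁ φ₂ hw, ?_⟩
    rw [vert_fp_iff_fst]
    exact hφ₁

theorem locSurj_bcF (hF : LocSurj (AlgSp.J S) F) : LocSurj (AlgSp.J S) (bcF sq hp) := by
  rintro ⟨⟨⟨T, ⟨y⟩⟩, z₂, i⟩, hi⟩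
  have hv : IsVert (AlgSt.ofSch M) i.hom := IsVert.of_lift hi
  have hT : T = 𝒳.p.obj z₂ := by
    have h1 := hv.obj_eq
    exact h1.trans (π.w_obj z₂)
  obtain ⟨Q, hQ, hz⟩ := hF z₂
  refine ⟨Q.pullback (eqToHom hT), (AlgSp.J S).pullback_stable _ hQ, ?_⟩
  intro T' f hf
  obtain ⟨⟨T₁, ⟨u⟩⟩, m, hm⟩ := hz _ hf
  obtain rfl : T₁ = T' := (F.w_obj _).symm.trans (IsHomLift.domain_eq 𝒳.p (f ≫ eqToHom hT) m)
  have h1 : 𝒳.p.IsHomLift (f ≫ eqToHom hT) m := hm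
  have h2 : (AlgSt.ofSch M).p.IsHomLift (f ≫ eqToHom hT) (π.map m) := BasedFunctor.preserves_isHomLift π _ m
  have hv' : IsVert (AlgSt.ofSch M) i.inv := hv.inv
  have h3 : (AlgSt.ofSch M).p.IsHomLift (eqToHom hT.symm) i.inv :=
    hv'.lift_eqToHom (π.w_obj z₂) hT.symm
  have h4 : (AlgSt.ofSch M).p.IsHomLift f (π.map m ≫ i.inv) := by
    have := IsHomLift.comp (AlgSt.ofSch M).p (f ≫ eqToHom hT) (eqToHom hT.symm) (π.map m) i.inv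
    rwa [Category.assoc, eqToHom_trans, eqToHom_refl, Category.comp_id] at this
  have h5 : u ≫ p = f ≫ y ≫ g := (congrArg ULift.down (elt_map h4 (s := ⟨y ≫ g⟩) (s' := ⟨u ≫ p⟩) rfl (hp _))).symm
  let w : T₁ ⟶ W := sq.lift u (f ≫ y) (by rw [h5, Category.assoc])
  have hw1 : w ≫ c = u := sq.lift_fst _ _ _
  have hw2 : w ≫ q = f ≫ y := sq.lift_snd _ _ _
  let φ₁ : (⟨T₁, ⟨w ≫ q⟩⟩ : (AlgSt.ofSch Y').obj) ⟶ ⟨T, ⟨y⟩⟩ := ⟨f, by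
    apply ULift.ext
    exact hw2.symm⟩
  have e : (⟨T₁, ⟨w ≫ c⟩⟩ : (AlgSt.ofSch U).obj) = ⟨T₁, ⟨u⟩⟩ := by rw [hw1]
  let φ₂ : F.obj ⟨T₁, ⟨w ≫ c⟩⟩ ⟶ z₂ := F.map (eqToHom e) ≫ m
  have hφ₂ : 𝒳.p.IsHomLift (f ≫ eqToHom hT) φ₂ := lift_vert_comp ((IsVert.eqToHom e).map F) h1
  have hφ₁ : (AlgSt.ofSch Y').p.IsHomLift f φ₁ := (isHomLift_iff_map_eq _ _).2 rfl
  refine ⟨⟨T₁, ⟨w⟩⟩, mkHomFp (a := (bcF sq hp).obj ⟨T₁, ⟨w⟩⟩) φ₁ φ₂ ?_, ?_⟩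
  · have v1 : (AlgSt.ofSch M).p.IsHomLift (f ≫ eqToHom hT)
        ((AlgSt.ofSpMap ((AlgSp.yon S).map g)).map φ₁ ≫ i.hom) := by
      have h6 : (AlgSt.ofSch M).p.IsHomLift f ((AlgSt.ofSpMap ((AlgSp.yon S).map g)).map φ₁) :=
        BasedFunctor.preserves_isHomLift _ _ _
      have h7 : (AlgSt.ofSch M).p.IsHomLift (eqToHom hT) i.hom := hv.lift_eqToHom rfl hT
      exact IsHomLift.comp (AlgSt.ofSch M).p f (eqToHom hT) _ _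
    have v2 : (AlgSt.ofSch M).p.IsHomLift (f ≫ eqToHom hT)
        (((bcF sq hp).obj ⟨T₁, ⟨w⟩⟩).obj.iso.hom ≫ π.map φ₂) :=
      lift_vert_comp (iso_vert ((bcF sq hp).obj ⟨T₁, ⟨w⟩⟩)) (BasedFunctor.preserves_isHomLift π _ _)
    exact eq_of_lift (isFibSetoid_ofPsh _) v1 v2
  · rw [fp_isHomLift_iff_fst]
    exact hφ₁

end K746
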