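import Groth.Agent.AlgSt.K746.ModBC
import Groth.Agent.AlgSt.K746.ModUnif
import Groth.Agent.AlgSt.K746.SpQuot
import Groth.Agent.AlgSt.K746.EtDesc

/-!
# The moduli space of a well-nigh affine stack
-/

set_option autoImplicit false
set_option backward.isDefEq.respectTransparency false
set_option backward.isDefEq.respectTransparency.types false

universe w' v' w v u

open CategoryTheory CategoryTheory.Limits AlgebraicGeometry Opposite
open K734.Fib K598.Site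
open Groth.Agent.GrpQ.H766.GeomQuotDef

namespace K746

variable {S : Scheme.{u}}

theorem isPullback_over {W U Y' M : Over S} {c : W ⟶ U} {q : W ⟶ Y'} {p : U ⟶ M} {g : Y' ⟶ M}
    (sq : IsPullback c.left q.left p.left g.left) : IsPullback c q p g := by
  refine ⟨⟨by ext; exact sq.w⟩, ⟨PullbackCone.IsLimit.mk _
    (fun s => Over.homMk (sq.lift s.fst.left s.snd.left (congrArg CommaMorphism.left s.condition)) ?_)
    (fun s => ?_) (fun s => ?_) (fun s m h1 h2 => ?_)⟩⟩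
  · rw [← Over.w c, sq.lift_fst_assoc, Over.w]
  · ext; exact sq.lift_fst _ _ _
  · ext; exact sq.lift_snd _ _ _
  · ext
    apply sq.hom_ext
    · rw [← Over.comp_left, h1]; exact (sq.lift_fst _ _ _).symm
    · rw [← Over.comp_left, h2]; exact (sq.lift_snd _ _ _).symm

variable {𝒳 : BasedCategory.{v, w} (Over S)} {U R M : Over S} {x : FibCat.overCat U ⥤ᵇ 𝒳}
  (h𝒳 : FibCat.IsFibGrpd 𝒳.p)

include h𝒳 in
/-- The affine flat base changes of the quotient. -/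
theorem isCatModuli_bc (hU : IsAffine U.left) (hls : LocSurj (AlgSp.J S) x) (G : ChartRep x R)
    (hG : Mor2.IsFinLocFree (G.toOGpd h𝒳).toGpd.s) (hM : IsAffine M.left) {p : U ⟶ M}
    (hp : IsGeomQuot (G.toOGpd h𝒳).toGpd.s (G.toOGpd h𝒳).toGpd.t
      (show (G.toOGpd h𝒳).toGpd.U ⟶ M.left from p.left)) {π : 𝒳 ⥤ᵇ AlgSt.ofSch M}
    (hπ : ∀ y, π.obj ((chF x).obj y) = (AlgSt.ofSpMap ((AlgSp.yon S).map p)).obj y) {Y' : Over S}
    (hY' : IsAffine Y'.left) (g : Y' ⟶ M) [Flat g.left] :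
    AlgSt.IsCatModuli (FibCat.fpFst (AlgSt.ofSpMap ((AlgSp.yon S).map g)) π) := by
  let W : Over S := Over.mk (pullback.fst p.left g.left ≫ U.hom)
  let c : W ⟶ U := Over.homMk (pullback.fst p.left g.left) rfl
  let q : W ⟶ Y' := Over.homMk (pullback.snd p.left g.left) (by
    change pullback.snd p.left g.left ≫ Y'.hom = pullback.fst p.left g.left ≫ U.hom
    rw [← Over.w p, pullback.condition_assoc, Over.w])
  have sqL : IsPullback (show W.left ⟶ (G.toOGpd h𝒳).toGpd.U from c.left) q.left p.left g.left :=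
    IsPullback.of_hasPullback _ _
  have sq : IsPullback c q p g := isPullback_over sqL
  obtain ⟨A, -, hA⟩ := Act.exists_ofPullback (G := (G.toOGpd h𝒳).toGpd) hp.w sqL
  have hUa : IsAffine (G.toOGpd h𝒳).toGpd.U := hU
  have hQ := FlatBC.isGeomQuot_flat A hG hp g.left q.left sqL hA
  have hGA : Mor2.IsFinLocFree A.gpd.s := EtDesc.isFinLocFree_gpd A hG
  have hWa : IsAffine A.gpd.U := IsAffine.of_isIso sqL.isoPullback.hom
  have sqR : IsPullback (Over.homMk (A.hom.fR) rfl : SpQuot.oR A.gpd ⟶ R) (SpQuot.os A.gpd) G.s c :=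
    isPullback_over A.isPullback_s
  have hρt : (Over.homMk (A.hom.fR) rfl : SpQuot.oR A.gpd ⟶ R) ≫ G.t = SpQuot.ot A.gpd ≫ c := by
    ext; exact A.hom.comm_t
  have hq : SpQuot.ot A.gpd ≫ q = SpQuot.os A.gpd ≫ q := by
    ext; exact hA
  have hrel := relBy_bcF sq hπ (relBy_chF h𝒳 G) sqR hρt hq
  have hls' := locSurj_bcF sq hπ hls.chF
  have h𝒳' : FibCat.IsFibGrpd (FibCat.fp (AlgSt.ofSpMap ((AlgSp.yon S).map g)) π).p :=
    isFibGrpd_fp _ _ (isFibGrpd_ofPsh' _) h𝒳 (isFibGrpd_ofPsh' _)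
  refine (hrel.isCatModuliIn_iff h𝒳' hls' (bcF_fst sq hπ)).2 ⟨AlgSp.IsAlgSpace.yon_obj Y', fun N hN a ha => ?_⟩
  exact SpQuot.existsUnique_desc (G := A.gpd) hGA (p := q) hQ hN a ha

include h𝒳 in
theorem isUnifCatModuli_of_chart (hU : IsAffine U.left) (hls : LocSurj (AlgSp.J S) x) (G : ChartRep x R)
    (hG : Mor2.IsFinLocFree (G.toOGpd h𝒳).toGpd.s) (hM : IsAffine M.left) {p : U ⟶ M}
    (hp : IsGeomQuot (G.toOGpd h𝒳).toGpd.s (G.toOGpd h𝒳).toGpd.t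
      (show (G.toOGpd h𝒳).toGpd.U ⟶ M.left from p.left)) {π : 𝒳 ⥤ᵇ AlgSt.ofSch M}
    (hπ : ∀ y, π.obj ((chF x).obj y) = (AlgSt.ofSpMap ((AlgSp.yon S).map p)).obj y) :
    AlgSt.IsUnifCatModuli π := by
  refine ModLoc.isUnifCatModuli_of_affine_flat h𝒳 (AlgSp.IsAlgSpace.yon_obj M) π fun Y' hY' g hg => ?_
  obtain ⟨g, rfl⟩ := (AlgSp.yon S).map_surjective g
  have : Flat g.left := AlgSp.locP_yon_map hg
  exact isCatModuli_bc h𝒳 hU hls G hG hM hp hπ hY' g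

include h𝒳 in
/-- The moduli space of a stack with an affine finite locally free chart. -/
theorem exists_moduli (hU : IsAffine U.left) (hls : LocSurj (AlgSp.J S) x) (G : ChartRep x R)
    (hG : Mor2.IsFinLocFree (G.toOGpd h𝒳).toGpd.s) :
    ∃ (M : Over S) (π : 𝒳 ⥤ᵇ AlgSt.ofSch M) (p : U ⟶ M), IsAffine M.left ∧
      IsGeomQuot (G.toOGpd h𝒳).toGpd.s (G.toOGpd h𝒳).toGpd.t
        (show (G.toOGpd h𝒳).toGpd.U ⟶ M.left from p.left) ∧
      (∀ y, π.obj ((chF x).obj y) = (AlgSt.ofSpMap ((AlgSp.yon S).map p)).obj y) ∧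
      AlgSt.IsUnifCatModuli π := by
  have hUa : IsAffine (G.toOGpd h𝒳).toGpd.U := hU
  obtain ⟨Y, p, hp⟩ : ∃ (Y : Scheme.{u}) (p : (G.toOGpd h𝒳).toGpd.U ⟶ Y),
      IsGeomQuot (G.toOGpd h𝒳).toGpd.s (G.toOGpd h𝒳).toGpd.t p := by
    obtain ⟨_, _, _⟩ := hG
    exact (Good.of_isAffine (G := (G.toOGpd h𝒳).toGpd)).exists_isGeomQuot
  have hY : IsAffine Y := Groth.Agent.GrpQ.H765.FinQuot.isAffine_of_isGeomQuot _ hG hp
  have e : (G.toOGpd h𝒳).toGpd.t ≫ (G.toOGpd h𝒳).toGpd.pU = (G.toOGpd h𝒳).toGpd.s ≫ (G.toOGpd h𝒳).toGpd.pU := by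
    rw [(G.toOGpd h𝒳).toGpd.t_over, (G.toOGpd h𝒳).toGpd.s_over]
  let M : Over S := Over.mk (hp.desc (G.toOGpd h𝒳).toGpd.pU e)
  let p' : U ⟶ M := Over.homMk p (hp.comp_desc _ e)
  have hp' : IsGeomQuot (G.toOGpd h𝒳).toGpd.s (G.toOGpd h𝒳).toGpd.t
        (show (G.toOGpd h𝒳).toGpd.U ⟶ M.left from p'.left) := hp
  obtain ⟨π, hπ⟩ := (relBy_chF h𝒳 G).exists_desc h𝒳 hls.chF ((AlgSp.yon S).map p') (by
    rw [← Functor.map_comp, ← Functor.map_comp]
    congr 1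
    ext
    exact hp.w.symm)
  exact ⟨M, π, p', hY, hp', hπ, isUnifCatModuli_of_chart h𝒳 hU hls G hG hY hp' hπ⟩

end K746
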