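import Groth.Agent.AlgSt.K746.Cov
import Groth.Agent.AlgSt.K746.WnaRep
import Groth.Agent.AlgSt.K746.EtSch

/-!
# Stacks with finite inertia: étale covers, inertia preserving, by stacks with finite locally free charts
-/

set_option autoImplicit false
set_option backward.isDefEq.respectTransparency false
set_option backward.isDefEq.respectTransparency.types false

universe u₄ v₄ u₃ v₃ v u

open CategoryTheory CategoryTheory.Limits AlgebraicGeometry Opposite TopologicalSpace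
open K734.Fib K598.Site K899.OpenCrit

namespace K746.Cov

variable {S : Scheme.{u}} {𝒳 : AlgSt.Cat S}

theorem nice_sep : K734.Rep.Nice (S := S) AlgSp.IsSeparatedMor where
  bc := K739.Props.bc_sep
  comp := K739.Props.comp_sep
  loc := K739.Props.isLocalOnBase_fppf_of_fpqc (Groth.Agent.S10535.result S)

theorem nice_etsep : K734.Rep.Nice (S := S) (AlgSp.IsEtaleMor ⊓ AlgSp.IsSeparatedMor) :=
  K734.Rep.nice_isEtaleMor.inf nice_sep

theorem isSeparatedMor_of_repWith {F G : AlgSp.Sp S} {f : F ⟶ G} (h : AlgSp.RepWith @IsSeparated f) :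
    AlgSp.IsSeparatedMor f := (K595.DiagBasic.isSeparatedMor_iff_repWith h.1).2 h

theorem repWith_mono {P Q : MorphismProperty Scheme.{u}} (h : P ≤ Q) {F G : AlgSp.Sp S} {f : F ⟶ G}
    (hf : AlgSp.RepWith P f) : AlgSp.RepWith Q f := ⟨hf.1, fun _ _ _ _ _ sq => h _ (hf.2 _ _ _ sq)⟩

theorem etsep_of_isOpenImm {𝒳 𝒴 : AlgSt.Cat S} {f : 𝒳 ⥤ᵇ 𝒴} (hf : AlgSt.IsOpenImm f) :
    AlgSt.RepByAlgSpWith (AlgSp.IsEtaleMor ⊓ AlgSp.IsSeparatedMor) f := by
  refine DiagFin.repByAlgSpWith_mono' (fun {F U} f (h : AlgSp.RepWith @IsOpenImmersion f) => ⟨?_, ?_⟩) hf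
  · exact K734.Rep.isEtaleMor_of_repWith (AlgSp.IsAlgSpace.yon_obj U) (repWith_mono (fun _ _ f hf => by
      have : IsOpenImmersion f := hf
      exact (inferInstance : Etale f)) h)
  · exact isSeparatedMor_of_repWith (repWith_mono (fun _ _ f hf => by
      have : IsOpenImmersion f := hf
      exact (inferInstance : IsSeparated f)) h)

section Dat

open K749.Hilb

variable {V : Over S} {v : FibCat.overCat V ⥤ᵇ 𝒳} (d : Dat v)

/-- `V ×_𝒳 𝒲` is a scheme, étale and separated over `V`. -/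
theorem exists_P : ∃ (W : Over S) (w : W ⟶ V) (κ : FibCat.overCat W ⥤ᵇ d.P), FibCat.IsEquivOver κ ∧
    Etale w.left ∧ IsSeparated w.left := by
  obtain ⟨R⟩ := d.X.secRep_W v
  obtain ⟨W, w, e, hw, h1, h2⟩ := EtSch.exists_sch (F := (d.X.comap v).E) (d.X.comap v).isAlgSpace (d.X.comap v).proj
    (d.X.comap v).isEtaleMor_proj (d.X.comap v).isSeparatedMor_proj
  obtain ⟨e', he', -⟩ := (K749.Hilb.secRepOfIso R e.symm ((AlgSp.yon S).map w) (by
    rw [← hw, Iso.symm_hom, Iso.inv_hom_id_assoc])).exists_equiv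
  exact ⟨W, w, BasedFunctor.comp (AlgSt.ofOverCat W) e',
    K734.Fib.isEquivOver_comp (K735.Rep.isEquivOver_ofOverCat W) he', h1, h2⟩

/-- The universal finite open piece is a scheme, étale and separated over `V`. -/
theorem exists_Z : ∃ (Z : Over S) (t : Z ⟶ V) (e : FibCat.overCat Z ⥤ᵇ d.Zc), FibCat.IsEquivOver e ∧
    Etale t.left ∧ IsSeparated t.left := by
  obtain ⟨W, w, κ, hκ, hw, hw'⟩ := exists_P d
  obtain ⟨F, e, he, h⟩ := d.isOpenImm_incl W κ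
  obtain ⟨Z, ⟨i⟩⟩ := K737.RepW.exists_yon_iso _ h
  have hi : AlgSp.RepWith @IsOpenImmersion (i.hom ≫ AlgSt.spMapOfOver (BasedFunctor.comp e (FibCat.fpFst κ d.incl))) :=
    (MorphismProperty.cancel_left_of_respectsIso _ i.hom _).2 h
  obtain ⟨z, hz⟩ := (AlgSp.yon S).map_surjective
    (i.hom ≫ AlgSt.spMapOfOver (BasedFunctor.comp e (FibCat.fpFst κ d.incl)))
  rw [← hz] at hi
  have hz' : IsOpenImmersion z.left := (AlgSp.repWith_yon_map_iff _ z).1 hi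
  refine ⟨Z, z ≫ w, BasedFunctor.comp (BasedFunctor.comp (BasedFunctor.comp (AlgSt.ofOverCat Z)
    (AlgSt.ofSpMap i.hom)) e) (FibCat.fpSnd κ d.incl), ?_, ?_, ?_⟩
  · refine K734.Fib.isEquivOver_comp (K734.Fib.isEquivOver_comp (K734.Fib.isEquivOver_comp
      (K735.Rep.isEquivOver_ofOverCat Z) ?_) he) (K734.Fib.isEquivOver_fpSnd κ d.incl hκ)
    exact (K734.Rep.isEquivOver_ofSpMap_iff i.hom).2 inferInstance
  · change Etale (z.left ≫ w.left)
    infer_instance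
  · change IsSeparated (z.left ≫ w.left)
    infer_instance

end Dat

/-- A stack with finite inertia has an étale separated inertia preserving cover by a separated stack with a finite
locally free chart by a scheme in which finite sets of points lie in affine opens. -/
theorem exists_main (h𝒳 : AlgSt.IsAlgStack Scheme.fppfPrecoverage 𝒳)
    (hI : AlgSt.RepByAlgSpWith AlgSp.IsFiniteMor (FibCat.inertiaToBase (FibCat.toSelf 𝒳))) :
    ∃ (𝒲 : AlgSt.Cat S) (g : 𝒲 ⥤ᵇ 𝒳) (Z : Over S) (z : FibCat.overCat Z ⥤ᵇ 𝒲),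
      AlgSt.IsAlgStack Scheme.fppfPrecoverage 𝒲 ∧
      AlgSt.RepByAlgSpWith (AlgSp.IsEtaleMor ⊓ AlgSp.IsSeparatedMor) g ∧
      AlgSt.RepByAlgSpWith AlgSp.IsSurjectiveMor g ∧
      (∀ w : 𝒲.obj, Function.Bijective (Gerb.autMap g w)) ∧
      AlgSt.RepByAlgSpWith (WnaP S) z ∧ IsSeparated Z.hom ∧ SigAff.AF Z.left := by
  obtain ⟨V, v, hVs, hVA, hv⟩ := exists_sep_cover h𝒳 hI
  obtain ⟨d, hs⟩ := K749.Hilb.exists_dat h𝒳.isStack.1 hv
  have hWg : FibCat.IsFibGrpd d.X.W.p := d.X.isFibGrpd_W d.h𝒳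
  have hWf := d.X.repByAlgSpWith_Wf hs
  have hWa : AlgSt.IsAlgStack Scheme.fppfPrecoverage d.X.W :=
    Groth.Agent.S12768.result hWg h𝒳 d.X.Wf (K739.Alg.repByAlgSp1_of hWf)
  have hQ : HasOpenLocus (𝒳 := d.X.W) (AutLoc.Stab d.X) := AutLoc.hasOpenLocus_stab d.X h𝒳.isStack.1 hI
  obtain ⟨-, hA, hO⟩ := K899.OpenCrit.isOpenSubstack hWa hQ
  have hfib : FibCat.IsFibGrpd (AlgSt.fullSub d.X.W (AutLoc.Stab d.X)).p := hA.isStack.1
  have hes : AlgSt.RepByAlgSpWith (AlgSp.IsEtaleMor ⊓ AlgSp.IsSeparatedMor)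
      (BasedFunctor.comp (AlgSt.subIncl d.X.W (AutLoc.Stab d.X)) d.X.Wf) :=
    nice_etsep.repByAlgSpWith_comp hfib hWg (etsep_of_isOpenImm hO)
      (DiagFin.repByAlgSpWith_mono' (fun f h => ⟨h.1.1, h.2⟩) hWf)
  have hff : (BasedFunctor.comp (AlgSt.subIncl d.X.W (AutLoc.Stab d.X)) d.X.Wf).toFunctor.Faithful :=
    ⟨fun {a b} f f' h => ObjectProperty.hom_ext _ (K749.Clopen.Fam.WObj.hom_ext h)⟩
  -- the chart
  obtain ⟨Z₀, t, e, he, ht, ht'⟩ := exists_Z d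
  have hz : AlgSt.RepByAlgSpWith (AlgSp.IsFiniteMor ⊓ AlgSp.LocP (@Flat ⊓ @LocallyOfFinitePresentation) ⊓
      AlgSp.IsSurjectiveMor) (BasedFunctor.comp (BasedFunctor.comp e d.incl) (FibCat.fpSnd v d.X.Wf)) :=
    (K734.Rep.repByAlgSpWith_precomp_iff he _).2 d.repByAlgSpWith_incl_fpSnd
  have hz' : AlgSt.RepByAlgSpWith (WnaP S) (BasedFunctor.comp (BasedFunctor.comp e d.incl) (FibCat.fpSnd v d.X.Wf)) := by
    refine DiagFin.repByAlgSpWith_mono' (𝒳 := FibCat.overCat Z₀) (fun f h => ?_) hz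
    obtain ⟨⟨h1, h2⟩, h3⟩ := h
    rw [K597.locP_inf_iff] at h2
    exact ⟨⟨⟨h3, h2.1⟩, h1⟩, h2.2⟩
  obtain ⟨N, hN⟩ := K899.OpenCrit.exists_locus hQ
    (BasedFunctor.comp (BasedFunctor.comp e d.incl) (FibCat.fpSnd v d.X.Wf))
  have hx' : ∀ a, AutLoc.Stab d.X ((BasedFunctor.comp (AlgSt.overMap (opIncl Z₀ N))
      (BasedFunctor.comp (BasedFunctor.comp e d.incl) (FibCat.fpSnd v d.X.Wf))).obj a) := fun a => by
    refine (hN _).2 ?_
    change Set.range (a.hom ≫ opIncl Z₀ N).left ⊆ N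
    rintro _ ⟨z, rfl⟩
    rw [Over.comp_left, Scheme.Hom.comp_apply]
    exact (a.hom.left z).2
  refine ⟨AlgSt.fullSub d.X.W (AutLoc.Stab d.X), BasedFunctor.comp (AlgSt.subIncl d.X.W (AutLoc.Stab d.X)) d.X.Wf,
    opOver Z₀ N, liftSub (AutLoc.Stab d.X) (BasedFunctor.comp (AlgSt.overMap (opIncl Z₀ N))
      (BasedFunctor.comp (BasedFunctor.comp e d.incl) (FibCat.fpSnd v d.X.Wf))) hx', hA, hes, ?_, ?_,
    repByAlgSpWith_atlas hQ _ N hN hx' _ hz', ?_, ?_⟩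
  · refine (K735.Top.repByAlgSpWith_surjective_iff h𝒳.isStack.1 hfib (K739.Alg.repByAlgSp1_of hes)).1 ?_
    intro x
    obtain ⟨⟨K, str, ξ, hξ⟩, rfl⟩ := AlgSt.Points.mk_surjective x
    have : Surjective (d.X.π ξ) := hs ξ
    obtain ⟨s₀⟩ : Nonempty (𝒳.p.obj ξ).left := by
      rw [hξ]
      exact ⟨(IsLocalRing.closedPoint K : Spec (CommRingCat.of K))⟩
    obtain ⟨f₀, -⟩ := (d.X.π ξ).surjective s₀
    obtain ⟨Z, -, hZ⟩ := AutLoc.exists_stab_piece d.X h𝒳.isStack.1 hI ξ hξ f₀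
    exact ⟨AlgSt.Points.mk ⟨K, str, ⟨⟨ξ, Z⟩, hZ⟩, hξ⟩, rfl⟩
  · intro w
    refine AutLoc.bijective_autMap hfib hff fun α hα => ?_
    have h1 := w.property w.obj.x (𝟙 _) α hα
    rw [d.X.res_id] at h1
    exact ⟨ObjectProperty.homMk ⟨α, h1⟩, rfl⟩
  · have hs1 : IsSeparated (N.ι ≫ t.left ≫ V.hom) := inferInstance
    have hs2 : (opOver Z₀ N).hom = N.ι ≫ t.left ≫ V.hom := by
      change N.ι ≫ Z₀.hom = _
      rw [Over.w t]
    rw [hs2]
    exact hs1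
  · have hlqf : LocallyQuasiFinite t.left := K597.locallyQuasiFinite_of_etale _
    exact hVA.of_lqf (N.ι ≫ t.left)

end K746.Cov
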