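import Groth.Agent.AlgSt.K746.Sec
import Groth.Agent.AlgSt.K745.QuotDesc
import Groth.Prelude.Def_W4bk4git07Quot

/-!
# Categorical moduli spaces of `[X/G]` and categorical quotients
-/

set_option autoImplicit false
set_option backward.isDefEq.respectTransparency false
set_option backward.isDefEq.respectTransparency.types false

universe u

open CategoryTheory CategoryTheory.Limits MonoidalCategory CartesianMonoidalCategory AlgebraicGeometry Opposite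
open K734.Fib

namespace K746.QuotMod

variable {S : Scheme.{u}} {G : Over S} [GrpObj G] {X : Over S} {aX : AlgGrp.Action G X}

/-- the object of the trivial torsor of a point -/
noncomputable abbrev q (G : Over S) [GrpObj G] {X : Over S} (aX : AlgGrp.Action G X) {T : Over S} (x : T ⟶ X) :
    AlgSt.QuotObj Scheme.fppfPrecoverage G aX :=
  (AlgSt.quotMap Scheme.fppfPrecoverage G aX).obj ⟨T, ⟨x⟩⟩

/-- A functor out of `[X/G]` restricts to an invariant map. -/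
theorem inv_of_factors {N : AlgSp.Sp S} (φ : AlgSt.QuotSt Scheme.fppfPrecoverage G aX ⥤ᵇ AlgSt.ofSp N)
    {ψ : (AlgSp.yon S).obj X ⟶ N}
    (h : ∀ {T : Over S} (x : T ⟶ X), φ.obj (q G aX x) = ⟨T, ψ.hom.app (op T) ⟨x⟩⟩) :
    (AlgSp.yon S).map aX.act ≫ ψ = (AlgSp.yon S).map (snd G X) ≫ ψ := by
  let A := q G aX (𝟙 X)
  have hl1 : (AlgSt.QuotObj.forget Scheme.fppfPrecoverage G aX).IsHomLift (snd G X)
      (K745.QuotDesc.actHom A) := IsHomLift.map _ (K745.QuotDesc.actHom A)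
  let k : (⟨G ⊗ X, ⟨snd G X ≫ 𝟙 X⟩⟩ : (AlgSt.ofSch X).obj) ⟶ ⟨X, ⟨𝟙 X⟩⟩ := ⟨snd G X, rfl⟩
  have hl2 : (AlgSt.QuotObj.forget Scheme.fppfPrecoverage G aX).IsHomLift (snd G X)
      ((AlgSt.quotMap Scheme.fppfPrecoverage G aX).map k) :=
    IsHomLift.map _ ((AlgSt.quotMap Scheme.fppfPrecoverage G aX).map k)
  have e1 := secOf_map φ (z := A) (z' := q G aX A.φ) (T := X) (T' := G ⊗ X) rfl rfl hl1
  have e2 := secOf_map φ (z := A) (z' := q G aX (snd G X ≫ 𝟙 X)) (T := X) (T' := G ⊗ X) rfl rfl hl2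
  have e3 := e1.symm.trans e2
  rw [secOf_eq φ _ (h A.φ), secOf_eq φ _ (h _)] at e3
  have e4 : A.φ = aX.act := by
    change (G ◁ (𝟙 X)) ≫ aX.act = aX.act
    simp
  rw [e4, Category.comp_id] at e3
  apply ObjectProperty.hom_ext
  ext T ⟨z⟩
  have e5 : K745.QuotDesc.sec ψ (z ≫ aX.act) = K745.QuotDesc.sec ψ (z ≫ snd G X) := by
    rw [← K745.QuotDesc.map_sec, ← K745.QuotDesc.map_sec]
    exact congrArg _ e3
  exact e5

variable {Y : Over S} {f : X ⟶ Y} {π : AlgSt.QuotSt Scheme.fppfPrecoverage G aX ⥤ᵇ AlgSt.ofSch Y}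

theorem isCatModuliIn_iff_quot {C : ObjectProperty (AlgSp.Sp S)}
    (hπ : Nonempty (BasedFunctor.comp (AlgSt.quotMap Scheme.fppfPrecoverage G aX) π ≅
      AlgSt.ofSpMap ((AlgSp.yon S).map f))) :
    AlgSt.IsCatModuliIn C π ↔ C ((AlgSp.yon S).obj Y) ∧ ∀ (N : AlgSp.Sp S), C N →
      ∀ ψ : (AlgSp.yon S).obj X ⟶ N, (AlgSp.yon S).map aX.act ≫ ψ = (AlgSp.yon S).map (snd G X) ≫ ψ →
        ∃! χ : (AlgSp.yon S).obj Y ⟶ N, (AlgSp.yon S).map f ≫ χ = ψ := by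
  have hobj : ∀ {T : Over S} (x : T ⟶ X), π.obj (q G aX x) = ⟨T, ⟨x ≫ f⟩⟩ := fun x =>
    (nonempty_iso_ofPsh_iff.1 hπ) ⟨_, ⟨x⟩⟩
  have key : ∀ {N : AlgSp.Sp S} (ψ : (AlgSp.yon S).obj X ⟶ N)
      (hψ : (AlgSp.yon S).map aX.act ≫ ψ = (AlgSp.yon S).map (snd G X) ≫ ψ) (g : (AlgSp.yon S).obj Y ⟶ N),
      (∀ z, (BasedFunctor.comp π (AlgSt.ofSpMap g)).obj z = (K745.QuotDesc.descFunctor N ψ hψ).obj z) ↔
        (AlgSp.yon S).map f ≫ g = ψ := by
    intro N ψ hψ g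
    have hd : ∀ {T : Over S} (x : T ⟶ X), (K745.QuotDesc.descFunctor N ψ hψ).obj (q G aX x) =
        ⟨T, ψ.hom.app (op T) ⟨x⟩⟩ := fun {T} x =>
      congrArg (fun Φ : AlgSt.ofSch X ⥤ᵇ AlgSt.ofSp N => Φ.obj ⟨T, ⟨x⟩⟩)
        (K745.QuotDesc.quotMap_comp_descFunctor N ψ hψ)
    have hg : ∀ {T : Over S} (x : T ⟶ X), (BasedFunctor.comp π (AlgSt.ofSpMap g)).obj (q G aX x) =
        ⟨T, g.hom.app (op T) ⟨x ≫ f⟩⟩ := fun x => congrArg (AlgSt.ofSpMap g).obj (hobj x)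
    constructor
    · intro h
      apply ObjectProperty.hom_ext
      ext T ⟨x⟩
      exact elt_inj ((hg x).symm.trans ((h _).trans (hd x)))
    · intro h
      rw [nonempty_iso_ofPsh_iff.symm]
      refine ⟨eqToIso (K745.QuotDesc.eq_descFunctor N ψ hψ _ (K745.QuotDesc.basedFunctor_ext _ _ ?_))⟩
      rintro ⟨T, ⟨x⟩⟩
      refine (hg x).trans ?_
      rw [← h]
      rfl
  rw [isCatModuliIn_iff]
  refine and_congr_right fun _ => forall_congr' fun N => imp_congr_right fun _ => ?_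
  constructor
  · intro h ψ hψ
    obtain ⟨g, hg, hu⟩ := h (K745.QuotDesc.descFunctor N ψ hψ)
    exact ⟨g, (key ψ hψ g).1 hg, fun g' hg' => hu g' ((key ψ hψ g').2 hg')⟩
  · intro h φ
    let ψ : (AlgSp.yon S).obj X ⟶ N :=
      ⟨pshHom (BasedFunctor.comp (AlgSt.quotMap Scheme.fppfPrecoverage G aX) φ)⟩
    have hq : ∀ {T : Over S} (x : T ⟶ X), φ.obj (q G aX x) = ⟨T, ψ.hom.app (op T) ⟨x⟩⟩ := fun x =>
      obj_eq_pshHom (BasedFunctor.comp (AlgSt.quotMap Scheme.fppfPrecoverage G aX) φ) _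
    have hψ := inv_of_factors φ hq
    have hφ : φ = K745.QuotDesc.descFunctor N ψ hψ := by
      refine K745.QuotDesc.eq_descFunctor N ψ hψ _ (K745.QuotDesc.basedFunctor_ext _ _ ?_)
      rintro ⟨T, ⟨x⟩⟩
      exact hq x
    obtain ⟨g, hg, hu⟩ := h ψ hψ
    rw [hφ]
    exact ⟨g, (key ψ hψ g).2 hg, fun g' hg' => hu g' ((key ψ hψ g').1 hg')⟩

theorem isInvariant_of_factors
    (hπ : Nonempty (BasedFunctor.comp (AlgSt.quotMap Scheme.fppfPrecoverage G aX) π ≅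
      AlgSt.ofSpMap ((AlgSp.yon S).map f))) : aX.act ≫ f = snd G X ≫ f := by
  apply (AlgSp.yon S).map_injective
  rw [Functor.map_comp, Functor.map_comp]
  exact inv_of_factors π fun {T} x => (nonempty_iso_ofPsh_iff.1 hπ) ⟨T, ⟨x⟩⟩

theorem isCatModuliSch_iff
    (hπ : Nonempty (BasedFunctor.comp (AlgSt.quotMap Scheme.fppfPrecoverage G aX) π ≅
      AlgSt.ofSpMap ((AlgSp.yon S).map f))) :
    AlgSt.IsCatModuliSch π ↔ GIT.IsCatQuot aX f := by
  refine (isCatModuliIn_iff_quot hπ).trans ?_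
  constructor
  · rintro ⟨-, h⟩
    refine ⟨isInvariant_of_factors hπ, fun Z ψ hψ => ?_⟩
    obtain ⟨χ, hχ, hu⟩ := h ((AlgSp.yon S).obj Z)
      (AlgSp.representableByOfIso (Iso.refl _)).isRepresentable ((AlgSp.yon S).map ψ) (by
        rw [← Functor.map_comp, ← Functor.map_comp]; exact congrArg _ hψ)
    obtain ⟨χ, rfl⟩ := (AlgSp.yon S).map_surjective χ
    rw [← Functor.map_comp] at hχ
    refine ⟨χ, (AlgSp.yon S).map_injective hχ, fun χ' hχ' => (AlgSp.yon S).map_injective (hu _ ?_)⟩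
    change (AlgSp.yon S).map f ≫ (AlgSp.yon S).map χ' = (AlgSp.yon S).map ψ
    rw [← Functor.map_comp, hχ']
  · rintro ⟨-, h⟩
    refine ⟨(AlgSp.representableByOfIso (Iso.refl _)).isRepresentable, ?_⟩
    rintro N ⟨Z, ⟨e⟩⟩ ψ hψ
    let i := AlgSp.isoOfRepresentableBy e
    obtain ⟨ψ', hψ'⟩ := (AlgSp.yon S).map_surjective (ψ ≫ i.inv)
    have h1 : GIT.IsInvariant aX ψ' := by
      apply (AlgSp.yon S).map_injective
      rw [Functor.map_comp, Functor.map_comp, hψ', reassoc_of% hψ]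
    obtain ⟨χ, hχ, hu⟩ := h Z ψ' h1
    refine ⟨(AlgSp.yon S).map χ ≫ i.hom, ?_, fun χ' hχ' => ?_⟩
    · change (AlgSp.yon S).map f ≫ (AlgSp.yon S).map χ ≫ i.hom = ψ
      rw [← Functor.map_comp_assoc, hχ, hψ', Category.assoc, Iso.inv_hom_id, Category.comp_id]
    · obtain ⟨χ₀, hχ₀⟩ := (AlgSp.yon S).map_surjective (χ' ≫ i.inv)
      have h2 : f ≫ χ₀ = ψ' := by
        apply (AlgSp.yon S).map_injective
        rw [Functor.map_comp, hχ₀, hψ', reassoc_of% hχ']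
      rw [← hu _ h2, hχ₀, Category.assoc, Iso.inv_hom_id, Category.comp_id]

end K746.QuotMod
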