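import Groth.Agent.AlgSp.K651.Sigma
import Groth.Agent.AlgSt.K746.AffFin
import Groth.Prelude.Def_SymProd

/-!
# Étale covers by disjoint unions of affine schemes separated over the base
-/

set_option autoImplicit false
universe u

open CategoryTheory CategoryTheory.Limits AlgebraicGeometry Opposite TopologicalSpace

namespace K746.SigAff

variable {S : Scheme.{u}}

/-- Every finite set of points is contained in an affine open. -/
def AF (X : Scheme.{u}) : Prop := ∀ E : Set X, E.Finite → ∃ U : X.Opens, IsAffineOpen U ∧ E ⊆ (U : Set X)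

theorem AF.isAF {X Y : Scheme.{u}} (h : AF X) (f : X ⟶ Y) : SymProd.IsAF f := by
  intro s T _
  obtain ⟨U, hU, hT⟩ := h (T : Set X) T.finite_toSet
  exact ⟨U, hU, fun x hx => hT hx⟩

/-- `AF` passes to separated locally quasi-finite schemes. -/
theorem AF.of_lqf {X Y : Scheme.{u}} (h : AF Y) (f : X ⟶ Y) [IsSeparated f] [LocallyQuasiFinite f]
    [LocallyOfFiniteType f] : AF X := by
  intro E hE
  obtain ⟨O, hO, hEO⟩ := h (f '' E) (hE.image _)
  obtain ⟨W, hW, hEW, -⟩ := AffFin.exists_isAffineOpen_over f E hE O hO (fun x hx => hEO ⟨x, hx, rfl⟩)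
  exact ⟨W, hW, hEW⟩

/-- `AF` for disjoint unions of affine schemes. -/
theorem af_sigma {ι : Type u} (Z : ι → Scheme.{u}) (h : ∀ i, IsAffine (Z i)) : AF (∐ Z) := by
  intro E hE
  classical
  choose idx y hy using fun t : (∐ Z : Scheme.{u}) => (sigmaOpenCover Z).exists_eq t
  let s : Set ι := idx '' E
  have hs : s.Finite := hE.image _
  refine ⟨⨆ i ∈ s, (Sigma.ι Z i).opensRange, IsAffineOpen.biSup_of_disjoint hs (fun i _ => ?_) ?_, ?_⟩
  · have := h i
    exact isAffineOpen_opensRange (Sigma.ι Z i)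
  · intro i _ j _ hij
    exact disjoint_opensRange_sigmaι Z i j hij
  · intro t ht
    have h1 : t ∈ (Sigma.ι Z (idx t)).opensRange := ⟨y t, hy t⟩
    have h2 : idx t ∈ s := ⟨t, ht, rfl⟩
    have h3 : (Sigma.ι Z (idx t)).opensRange ≤ ⨆ i ∈ s, (Sigma.ι Z i).opensRange :=
      le_iSup₂_of_le (idx t) h2 le_rfl
    exact h3 h1

/-- Every scheme over `S` has an étale cover by a disjoint union of affine schemes, separated over `S`. -/
theorem exists_cover (W : Over S) : ∃ (V : Over S) (i : V ⟶ W), Etale i.left ∧ Surjective i.left ∧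
    IsSeparated V.hom ∧ AF V.left := by
  have h1 : ∀ w : W.left, ∃ (N : W.left.Opens) (A : S.Opens), w ∈ N ∧ IsAffineOpen N ∧ IsAffineOpen A ∧
      N ≤ W.hom ⁻¹ᵁ A := by
    intro w
    obtain ⟨A, hA, hwA, -⟩ := exists_isAffineOpen_mem_and_subset (X := S) (x := W.hom w) (U := ⊤) trivial
    obtain ⟨N, hN, hwN, hNA⟩ := exists_isAffineOpen_mem_and_subset (X := W.left) (x := w) (U := W.hom ⁻¹ᵁ A) hwA
    exact ⟨N, A, hwN, hN, hA, hNA⟩
  choose N A hwN hN hA hNA using h1
  let V : Over S := Over.mk (Sigma.desc fun w => (N w).ι ≫ W.hom)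
  let i : V ⟶ W := Over.homMk (Sigma.desc fun w => (N w).ι) (by
    apply Sigma.hom_ext
    intro w
    simp [V])
  refine ⟨V, i, ?_, ?_, ?_, ?_⟩
  · exact IsZariskiLocalAtSource.sigmaDesc fun w => (inferInstance : Etale (N w).ι)
  · refine Surjective.sigmaDesc_of_union_range_eq_univ ?_
    rw [Set.eq_univ_iff_forall]
    intro w
    refine Set.mem_iUnion.2 ⟨w, ?_⟩
    rw [Scheme.Opens.range_ι]
    exact hwN w
  · refine K651.Sigma.isSeparated_sigmaDesc _ _ fun w => ?_
    have hr : Set.range ((N w).ι ≫ W.hom) ⊆ Set.range (A w).ι := by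
      rw [Scheme.Opens.range_ι]
      rintro _ ⟨z, rfl⟩
      exact hNA w z.2
    have : IsAffine (N w : Scheme.{u}) := hN w
    have : IsAffine (A w : Scheme.{u}) := hA w
    rw [← IsOpenImmersion.lift_fac (A w).ι ((N w).ι ≫ W.hom) hr]
    infer_instance
  · exact af_sigma _ fun w => hN w

end K746.SigAff
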