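import Groth.Agent.AlgSt.K746.TwoCart
import Groth.Agent.AlgSt.K746.ModUniq

/-!
# Transport of 2-cartesian squares of moduli maps along isomorphisms of the bases
-/

set_option autoImplicit false
set_option backward.isDefEq.respectTransparency false
set_option backward.isDefEq.respectTransparency.types false

universe w₄ v₄ w₃ v₃ v u

open CategoryTheory CategoryTheory.Limits AlgebraicGeometry Opposite
open K734.Fib

namespace K746.SqTrans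

variable {S : Scheme.{u}} {𝒳 : BasedCategory.{v₃, w₃} (Over S)} {𝒳' : BasedCategory.{v₄, w₄} (Over S)}
  {h : 𝒳' ⥤ᵇ 𝒳}

theorem isTwoCartOver_trans {M M₁ M' M₁' : AlgSp.Sp S} {π : 𝒳 ⥤ᵇ AlgSt.ofSp M} {π₁ : 𝒳 ⥤ᵇ AlgSt.ofSp M₁}
    {π' : 𝒳' ⥤ᵇ AlgSt.ofSp M'} {π₁' : 𝒳' ⥤ᵇ AlgSt.ofSp M₁'} {g : M' ⟶ M} {g₁ : M₁' ⟶ M₁}
    (i : M ≅ M₁) (i' : M' ≅ M₁') (hi : ∀ z, (AlgSt.ofSpMap i.hom).obj (π.obj z) = π₁.obj z)
    (hi' : ∀ z, (AlgSt.ofSpMap i'.hom).obj (π'.obj z) = π₁'.obj z) (hg : i'.hom ≫ g₁ = g ≫ i.hom)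
    {e : BasedFunctor.comp h π ≅ BasedFunctor.comp π' (AlgSt.ofSpMap g)} (he : FibCat.IsTwoCartOver h π' e)
    (e₁ : BasedFunctor.comp h π₁ ≅ BasedFunctor.comp π₁' (AlgSt.ofSpMap g₁)) :
    FibCat.IsTwoCartOver h π₁' e₁ := by
  obtain ⟨α⟩ : Nonempty (BasedFunctor.comp (BasedFunctor.id 𝒳) π₁ ≅ BasedFunctor.comp π (AlgSt.ofSpMap i.hom)) :=
    (nonempty_iso_ofPsh_iff (Φ := BasedFunctor.comp (BasedFunctor.id 𝒳) π₁)
      (Ψ := BasedFunctor.comp π (AlgSt.ofSpMap i.hom))).2 (fun z => (hi z).symm)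
  obtain ⟨β⟩ : Nonempty (BasedFunctor.comp (AlgSt.ofSpMap i'.hom) (AlgSt.ofSpMap g₁) ≅
      BasedFunctor.comp (AlgSt.ofSpMap g) (AlgSt.ofSpMap i.hom)) :=
    (nonempty_iso_ofPsh_iff (Φ := BasedFunctor.comp (AlgSt.ofSpMap i'.hom) (AlgSt.ofSpMap g₁))
      (Ψ := BasedFunctor.comp (AlgSt.ofSpMap g) (AlgSt.ofSpMap i.hom))).2 (fun z => by
        change (AlgSt.ofSpMap (i'.hom ≫ g₁)).obj z = (AlgSt.ofSpMap (g ≫ i.hom)).obj z
        rw [hg])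
  obtain ⟨γ⟩ : Nonempty (BasedFunctor.comp π' (AlgSt.ofSpMap i'.hom) ≅ π₁') :=
    (nonempty_iso_ofPsh_iff (Φ := BasedFunctor.comp π' (AlgSt.ofSpMap i'.hom)) (Ψ := π₁')).2 hi'
  have hE : FibCat.IsEquivOver (fpMap (F := π₁) (G := AlgSt.ofSpMap g₁) (F' := π) (G' := AlgSt.ofSpMap g)
      (BasedFunctor.id 𝒳) (AlgSt.ofSpMap i'.hom) (AlgSt.ofSpMap i.hom) α β) :=
    isEquivOver_fpMap _ _ _ _ _ (isEquivOver_refl _) (K735.Rep.isEquivOver_ofSpMap_of_isIso i'.hom)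
      (full_of (K735.Rep.isEquivOver_ofSpMap_of_isIso i.hom))
      (faithful_of (K735.Rep.isEquivOver_ofSpMap_of_isIso i.hom))
  refine isEquivOver_of_iso (liftExt (H := BasedFunctor.comp (FibCat.fpLift h π' e)
    (fpMap (F := π₁) (G := AlgSt.ofSpMap g₁) (F' := π) (G' := AlgSt.ofSpMap g)
      (BasedFunctor.id 𝒳) (AlgSt.ofSpMap i'.hom) (AlgSt.ofSpMap i.hom) α β)) (K := FibCat.fpLift h π₁' e₁)
      (Iso.refl _) γ (fun x => ?_)) (isEquivOver_comp he hE)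
  apply TwoCart.elt_hom_ext
  have v1 : IsVert (AlgSt.ofSp M₁) (π₁.map (app (Iso.refl (BasedFunctor.comp (FibCat.fpLift h π' e)
      (FibCat.fpFst π (AlgSt.ofSpMap g)))) x).hom) :=
    (app_vert (Iso.refl (BasedFunctor.comp (FibCat.fpLift h π' e) (FibCat.fpFst π (AlgSt.ofSpMap g)))) x).map π₁
  have v2 : IsVert (AlgSt.ofSp M₁) ((AlgSt.ofSpMap g₁).map (app γ x).hom) := (app_vert γ x).map (AlgSt.ofSpMap g₁)
  exact (v1.comp (iso_vert ((FibCat.fpLift h π₁' e₁).obj x))).map_eq.trans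
    ((iso_vert ((BasedFunctor.comp (FibCat.fpLift h π' e) (fpMap (BasedFunctor.id 𝒳) (AlgSt.ofSpMap i'.hom)
      (AlgSt.ofSpMap i.hom) α β)).obj x)).comp v2).map_eq.symm

end K746.SqTrans
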