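import Groth.Agent.AlgSt.K746.FAct
import Groth.Agent.Stk.K751.Fp

/-!
# Local criteria for fullness and for 2-cartesian squares
-/

set_option autoImplicit false
set_option backward.isDefEq.respectTransparency false
set_option backward.isDefEq.respectTransparency.types false

universe w u₅ v₅ u₄ v₄ u₃ v₃ v u

open CategoryTheory CategoryTheory.Limits AlgebraicGeometry Opposite
open K734.Fib K598.Site

namespace K746.TwoCart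

section Full

variable {C : Type u} [Category.{v} C] {𝒲 : BasedCategory.{v₃, u₃} C} {𝒳 : BasedCategory.{v₄, u₄} C}
  {J : GrothendieckTopology C}

/-- `φ : h(a) ⟶ h(b)` lifts to `𝒲` locally. -/
def LocLifts (J : GrothendieckTopology C) (h : 𝒲 ⥤ᵇ 𝒳) {a b : 𝒲.obj} (φ : h.obj a ⟶ h.obj b) : Prop :=
  ∃ R ∈ J (𝒲.p.obj a), ∀ {z : 𝒲.obj} (c : z ⟶ a), R (𝒲.p.map c) → ∃ θ : z ⟶ b, h.map θ = h.map c ≫ φ

/-- Fullness on vertical morphisms is local. -/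
theorem exists_of_locLifts (h𝒲 : Stk.IsPrestack J 𝒲) (h𝒳 : Stk.IsPrestack J 𝒳) (h : 𝒲 ⥤ᵇ 𝒳)
    (hf : h.toFunctor.Faithful) {a b : 𝒲.obj} (φ : h.obj a ⟶ h.obj b) (hφ : IsVert 𝒳 φ)
    (hl : LocLifts J h φ) : ∃ ψ : a ⟶ b, h.map ψ = φ := by
  obtain ⟨R, hR, hl⟩ := hl
  have hab : 𝒲.p.obj a = 𝒲.p.obj b := (h.w_obj a).symm.trans (hφ.obj_eq.trans (h.w_obj b))
  choose θ hθ using @hl
  have h1 : ∀ {z : 𝒲.obj} (c : z ⟶ a) (hc : R (𝒲.p.map c)), 𝒲.p.map (θ c hc) = 𝒲.p.map c ≫ eqToHom hab := by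
    intro z c hc
    have l1 : 𝒳.p.IsHomLift (𝒲.p.map c) (h.map c) := BasedFunctor.preserves_isHomLift h _ _
    have l2 : 𝒳.p.IsHomLift (𝒲.p.map c ≫ eqToHom hab) (h.map c ≫ φ) := by
      have l3 : 𝒳.p.IsHomLift (eqToHom hab) φ := by
        refine IsHomLift.of_fac' 𝒳.p _ _ (h.w_obj a) (h.w_obj b) ?_
        rw [hφ.map_eq]; simp
      exact IsHomLift.comp 𝒳.p _ _ _ _
    rw [← hθ c hc] at l2
    have l4 := (BasedFunctor.isHomLift_iff h (𝒲.p.map c ≫ eqToHom hab) (θ c hc)).1 l2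
    exact (isHomLift_iff_map_eq _ _).1 l4
  obtain ⟨ψ, ⟨h2, h3⟩, -⟩ := K751.Test.glueFrom_of_isPrestack h𝒲 a R hR (y := b) (eqToHom hab)
    (fun z c hc => θ c hc) (fun z c hc => h1 c hc) (fun z' z b' c hc hbc => by
      apply hf.map_injective
      change h.map _ = h.map _
      rw [h.map_comp, hθ, hθ, h.map_comp, Category.assoc])
  refine ⟨ψ, ?_⟩
  have e : 𝒳.p.map (h.map ψ) = 𝒳.p.map φ := by
    have l1 : 𝒳.p.IsHomLift (𝒲.p.map ψ) (h.map ψ) := BasedFunctor.preserves_isHomLift h _ _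
    rw [h2] at l1
    rw [IsHomLift.fac' 𝒳.p (eqToHom hab) (h.map ψ), hφ.map_eq]
    simp
  refine K751.Loc.ext_of_cover h𝒳 (R := R.pullback (eqToHom (h.w_obj a))) (J.pullback_stable _ hR) e ?_
  intro z' c' hc'
  obtain ⟨z, c, hc⟩ := exists_lift h𝒲.1 rfl (𝒳.p.map c' ≫ eqToHom (h.w_obj a))
  have l1 : 𝒳.p.IsHomLift (𝒳.p.map c' ≫ eqToHom (h.w_obj a)) (h.map c) := BasedFunctor.preserves_isHomLift h _ _
  have l2 : 𝒳.p.IsHomLift (𝒳.p.map c' ≫ eqToHom (h.w_obj a)) c' := by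
    refine IsHomLift.of_fac' 𝒳.p _ _ rfl (h.w_obj a) ?_
    simp
  obtain ⟨ε, hε, hε'⟩ := exists_iso_of_lift h𝒳.1 l2 l1
  have hcR : R (𝒲.p.map c) := by
    rw [IsHomLift.fac' 𝒲.p (𝒳.p.map c' ≫ eqToHom (h.w_obj a)) c]
    simp only [eqToHom_refl, Category.comp_id]
    exact R.downward_closed hc' _
  rw [← hε', Category.assoc, Category.assoc, ← h.map_comp, h3 c hcR, hθ]

/-- Fullness from fullness on vertical morphisms. -/
theorem full_of_vert (h𝒲 : FibCat.IsFibGrpd 𝒲.p) (h𝒳 : FibCat.IsFibGrpd 𝒳.p) (h : 𝒲 ⥤ᵇ 𝒳)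
    (hv : ∀ {a b : 𝒲.obj} (φ : h.obj a ⟶ h.obj b), IsVert 𝒳 φ → ∃ ψ : a ⟶ b, h.map ψ = φ) : h.toFunctor.Full := by
  refine ⟨fun {a b} φ => ?_⟩
  let g : 𝒲.p.obj a ⟶ 𝒲.p.obj b := eqToHom (h.w_obj a).symm ≫ 𝒳.p.map φ ≫ eqToHom (h.w_obj b)
  obtain ⟨b', n, hn⟩ := exists_lift h𝒲 rfl g
  have l1 : 𝒳.p.IsHomLift g (h.map n) := BasedFunctor.preserves_isHomLift h g n
  have l2 : 𝒳.p.IsHomLift g φ := by
    refine IsHomLift.of_fac' 𝒳.p _ _ (h.w_obj a) (h.w_obj b) ?_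
    simp [g]
  obtain ⟨χ, h1, h2⟩ := exists_iso_of_lift h𝒳 l2 l1
  obtain ⟨ψ, hψ⟩ := hv χ.hom h1
  refine ⟨ψ ≫ n, ?_⟩
  change h.map (ψ ≫ n) = φ
  rw [h.map_comp, hψ, h2]

end Full

section Cart

variable {C : Type u} [Category.{v} C] {𝒲 : BasedCategory.{v₃, u₃} C} {𝒳 : BasedCategory.{v₄, u₄} C}
  {J : GrothendieckTopology C} {P P' : Cᵒᵖ ⥤ Type w}

theorem elt_hom_ext {a b : (Stk.ofPsh P).obj} {f g : a ⟶ b} (h : (Stk.ofPsh P).p.map f = (Stk.ofPsh P).p.map g) :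
    f = g := Stk.EltObj.hom_ext h

/-- Squares over a map of presheaves are 2-cartesian if they are so locally. -/
theorem isTwoCart_of_local (h𝒲 : Stk.IsStack J 𝒲) (h𝒳 : Stk.IsPrestack J 𝒳) (hP : Stk.IsPrestack J (Stk.ofPsh P))
    (hP' : Stk.IsPrestack J (Stk.ofPsh P')) (h : 𝒲 ⥤ᵇ 𝒳) (π : 𝒳 ⥤ᵇ Stk.ofPsh P) (π' : 𝒲 ⥤ᵇ Stk.ofPsh P')
    (g : Stk.ofPsh P' ⥤ᵇ Stk.ofPsh P) (e : BasedFunctor.comp h π ≅ BasedFunctor.comp π' g)
    (hf : h.toFunctor.Faithful)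
    (hfull : ∀ {a b : 𝒲.obj} (φ : h.obj a ⟶ h.obj b), IsVert 𝒳 φ → π'.obj a = π'.obj b → LocLifts J h φ)
    (hess : ∀ (z : 𝒳.obj) (m : (Stk.ofPsh P').obj) (hm : 𝒳.p.obj z = (Stk.ofPsh P').p.obj m), π.obj z = g.obj m →
      ∃ R ∈ J (𝒳.p.obj z), ∀ ⦃T : C⦄ (f : T ⟶ 𝒳.p.obj z), R f →
        ∃ (a : 𝒲.obj) (n : h.obj a ⟶ z) (k : π'.obj a ⟶ m),
          𝒳.p.IsHomLift f n ∧ (Stk.ofPsh P').p.IsHomLift (f ≫ eqToHom hm) k) :
    FibCat.IsTwoCartOver h π' e := by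
  have hfp : Stk.IsPrestack J (FibCat.fp π g) := K751.Fp.isPrestack_fp h𝒳 hP' hP
  have hw := K751.Test.isPrestack_of_isStack h𝒲
  let K := FibCat.fpLift h π' e
  have hK : BasedFunctor.comp K (FibCat.fpFst π g) = h := rfl
  have i1 : K.toFunctor.Faithful := ⟨fun {a b} f f' hff => hf.map_injective (congrArg (fun k => k.hom.fst) hff)⟩
  have i2 : K.toFunctor.Full := by
    refine full_of_vert hw.1 hfp.1 K fun {a b} φ hφ => ?_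
    have hφ1 : IsVert 𝒳 φ.hom.fst := hφ.map (FibCat.fpFst π g)
    have hφ2 : IsVert (Stk.ofPsh P') φ.hom.snd := hφ.map (FibCat.fpSnd π g)
    obtain ⟨R, hR, hl⟩ := hfull φ.hom.fst hφ1 (eq_of_vert hφ2)
    obtain ⟨ψ, hψ⟩ := exists_of_locLifts hw h𝒳 h hf φ.hom.fst hφ1 ⟨R, hR, hl⟩
    refine ⟨ψ, homFp_ext hψ ?_⟩
    have hψv : IsVert 𝒲 ψ := IsVert.of_map h (by rw [hψ]; exact hφ1)
    have h1 : IsVert (Stk.ofPsh P') (π'.map ψ) := hψv.map π'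
    exact elt_hom_ext (h1.map_eq.trans hφ2.map_eq.symm)
  refine K751.FF.isEquivOver_of_locEssSurj h𝒲 hfp K fun q => ?_
  have hq : π.obj q.obj.fst = g.obj q.obj.snd := eq_of_vert (iso_vert q)
  have hm : 𝒳.p.obj q.obj.fst = (Stk.ofPsh P').p.obj q.obj.snd := (K751.Fp.snd_obj q).symm
  obtain ⟨R, hR, hl⟩ := hess q.obj.fst q.obj.snd hm hq
  refine ⟨R, hR, fun T f hf' => ?_⟩
  obtain ⟨a, n, k, hn, hk⟩ := hl f hf'
  have e1 : (Stk.ofPsh P).p.map (π.map n ≫ q.obj.iso.hom) = (Stk.ofPsh P).p.map ((K.obj a).obj.iso.hom ≫ g.map k) := by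
    have l1 : (Stk.ofPsh P).p.IsHomLift f (π.map n) := BasedFunctor.preserves_isHomLift π f n
    have l2 : (Stk.ofPsh P).p.IsHomLift f (π.map n ≫ q.obj.iso.hom) := lift_comp_vert' l1 (iso_vert q)
    have l3 : (Stk.ofPsh P).p.IsHomLift (f ≫ eqToHom hm) (g.map k) := BasedFunctor.preserves_isHomLift g _ k
    have l4 : (Stk.ofPsh P).p.IsHomLift (f ≫ eqToHom hm) ((K.obj a).obj.iso.hom ≫ g.map k) :=
      lift_vert_comp (iso_vert (K.obj a)) l3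
    rw [IsHomLift.fac' (Stk.ofPsh P).p f (π.map n ≫ q.obj.iso.hom),
      IsHomLift.fac' (Stk.ofPsh P).p (f ≫ eqToHom hm) ((K.obj a).obj.iso.hom ≫ g.map k)]
    simp
  exact ⟨a, mkHomFp (a := K.obj a) (b := q) n k (elt_hom_ext e1), (K751.Fp.isHomLift_iff f _).2 hn⟩

end Cart

end K746.TwoCart
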