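import Groth.Agent.AlgSt.K746.TwoCart
import Groth.Agent.AlgSp.K595.Sections
import Groth.Agent.AlgSt.K740.SpDM

/-!
# 2-cartesian squares from cartesian squares of charts
-/

set_option autoImplicit false
set_option backward.isDefEq.respectTransparency false
set_option backward.isDefEq.respectTransparency.types false

universe w u₅ v₅ u₄ v₄ u₃ v₃ v u

open CategoryTheory CategoryTheory.Limits AlgebraicGeometry Opposite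
open K734.Fib K598.Site

namespace K746.TwoCart

theorem exists_Xo {C : Type u} [Category.{v} C] {𝒳 : BasedCategory.{v₃, u₃} C} {J : GrothendieckTopology C} {U : C}
    {x : FibCat.overCat U ⥤ᵇ 𝒳} (h : LocSurj J x) (z : 𝒳.obj) : ∃ R ∈ J (𝒳.p.obj z),
      ∀ ⦃T : C⦄ (f : T ⟶ 𝒳.p.obj z), R f → ∃ (u : T ⟶ U) (m : Xo x u ⟶ z), 𝒳.p.IsHomLift f m := by
  obtain ⟨R, hR, hz⟩ := h z
  refine ⟨R, hR, fun T f hf => ?_⟩
  obtain ⟨⟨T₁, ⟨⟨⟩⟩, u⟩, m, hm⟩ := hz f hf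
  obtain rfl : T₁ = T := (x.w_obj (Over.mk u)).symm.trans (IsHomLift.domain_eq 𝒳.p f m)
  exact ⟨u, m, hm⟩

/-- Two lifts of the same arrow, to a category fibred in sets. -/
theorem obj_eq_of_lifts {C : Type u} [Category.{v} C] {P : Cᵒᵖ ⥤ Type w} {a a' b b' : (Stk.ofPsh P).obj} (hb : b = b')
    {T T' : C} {f f' : T' ⟶ T} (hff : f = f') {φ : a ⟶ b} {φ' : a' ⟶ b'} (h : (Stk.ofPsh P).p.IsHomLift f φ)
    (h' : (Stk.ofPsh P).p.IsHomLift f' φ') : a = a' := by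
  subst hb hff
  obtain ⟨e, he, -⟩ := exists_iso_of_lift (isFibGrpd_ofPsh' P) h h'
  exact eq_of_vert he

variable {S : Scheme.{u}} {𝒳 : BasedCategory.{v₃, u₃} (Over S)} {𝒳' : BasedCategory.{v₄, u₄} (Over S)}
  {U W : Over S} {x : FibCat.overCat U ⥤ᵇ 𝒳} {h : 𝒳' ⥤ᵇ 𝒳} (H : FRep x h W)
  (h𝒳 : FibCat.IsFibGrpd 𝒳.p) (h𝒳' : FibCat.IsFibGrpd 𝒳'.p)

include h𝒳 in
/-- The point `w` in terms of the universal chart. -/
theorem exists_isPt_fCh {T : Over S} (w : T ⟶ W) : ∃ φ : Xo x (w ≫ H.c) ⟶ h.obj (Xo (fCh H h𝒳') w), H.IsPt w φ := by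
  have hm : 𝒳'.p.IsHomLift w (K751.Test.yoε h𝒳' H.y H.hy (Over.mk w)) :=
    K751.Test.yoε_lift h𝒳' H.y H.hy (Over.mk w)
  have h1 : 𝒳.p.IsHomLift w (h.map (K751.Test.yoε h𝒳' H.y H.hy (Over.mk w))) :=
    BasedFunctor.preserves_isHomLift h w _
  have h2 : 𝒳.p.IsHomLift (𝟙 T ≫ w) (rs x w rfl ≫ H.θ) := by
    rw [Category.id_comp]
    exact rs_comp_lift x w rfl H.vert
  obtain ⟨φ, h3, h4⟩ := exists_fac' h𝒳 h1 h2
  exact ⟨φ, IsVert.of_lift h3, rfl, _, hm, h4⟩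

/-- A point of `W` with object `z`: `z` is isomorphic to the value of the universal chart. -/
theorem exists_iso_fCh {T : Over S} {w : T ⟶ W} {u : T ⟶ U} {z : 𝒳'.obj} {φ : Xo x u ⟶ h.obj z} (hw : H.IsPt w φ) :
    ∃ β : z ⟶ Xo (fCh H h𝒳') w, IsVert 𝒳' β := by
  obtain ⟨-, -, m, hm, -⟩ := hw
  obtain ⟨e, he, -⟩ := exists_iso_of_lift h𝒳' hm (K751.Test.yoε_lift h𝒳' H.y H.hy (Over.mk w))
  exact ⟨e.hom, he⟩

variable {M M' : AlgSp.Sp S} {π : 𝒳 ⥤ᵇ AlgSt.ofSp M} {π' : 𝒳' ⥤ᵇ AlgSt.ofSp M'} {g : M' ⟶ M}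
  {p : (AlgSp.yon S).obj U ⟶ M} {p' : (AlgSp.yon S).obj W ⟶ M'}
  (hπ : ∀ y, π.obj ((chF x).obj y) = (AlgSt.ofSpMap p).obj y)
  (hπ' : ∀ y, π'.obj ((chF (fCh H h𝒳')).obj y) = (AlgSt.ofSpMap p').obj y)

include hπ in
theorem pi_Xo {T : Over S} (u : T ⟶ U) : π.obj (Xo x u) = ⟨T, p.hom.app (op T) ⟨u⟩⟩ := hπ ⟨T, ⟨u⟩⟩

include hπ' in
theorem pi'_Xo {T : Over S} (w : T ⟶ W) : π'.obj (Xo (fCh H h𝒳') w) = ⟨T, p'.hom.app (op T) ⟨w⟩⟩ := hπ' ⟨T, ⟨w⟩⟩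

include h𝒳 hπ hπ' in
theorem obj_eq (hls : LocSurj (AlgSp.J S) x) (sq : p' ≫ g = (AlgSp.yon S).map H.c ≫ p) (z : 𝒳'.obj) :
    π.obj (h.obj z) = (AlgSt.ofSpMap g).obj (π'.obj z) := by
  refine eq_of_locSurj (F := fCh H h𝒳') (Φ := BasedFunctor.comp h π)
    (Ψ := BasedFunctor.comp π' (AlgSt.ofSpMap g)) (locSurj_fCh h𝒳 h𝒳' hls) (isSheaf_obj M) (fun y => ?_) z
  obtain ⟨T, ⟨⟨⟩⟩, w⟩ := y
  obtain ⟨φ, hφ⟩ := exists_isPt_fCh H h𝒳 h𝒳' w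
  have h1 : π.obj (Xo x (w ≫ H.c)) = π.obj (h.obj (Xo (fCh H h𝒳') w)) := eq_of_vert (hφ.vert.map π)
  change π.obj (h.obj (Xo (fCh H h𝒳') w)) = (AlgSt.ofSpMap g).obj (π'.obj (Xo (fCh H h𝒳') w))
  rw [← h1, pi_Xo hπ, pi'_Xo H h𝒳' hπ']
  have h2 : (p' ≫ g).hom.app (op T) ⟨w⟩ = ((AlgSp.yon S).map H.c ≫ p).hom.app (op T) ⟨w⟩ := by rw [sq]
  exact congrArg (fun s => (⟨T, s⟩ : Stk.EltObj M.obj)) h2.symm

include h𝒳 hπ' in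
/-- Fullness, locally. -/
theorem locLifts (hls : LocSurj (AlgSp.J S) x) (sq : IsPullback p' ((AlgSp.yon S).map H.c) g p)
    {a b : 𝒳'.obj} (φ : h.obj a ⟶ h.obj b) (hφ : IsVert 𝒳 φ) (hab' : π'.obj a = π'.obj b) :
    LocLifts (AlgSp.J S) h φ := by
  have hls' := locSurj_fCh (H := H) h𝒳 h𝒳' hls
  obtain ⟨Ra, hRa, ha⟩ := exists_Xo hls' a
  obtain ⟨Rb, hRb, hb⟩ := exists_Xo hls' b
  have hab : 𝒳'.p.obj a = 𝒳'.p.obj b := (h.w_obj a).symm.trans (hφ.obj_eq.trans (h.w_obj b))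
  refine ⟨Ra ⊓ Rb.pullback (eqToHom hab), (AlgSp.J S).intersection_covering hRa
    ((AlgSp.J S).pullback_stable _ hRb), fun {z} c hc => ?_⟩
  obtain ⟨wa, ma, hma⟩ := ha _ hc.1
  obtain ⟨wb, mb, hmb⟩ := hb _ hc.2
  have hφ' : 𝒳.p.IsHomLift (eqToHom hab) φ := hφ.lift_eqToHom (h.w_obj a) hab
  have l1 : 𝒳.p.IsHomLift (𝒳'.p.map c) (h.map ma) := BasedFunctor.preserves_isHomLift h _ _
  have l2 : 𝒳.p.IsHomLift (𝒳'.p.map c ≫ eqToHom hab) (h.map ma ≫ φ) := IsHomLift.comp 𝒳.p _ _ _ _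
  have l3 : 𝒳.p.IsHomLift (𝒳'.p.map c ≫ eqToHom hab) (h.map mb) := BasedFunctor.preserves_isHomLift h _ _
  obtain ⟨χ, hχ, hχ'⟩ := exists_iso_of_lift h𝒳 l2 l3
  obtain ⟨φa, hφa⟩ := exists_isPt_fCh H h𝒳 h𝒳' wa
  obtain ⟨w, hw⟩ := H.exists_isPt (φa ≫ χ.hom) (hφa.vert.comp hχ)
  have hwa : w = wa := by
    -- compare the images in `M'`
    obtain ⟨β, hβ⟩ := exists_iso_fCh H h𝒳' hw
    have e1 : π'.obj (Xo (fCh H h𝒳') wb) = π'.obj (Xo (fCh H h𝒳') w) := eq_of_vert (hβ.map π')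
    have k1 : (AlgSt.ofSp M').p.IsHomLift (𝒳'.p.map c) (π'.map ma) := BasedFunctor.preserves_isHomLift π' _ _
    have k2 : (AlgSt.ofSp M').p.IsHomLift (𝒳'.p.map c ≫ eqToHom hab) (π'.map mb) :=
      BasedFunctor.preserves_isHomLift π' _ _
    have k3 : (AlgSt.ofSp M').p.IsHomLift (𝒳'.p.map c ≫ eqToHom hab) (π'.map ma ≫ eqToHom hab') := by
      have k4 : (AlgSt.ofSp M').p.IsHomLift (eqToHom hab) (eqToHom hab') :=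
        (IsVert.eqToHom hab').lift_eqToHom (π'.w_obj a) hab
      exact IsHomLift.comp (AlgSt.ofSp M').p _ _ _ _
    have e2 : π'.obj (Xo (fCh H h𝒳') wa) = π'.obj (Xo (fCh H h𝒳') wb) := obj_eq_of_lifts rfl rfl k3 k2
    have e3 := e2.trans e1
    rw [pi'_Xo H h𝒳' hπ', pi'_Xo H h𝒳' hπ'] at e3
    have e4 : ((AlgSp.yon S).map H.c).hom.app (op _) (⟨wa⟩ : ((AlgSp.yon S).obj W).obj.obj (op (𝒳'.p.obj z))) =
        ((AlgSp.yon S).map H.c).hom.app (op _) (⟨w⟩ : ((AlgSp.yon S).obj W).obj.obj (op (𝒳'.p.obj z))) :=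
      congrArg ULift.up hw.hc.symm
    have e5 := K595.Sections.section_ext sq (elt_inj e3) e4
    exact (congrArg ULift.down e5).symm
  subst hwa
  obtain ⟨β, hβ, hβ'⟩ := hφa.exists_iso h𝒳' h𝒳 hw
  have := isIso_of_vert h𝒳 hφa.vert
  have hβχ : h.map β = χ.hom := (cancel_epi φa).1 hβ'
  obtain ⟨ε, hε, hε'⟩ := exists_iso_of_lift h𝒳' (inferInstance : 𝒳'.p.IsHomLift (𝒳'.p.map c) c) hma
  refine ⟨ε.hom ≫ β ≫ mb, ?_⟩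
  rw [h.map_comp, h.map_comp, hβχ, hχ', ← hε', h.map_comp, Category.assoc]

include h𝒳 hπ hπ' in
/-- Essential surjectivity, locally. -/
theorem locEss (hls : LocSurj (AlgSp.J S) x) (sq : IsPullback p' ((AlgSp.yon S).map H.c) g p)
    (z : 𝒳.obj) (m : (AlgSt.ofSp M').obj) (hm : 𝒳.p.obj z = (AlgSt.ofSp M').p.obj m)
    (hz : π.obj z = (AlgSt.ofSpMap g).obj m) :
      ∃ R ∈ AlgSp.J S (𝒳.p.obj z), ∀ ⦃T : Over S⦄ (f : T ⟶ 𝒳.p.obj z), R f →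
        ∃ (a : 𝒳'.obj) (n : h.obj a ⟶ z) (k : π'.obj a ⟶ m),
          𝒳.p.IsHomLift f n ∧ (AlgSt.ofSp M').p.IsHomLift (f ≫ eqToHom hm) k := by
  obtain ⟨R, hR, hl⟩ := exists_Xo hls z
  refine ⟨R, hR, fun T f hf => ?_⟩
  obtain ⟨u, n₀, hn₀⟩ := hl f hf
  obtain ⟨m', k₀, hk₀⟩ := exists_lift (isFibGrpd_ofPsh' M'.obj) (a := m) rfl (f ≫ eqToHom hm)
  obtain ⟨T₁, s⟩ := m'
  obtain rfl : T₁ = T := IsHomLift.domain_eq (AlgSt.ofSp M').p (f ≫ eqToHom hm) k₀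
  have k1 : (AlgSt.ofSp M).p.IsHomLift f (π.map n₀) := BasedFunctor.preserves_isHomLift π _ _
  have k2 : (AlgSt.ofSp M).p.IsHomLift (f ≫ eqToHom hm) (π.map n₀ ≫ eqToHom hz) := by
    have k4 : (AlgSt.ofSp M).p.IsHomLift (eqToHom hm) (eqToHom hz) :=
      (IsVert.eqToHom hz).lift_eqToHom (π.w_obj z) hm
    exact IsHomLift.comp (AlgSt.ofSp M).p _ _ _ _
  have k3 : (AlgSt.ofSp M).p.IsHomLift (f ≫ eqToHom hm) ((AlgSt.ofSpMap g).map k₀) :=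
    BasedFunctor.preserves_isHomLift (AlgSt.ofSpMap g) _ _
  have e1 : π.obj (Xo x u) = (AlgSt.ofSpMap g).obj ⟨T₁, s⟩ := obj_eq_of_lifts rfl rfl k2 k3
  rw [pi_Xo hπ] at e1
  have e2 : p.hom.app (op T₁) ⟨u⟩ = g.hom.app (op T₁) s := elt_inj e1
  obtain ⟨⟨w⟩, hw1, hw2⟩ := K595.Sections.exists_section sq s ⟨u⟩ e2.symm
  obtain rfl : w ≫ H.c = u := congrArg ULift.down hw2
  obtain ⟨φ, hφ⟩ := exists_isPt_fCh H h𝒳 h𝒳' w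
  have := isIso_of_vert h𝒳 hφ.vert
  have e3 : π'.obj (Xo (fCh H h𝒳') w) = ⟨T₁, s⟩ := by
    rw [pi'_Xo H h𝒳' hπ', hw1]
  refine ⟨Xo (fCh H h𝒳') w, CategoryTheory.inv φ ≫ n₀, eqToHom e3 ≫ k₀,
    lift_vert_comp (IsVert.isIso_inv hφ.vert) hn₀, lift_vert_comp (IsVert.eqToHom e3) hk₀⟩

/-- **The square is 2-cartesian if it is so on charts.** -/
theorem exists_isTwoCartOver (hls : LocSurj (AlgSp.J S) x) (h𝒳s : Stk.IsPrestack (AlgSp.J S) 𝒳)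
    (h𝒳s' : Stk.IsStack (AlgSp.J S) 𝒳') (hf : h.toFunctor.Faithful)
    (hπ : ∀ y, π.obj ((chF x).obj y) = (AlgSt.ofSpMap p).obj y)
    (hπ' : ∀ y, π'.obj ((chF (fCh H h𝒳s'.1)).obj y) = (AlgSt.ofSpMap p').obj y)
    (sq : IsPullback p' ((AlgSp.yon S).map H.c) g p) :
    ∃ e : BasedFunctor.comp h π ≅ BasedFunctor.comp π' (AlgSt.ofSpMap g), FibCat.IsTwoCartOver h π' e := by
  obtain ⟨e⟩ := (nonempty_iso_ofPsh_iff (Φ := BasedFunctor.comp h π)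
    (Ψ := BasedFunctor.comp π' (AlgSt.ofSpMap g))).2 (obj_eq H h𝒳s.1 h𝒳s'.1 hπ hπ' hls sq.w)
  have hM : ∀ N : AlgSp.Sp S, Stk.IsPrestack (AlgSp.J S) (AlgSt.ofSp N) := fun N =>
    K751.Test.isPrestack_of_isStack (K740.SpDM.isStack_ofSp N)
  exact ⟨e, isTwoCart_of_local h𝒳s' h𝒳s (hM M) (hM M') h π π' (AlgSt.ofSpMap g) e hf
    (fun φ hφ hab => locLifts H h𝒳s.1 h𝒳s'.1 hπ' hls sq φ hφ hab)
    (fun z m hm hz => locEss H h𝒳s.1 h𝒳s'.1 hπ hπ' hls sq z m hm hz)⟩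

end K746.TwoCart
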