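import Groth.Agent.AlgSt.K742.RepComp
import Groth.Agent.AlgSt.K735.Rep
import Groth.Prelude.Def_W4stkstmodspWNA

/-!
# A stack affine over a well-nigh affine stack is well-nigh affine
-/

set_option autoImplicit false
set_option backward.isDefEq.respectTransparency false
set_option backward.isDefEq.respectTransparency.types false

universe w' v' w v u

open CategoryTheory CategoryTheory.Limits AlgebraicGeometry Opposite

namespace K746.WnaAff

variable {S : Scheme.{u}} {𝒳 : BasedCategory.{v, w} (Over S)} {𝒳' : BasedCategory.{v', w'} (Over S)}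

/-- the base change of an affine chart along an affine morphism -/
theorem exists_chart_of_affine {P : MorphismProperty (AlgSp.Sp S)} {U : Over S} (hU : IsAffine U.left)
    (x : FibCat.overCat U ⥤ᵇ 𝒳) (hx : AlgSt.RepByAlgSpWith P x) (f : 𝒳' ⥤ᵇ 𝒳)
    (hf : AlgSt.RepByAlgSpWith AlgSp.IsAffineMor f) :
    ∃ (W : Over S) (x' : FibCat.overCat W ⥤ᵇ 𝒳'), IsAffine W.left ∧ AlgSt.RepByAlgSpWith P x' := by
  obtain ⟨F, e, he, hP⟩ := hf U x
  obtain ⟨W, i, fst, sq, hW⟩ := hP hU (𝟙 _)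
  have hfst : IsIso fst := sq.isIso_fst_of_isIso
  let a : FibCat.overCat W ⥤ᵇ FibCat.fp x f :=
    BasedFunctor.comp (AlgSt.ofOverCat W) (BasedFunctor.comp (AlgSt.ofSpMap fst) e)
  have ha : FibCat.IsEquivOver a :=
    K735.Fib.IsEquivOver.comp ⟨AlgSt.toOverCat W, ⟨Iso.refl _⟩, ⟨Iso.refl _⟩⟩
      (K735.Fib.IsEquivOver.comp (K735.Rep.isEquivOver_ofSpMap_of_isIso fst) he)
  refine ⟨W, BasedFunctor.comp a (FibCat.fpSnd x f), hW, ?_⟩
  exact K735.Rep.repByAlgSpWith_of_sq P (FibCat.fpSnd x f) _ a (BasedFunctor.id _) ha K735.Fib.isEquivOver_id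
    (Iso.refl _) (K742.RepComp.repByAlgSpWith_fpSnd x f hx)

end K746.WnaAff
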