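import Groth.Agent.AlgSt.K746.Piece
import Groth.Agent.AlgSt.K746.EtWna
import Groth.Agent.AlgSt.K736.KMChart
import Groth.Agent.AlgSt.K737.OpenSt

/-!
# Well-nigh affine étale neighbourhoods
-/

set_option autoImplicit false
set_option backward.isDefEq.respectTransparency false
set_option backward.isDefEq.respectTransparency.types false

universe u₄ v₄ u₃ v₃ v u

open CategoryTheory CategoryTheory.Limits AlgebraicGeometry Opposite TopologicalSpace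
open K734.Fib K598.Site K899.OpenCrit

namespace K746.Cov

variable {S : Scheme.{u}} {𝒲 : AlgSt.Cat S} {Z : Over S} {z : FibCat.overCat Z ⥤ᵇ 𝒲}

theorem isOpenMap_chart (h𝒲 : FibCat.IsFibGrpd 𝒲.p) (hz : AlgSt.RepByAlgSpWith (WnaP S) z) :
    IsOpenMap (AlgSt.Points.ofChart z) := by
  refine K735.Top.isOpenMap_ofChart z ?_
  refine K735.Top.isOpenMap_map (P := @Flat ⊓ @LocallyOfFinitePresentation) K735.Top.isOpenMap_of_flat_lfp
      h𝒲 (K735.Fp.isFibGrpd_overCat Z) (K735.Top.chartCont_overCat Z) ?_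
  exact DiagFin.repByAlgSpWith_mono' (𝒳 := FibCat.overCat Z) (fun q hq => K597.locP_inf_iff.2 ⟨hq.1.1.2, hq.2⟩) hz

theorem surjective_chart (h𝒲 : FibCat.IsFibGrpd 𝒲.p) (hz : AlgSt.RepByAlgSpWith (WnaP S) z) :
    Function.Surjective (AlgSt.Points.ofChart z) := by
  refine (K735.PtsSp.surjective_map_iff_surjective_ofChart z).1 ?_
  exact K735.Top.surjective_of_repByAlgSpWith h𝒲 (K735.Fp.isFibGrpd_overCat Z)
    (K739.Alg.repByAlgSpWith_mono (fun _ _ _ h => h.1.1.1) hz)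

/-- Every point of a stack with a good finite locally free chart lies in a well-nigh affine open substack. -/
theorem exists_wna_open (h𝒲 : AlgSt.IsAlgStack Scheme.fppfPrecoverage 𝒲) (hz : AlgSt.RepByAlgSpWith (WnaP S) z)
    (hAF : SigAff.AF Z.left) (w : AlgSt.Points 𝒲) :
    ∃ T : Set (AlgSt.Points 𝒲), w ∈ T ∧ IsOpen T ∧
      AlgSt.IsWellNighAffine (AlgSt.fullSub 𝒲 (K737.Open.predOf T)) := by
  obtain ⟨R, G, H⟩ := K736.KM.exists_invariant h𝒲.isStack.1 hz (hAF.isAF Z.hom)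
  obtain ⟨z₀, rfl⟩ := surjective_chart h𝒲.isStack.1 hz w
  obtain ⟨W, hW, hzW, hinv⟩ := H z₀
  let T : Set (AlgSt.Points 𝒲) := AlgSt.Points.ofChart z '' (W : Set Z.left)
  have hT : IsOpen T := isOpenMap_chart h𝒲.isStack.1 hz _ W.isOpen
  have hpre : AlgSt.Points.ofChart z ⁻¹' T = (W : Set Z.left) := by
    apply subset_antisymm
    · rintro y ⟨y', hy', hyy⟩
      obtain ⟨r, hr1, hr2⟩ := K736.KM.exists_arr h𝒲.isStack.1 G hyy
      rw [← hr2]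
      exact (hinv r).1 (by rw [hr1]; exact hy')
    · intro y hy
      exact ⟨y, hy, rfl⟩
  have hQ : HasOpenLocus (𝒳 := 𝒲) (K737.Open.predOf T) := by
    obtain ⟨hQ, H⟩ := (K737.OpenSt.isOpenSubstack_iff h𝒲 _).1 (K737.OpenSt.isOpenSubstack_predOf h𝒲 hT).1
    exact K737.OpenSt.hasOpenLocus_of_hasLoci h𝒲.isStack.1 hQ H
  have hN : ∀ a : Over Z, K737.Open.predOf T (z.obj a) ↔ Set.range a.hom.left ⊆ W := fun a => by
    rw [K737.Open.predOf_obj_iff h𝒲.isStack.1 T z a, hpre]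
  have hx' : ∀ a, K737.Open.predOf T ((BasedFunctor.comp (AlgSt.overMap (opIncl Z W)) z).obj a) := fun a => by
    refine (hN _).2 ?_
    change Set.range (a.hom ≫ opIncl Z W).left ⊆ W
    rintro _ ⟨z, rfl⟩
    rw [Over.comp_left, Scheme.Hom.comp_apply]
    exact (a.hom.left z).2
  exact ⟨T, ⟨z₀, hzW, rfl⟩, hT, opOver Z W, _, hW, repByAlgSpWith_atlas hQ z W hN hx' _ hz⟩

/-- The étale neighbourhoods of S16703. -/
theorem exists_wna_nhd {𝒳 : AlgSt.Cat S} (h𝒳 : AlgSt.IsAlgStack Scheme.fppfPrecoverage 𝒳)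
    (hI : AlgSt.RepByAlgSpWith AlgSp.IsFiniteMor (FibCat.inertiaToBase (FibCat.toSelf 𝒳)))
    (x : AlgSt.Points 𝒳) :
    ∃ (𝒳' : AlgSt.Cat S) (g : 𝒳' ⥤ᵇ 𝒳), x ∈ Set.range (AlgSt.Points.map g) ∧
      AlgSt.IsAlgStack Scheme.fppfPrecoverage 𝒳' ∧ AlgSt.IsWellNighAffine 𝒳' ∧
      (∀ x' : 𝒳'.obj, Function.Bijective (Gerb.autMap g x')) ∧
      AlgSt.RepByAlgSpWith AlgSp.IsEtaleMor g ∧ AlgSt.IsSeparatedMor g := by
  obtain ⟨𝒲, g, Z, z, h𝒲, hg, hgs, haut, hz, -, hAF⟩ := exists_main h𝒳 hI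
  obtain ⟨w, rfl⟩ := K735.Top.surjective_of_repByAlgSpWith h𝒳.isStack.1 h𝒲.isStack.1 hgs x
  obtain ⟨T, hwT, hT, hwna⟩ := exists_wna_open h𝒲 hz hAF w
  obtain ⟨hOS, hr⟩ := K737.OpenSt.isOpenSubstack_predOf h𝒲 hT
  obtain ⟨-, hA, hO⟩ := hOS
  have hfib : FibCat.IsFibGrpd (AlgSt.fullSub 𝒲 (K737.Open.predOf T)).p := hA.isStack.1
  have hes : AlgSt.RepByAlgSpWith (AlgSp.IsEtaleMor ⊓ AlgSp.IsSeparatedMor)
      (BasedFunctor.comp (AlgSt.subIncl 𝒲 (K737.Open.predOf T)) g) :=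
    nice_etsep.repByAlgSpWith_comp hfib h𝒲.isStack.1 (etsep_of_isOpenImm hO) hg
  have hgf : g.toFunctor.Faithful := K734.Rep.faithful_of_repByAlgSp1 h𝒲.isStack.1 h𝒳.isStack.1 g
    (K735.Rep.repByAlgSp1_of_with hg)
  refine ⟨AlgSt.fullSub 𝒲 (K737.Open.predOf T), BasedFunctor.comp (AlgSt.subIncl 𝒲 (K737.Open.predOf T)) g,
    ?_, hA, hwna, ?_, K739.Alg.repByAlgSpWith_mono (fun _ _ _ h => h.1) hes, ?_⟩
  · rw [← hr] at hwT
    obtain ⟨w', rfl⟩ := hwT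
    exact ⟨w', K735.Pts.map_comp _ _ _⟩
  · intro x'
    refine AutLoc.bijective_autMap hfib ⟨fun {a b} f f' h => ObjectProperty.hom_ext _ (hgf.map_injective h)⟩
      fun α hα => ?_
    obtain ⟨β, -, hβ⟩ := EtWna.exists_aut h𝒳.isStack.1 (haut x'.obj).2 α hα
    exact ⟨ObjectProperty.homMk β, hβ⟩
  · exact ((Groth.Agent.S12943.result S _ 𝒳 hA h𝒳 _ (K735.Rep.repByAlgSp1_of_with hes)).out 0 2).1
      (K739.Alg.repByAlgSpWith_mono (fun _ _ _ h => h.2) hes)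

end K746.Cov
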